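import Cfsg.Agent.Lib.SzSquareSpec.Numbers
import Cfsg.Agent.Lib.LieTwisted.SuzukiOut
import Cfsg.Agent.Lib.AutPSL.Card
import Mathlib.FieldTheory.Fixed

/-!
# Elements normalising a subgroup isomorphic to a Suzuki group

Such an element has its `n`-th power in `K C(K)`, and a field automorphism fixes involutions, elements of
order five and, unless `n = 5`, elements whose order is a prime of the torus class.
-/

set_option autoImplicit false
set_option linter.unusedSectionVars false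
set_option linter.style.haveILetI false

namespace Cfsg.Agent.Lib.SzSquareSpec

open Cfsg.Agent.Lib.LieTwisted.Suzuki

section Field

variable {F : Type*} [Field F] [Fintype F] {k : ℕ} (h : IsSzField F k) (hk : 1 ≤ k)
include h hk

theorem center_eq_bot : Subgroup.center (Cfsg.Sz F k) = ⊥ := by
  haveI := h.isSimple hk
  refine (Subgroup.Normal.eq_bot_or_eq_top
    (inferInstance : (Subgroup.center (Cfsg.Sz F k)).Normal)).resolve_right fun ht => ?_
  obtain ⟨h5, h54⟩ := five_four h hk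
  have hc := Subgroup.mem_center_iff.1 (show wS h * uS h 0 1 ∈ Subgroup.center (Cfsg.Sz F k) by
    rw [ht]; exact Subgroup.mem_top _) (uS h 1 0)
  rw [hc, mul_inv_cancel_right, sq, left_eq_mul] at h54
  rw [h54, orderOf_one] at h5
  omega

theorem exists_inner_pow (φ : MulAut (Cfsg.Sz F k)) :
    ∃ g, φ ^ (2 * k + 1) = MulAut.conj g := by
  haveI : Finite (MulAut (Cfsg.Sz F k)) :=
    Finite.of_injective (fun f => (f : Cfsg.Sz F k → Cfsg.Sz F k)) DFunLike.coe_injective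
  have h1 : (QuotientGroup.mk φ : Cfsg.Out (Cfsg.Sz F k)) ^ (2 * k + 1) = 1 := by
    rw [← h.card_out hk]
    exact pow_card_eq_one'
  obtain ⟨g, hg⟩ := (QuotientGroup.eq_one_iff (φ ^ (2 * k + 1))).1 h1
  exact ⟨g, hg.symm⟩

theorem uS_zero_one_order : orderOf (uS h 0 1) = 2 := by
  haveI : Fact (Nat.Prime 2) := ⟨Nat.prime_two⟩
  refine orderOf_eq_prime ?_ fun e => ?_
  · rw [h.uS_sq, sg_zero, zero_mul, h.uS_zero]
  · exact one_ne_zero (h.uS_coords_inj (e.trans h.uS_zero.symm)).2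

theorem exists_field_fix_two (ρ : F ≃+* F) :
    ∃ z : Cfsg.Sz F k, h.fieldHom hk ρ z = z ∧ orderOf z = 2 :=
  ⟨uS h 0 1, by rw [h.fieldHom_uS, map_zero, map_one], uS_zero_one_order h hk⟩

theorem exists_field_fix_five (ρ : F ≃+* F) :
    ∃ z : Cfsg.Sz F k, h.fieldHom hk ρ z = z ∧ orderOf z = 5 :=
  ⟨wS h * uS h 0 1, by rw [map_mul, h.fieldHom_uS, h.fieldHom_wS, map_zero, map_one],
    (five_four h hk).1⟩

theorem exists_field_fix_class_one (hk2 : k ≠ 2) {ρ : F ≃+* F} {e : ℕ} (he : e.Prime) (hρ : orderOf ρ = e)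
    {c : Fin 4} (hc0 : c ≠ 0) (hc1 : c ≠ 1) (hec : e ∣ Cl k c) :
    ∃ (z : Cfsg.Sz F k) (l : ℕ), h.fieldHom hk ρ z = z ∧ l.Prime ∧ l ∣ Cl k 1 ∧ orderOf z = l := by
  classical
  haveI := Fact.mk he
  haveI : Finite (F ≃+* F) := Finite.of_injective (fun f => (f : F → F)) DFunLike.coe_injective
  letI : Fintype (Subgroup.zpowers ρ) := Fintype.ofFinite _
  let K := FixedPoints.subfield (Subgroup.zpowers ρ) F
  have hfix : ∀ x : F, x ∈ K → ρ x = x := fun x hx => hx ⟨ρ, Subgroup.mem_zpowers ρ⟩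
  by_cases hK : ∃ x : F, x ∈ K ∧ x ≠ 0 ∧ x ≠ 1
  · obtain ⟨x, hx, hx0, hx1⟩ := hK
    set u := Units.mk0 x hx0
    have hd1 : dS h u ≠ 1 := fun e1 => hx1 (by
      simpa [u] using congrArg Units.val (h.dS_injective (e1.trans (map_one (dS h)).symm)))
    obtain ⟨l, hl, hld⟩ := Nat.exists_prime_and_dvd fun e1 => hd1 (orderOf_eq_one_iff.1 e1)
    refine ⟨dS h u ^ (orderOf (dS h u) / l), l, ?_, hl, ?_,
      orderOf_pow_orderOf_div (orderOf_pos _).ne' hld⟩
    · rw [map_pow, h.fieldHom_dS]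
      congr 2
      exact Units.ext (hfix x hx)
    · refine hld.trans (orderOf_dvd_of_pow_eq_one ?_)
      rw [Cl_one, ← h.card]
      exact SzTori.dS_pow_card h hk u
  · push Not at hK
    have hK2 : Nat.card K = 2 := by
      refine Nat.card_eq_two_iff.2 ⟨0, 1, zero_ne_one, Set.eq_univ_iff_forall.2 fun x => ?_⟩
      by_cases hx : (x : F) = 0
      · exact Or.inl (Subtype.ext hx)
      · exact Or.inr (Set.mem_singleton_iff.2 (Subtype.ext (hK x x.2 hx)))
    have hK3 : Module.finrank K F = e := by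
      rw [FixedPoints.finrank_eq_card (Subgroup.zpowers ρ) F, ← Nat.card_eq_fintype_card,
        Nat.card_zpowers, hρ]
    have hn : 2 * k + 1 = e := by
      have h1 := Module.natCard_eq_pow_finrank (K := K) (V := F)
      rw [hK2, hK3, Nat.card_eq_fintype_card, h.card] at h1
      exact Nat.pow_right_injective le_rfl h1
    have h2 : e ∣ (2 ^ (2 * k + 1)) ^ 2 + 1 := by
      refine (dvd_sq_add_one he).2 ?_
      fin_cases c
      · exact absurd rfl hc0
      · exact absurd rfl hc1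
      · exact Or.inl hec
      · exact Or.inr hec
    rw [hn, ← ZMod.natCast_eq_zero_iff] at h2
    push_cast at h2
    rw [ZMod.pow_card] at h2
    have h5 : ((5 : ℕ) : ZMod e) = 0 := by
      rw [← h2]; norm_num
    have := (Nat.prime_dvd_prime_iff_eq he (by norm_num : Nat.Prime 5)).1
      ((ZMod.natCast_eq_zero_iff 5 e).1 h5)
    omega

end Field

section Act

variable {Q : Type*} [Group Q] [Finite Q] {K : Subgroup Q} {F : Type*} [Field F] [Fintype F] {k : ℕ}
  (h : IsSzField F k) (hk : 1 ≤ k) (e : K ≃* Cfsg.Sz F k)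
include h hk e

theorem inf_centralizer_eq_bot : K ⊓ Subgroup.centralizer (K : Set Q) = ⊥ := by
  refine (Subgroup.eq_bot_iff_forall _).2 fun x hx => ?_
  have hc : e ⟨x, hx.1⟩ ∈ Subgroup.center (Cfsg.Sz F k) := by
    refine Subgroup.mem_center_iff.2 fun y => ?_
    obtain ⟨z, rfl⟩ := e.surjective y
    rw [← map_mul, ← map_mul]
    exact congrArg e (Subtype.ext (Subgroup.mem_centralizer_iff.1 hx.2 z z.2))
  rw [center_eq_bot h hk, Subgroup.mem_bot, MulEquiv.map_eq_one_iff] at hc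
  exact congrArg Subtype.val hc

theorem exists_mul_centralizer {x : Q} (hx : x ∈ Subgroup.normalizer (K : Set Q)) :
    ∃ y ∈ K, y⁻¹ * x ^ (2 * k + 1) ∈ Subgroup.centralizer (K : Set Q) := by
  let ψ := (MulAut.congr e).toMonoidHom.comp K.normalizerMonoidHom
  obtain ⟨g, hg⟩ := exists_inner_pow h hk (ψ ⟨x, hx⟩)
  rw [← map_pow] at hg
  refine ⟨e.symm g, (e.symm g).2, Subgroup.mem_centralizer_iff.2 fun z hz => ?_⟩
  have h1 := DFunLike.congr_fun hg (e ⟨z, hz⟩)
  have h2 : e ⟨x ^ (2 * k + 1) * z * (x ^ (2 * k + 1))⁻¹,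
      (Subgroup.mem_normalizer_iff.1 (Subgroup.pow_mem _ hx _) z).1 hz⟩ = g * e ⟨z, hz⟩ * g⁻¹ := by
    refine Eq.trans ?_ (h1.trans (MulAut.conj_apply _ _))
    show _ = e (K.normalizerMonoidHom _ (e.symm (e ⟨z, hz⟩)))
    rw [e.symm_apply_apply]
    rfl
  have h3 : (⟨x ^ (2 * k + 1) * z * (x ^ (2 * k + 1))⁻¹,
      (Subgroup.mem_normalizer_iff.1 (Subgroup.pow_mem _ hx _) z).1 hz⟩ : K) =
      e.symm g * ⟨z, hz⟩ * (e.symm g)⁻¹ := by
    apply e.injective
    rw [h2, map_mul, map_mul, map_inv, e.apply_symm_apply]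
  have h4 : x ^ (2 * k + 1) * z * (x ^ (2 * k + 1))⁻¹ = (e.symm g : Q) * z * (e.symm g : Q)⁻¹ :=
    congrArg Subtype.val h3
  calc z * ((e.symm g : Q)⁻¹ * x ^ (2 * k + 1))
      = (e.symm g : Q)⁻¹ * ((e.symm g : Q) * z * (e.symm g : Q)⁻¹) * x ^ (2 * k + 1) := by group
    _ = (e.symm g : Q)⁻¹ * x ^ (2 * k + 1) * z := by rw [← h4]; group

/-- An element of prime order prime to `|Aut K|` centralises `K`. -/
theorem mem_centralizer_of_prime {x : Q} (hx : x ∈ Subgroup.normalizer (K : Set Q)) {s : ℕ} (hs : s.Prime)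
    (hxs : x ^ s = 1) (hsc : ¬ s ∣ Nat.card (Cfsg.Sz F k)) (hsn : ¬ s ∣ 2 * k + 1) :
    x ∈ Subgroup.centralizer (K : Set Q) := by
  obtain ⟨y, hy, hc⟩ := exists_mul_centralizer h hk e hx
  set c := y⁻¹ * x ^ (2 * k + 1) with hcdef
  have hyc : Commute y c := Subgroup.mem_centralizer_iff.1 hc y hy
  have h1 : y ^ s * c ^ s = 1 := by
    rw [← hyc.mul_pow, hcdef, mul_inv_cancel_left, ← pow_mul, mul_comm, pow_mul, hxs, one_pow]
  have hys : y ^ s = 1 := by
    have hmem : y ^ s ∈ K ⊓ Subgroup.centralizer (K : Set Q) :=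
      ⟨K.pow_mem hy _, by rw [mul_eq_one_iff_eq_inv.1 h1]; exact Subgroup.inv_mem _ (Subgroup.pow_mem _ hc _)⟩
    rwa [inf_centralizer_eq_bot h hk e, Subgroup.mem_bot] at hmem
  have hy1 : y = 1 := by
    rcases (Nat.dvd_prime hs).1 (orderOf_dvd_of_pow_eq_one hys) with h' | h'
    · exact orderOf_eq_one_iff.1 h'
    · exact absurd (by rw [← Nat.card_congr e.toEquiv, ← h']; exact Subgroup.orderOf_dvd_natCard _ hy)
        hsc
  rw [hcdef, hy1, inv_one, one_mul] at hc
  have hco : (orderOf x).Coprime (2 * k + 1) := by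
    refine Nat.Coprime.coprime_dvd_left (orderOf_dvd_of_pow_eq_one hxs) ?_
    exact hs.coprime_iff_not_dvd.2 hsn
  obtain ⟨t, ht⟩ := exists_pow_eq_self_of_coprime hco.symm
  rw [← ht]
  exact Subgroup.pow_mem _ hc t

end Act

end Cfsg.Agent.Lib.SzSquareSpec
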