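import Cfsg.Agent.Lib.SzTori.Count
import Mathlib

/-!
# The element orders of `Sz(q) × Sz(q)`

`Cl m` lists `4`, `q - 1`, `q + r + 1`, `q - r + 1` for `q = 2^(2m+1)`, `r = 2^(m+1)`.  A group
satisfies `Bound m` if every element order divides the least common multiple of two of these numbers.
-/

set_option autoImplicit false
set_option linter.unusedSectionVars false

namespace Cfsg.Agent.Lib.SzSquareSpec

open Cfsg.Agent.Lib.LieTwisted.Suzuki

/-- The four maximal element orders of `Sz(2^(2m+1))`. -/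
def Cl (m : ℕ) : Fin 4 → ℕ :=
  ![4, 2 ^ (2 * m + 1) - 1, 2 ^ (2 * m + 1) + 2 ^ (m + 1) + 1, 2 ^ (2 * m + 1) - 2 ^ (m + 1) + 1]

theorem Cl_zero (m : ℕ) : Cl m 0 = 4 := rfl
theorem Cl_one (m : ℕ) : Cl m 1 = 2 ^ (2 * m + 1) - 1 := rfl
theorem Cl_two (m : ℕ) : Cl m 2 = 2 ^ (2 * m + 1) + 2 ^ (m + 1) + 1 := rfl
theorem Cl_three (m : ℕ) : Cl m 3 = 2 ^ (2 * m + 1) - 2 ^ (m + 1) + 1 := rfl

/-- Every element order divides the least common multiple of two of the numbers `Cl m i`. -/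
def Bound (m : ℕ) (G : Type*) [Group G] : Prop :=
  ∀ g : G, ∃ i j, orderOf g ∣ Nat.lcm (Cl m i) (Cl m j)

theorem r_lt_q {m : ℕ} (hm : 1 ≤ m) : 2 * 2 ^ (m + 1) ≤ 2 ^ (2 * m + 1) := by
  rw [← pow_succ']
  exact Nat.pow_le_pow_right (by norm_num) (by omega)

theorem Cl_two_mul_three (m : ℕ) : Cl m 2 * Cl m 3 = (2 ^ (2 * m + 1)) ^ 2 + 1 := by
  rw [Cl_two, Cl_three]
  have hle : 2 ^ (m + 1) ≤ 2 ^ (2 * m + 1) := Nat.pow_le_pow_right (by norm_num) (by omega)
  have hr : (2 ^ (m + 1)) ^ 2 = 2 * 2 ^ (2 * m + 1) := by rw [← pow_mul, ← pow_succ']; ring_nf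
  zify [hle] at hr ⊢
  linear_combination -hr

theorem lt_Cl {m : ℕ} (hm : 1 ≤ m) (i : Fin 4) (hi : i ≠ 0) : 2 * m + 1 < Cl m i := by
  have h1 := r_lt_q hm
  have h2 : 2 * m + 1 < 2 ^ (m + 1) := by
    clear h1 hi hm
    induction m with
    | zero => norm_num
    | succ n ih => rw [pow_succ]; omega
  fin_cases i
  · simp at hi
  · show 2 * m + 1 < 2 ^ (2 * m + 1) - 1; omega
  · show 2 * m + 1 < 2 ^ (2 * m + 1) + 2 ^ (m + 1) + 1; omega
  · show 2 * m + 1 < 2 ^ (2 * m + 1) - 2 ^ (m + 1) + 1; omega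

theorem odd_Cl {m : ℕ} (i : Fin 4) (hi : i ≠ 0) : Odd (Cl m i) := by
  have hle : 2 ^ (m + 1) ≤ 2 ^ (2 * m + 1) := Nat.pow_le_pow_right (by norm_num) (by omega)
  have ha : Even (2 ^ (2 * m + 1)) := (Nat.even_pow).2 ⟨even_two, by omega⟩
  have hb : Even (2 ^ (m + 1)) := (Nat.even_pow).2 ⟨even_two, by omega⟩
  have hp : 1 ≤ 2 ^ (2 * m + 1) := Nat.one_le_two_pow
  fin_cases i
  · simp at hi
  · exact Nat.Even.sub_odd hp ha odd_one
  · exact (ha.add hb).add_one
  · exact (((Nat.even_sub hle).2 (iff_of_true ha hb))).add_one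

/-- The numbers are pairwise coprime. -/
theorem coprime_Cl {m : ℕ} {i j : Fin 4} (hij : i ≠ j) : (Cl m i).Coprime (Cl m j) := by
  have h0 : ∀ k : Fin 4, k ≠ 0 → Nat.Coprime 4 (Cl m k) := fun k hk =>
    show Nat.Coprime (2 ^ 2) (Cl m k) from (Nat.coprime_two_left.2 (odd_Cl k hk)).pow_left 2
  have hq : 1 ≤ 2 ^ (2 * m + 1) := Nat.one_le_two_pow
  have h1 : ∀ k : Fin 4, k = 2 ∨ k = 3 → Nat.Coprime (Cl m 1) (Cl m k) := by
    intro k hk
    refine Nat.coprime_of_dvd fun r hr hd1 hdk => ?_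
    have hd : r ∣ (2 ^ (2 * m + 1)) ^ 2 + 1 := by
      rw [← Cl_two_mul_three]
      rcases hk with rfl | rfl
      · exact hdk.trans (dvd_mul_right _ _)
      · exact hdk.trans (dvd_mul_left _ _)
    have hsq : r ∣ (2 ^ (2 * m + 1)) ^ 2 - 1 := by
      rw [Cl_one] at hd1
      refine hd1.trans ?_
      simpa using Nat.sub_dvd_pow_sub_pow (2 ^ (2 * m + 1)) 1 2 |>.trans (by simp)
    have hp : 1 ≤ (2 ^ (2 * m + 1)) ^ 2 := Nat.one_le_pow _ _ hq
    have h2 : r ∣ 2 := by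
      have := Nat.dvd_sub hd hsq
      rwa [show (2 ^ (2 * m + 1)) ^ 2 + 1 - ((2 ^ (2 * m + 1)) ^ 2 - 1) = 2 by omega] at this
    rw [(Nat.prime_dvd_prime_iff_eq hr Nat.prime_two).1 h2] at hd1
    exact (odd_Cl (m := m) 1 (by decide)).not_two_dvd_nat hd1
  have h23 : Nat.Coprime (Cl m 2) (Cl m 3) := by
    refine Nat.coprime_of_dvd fun r hr hd2 hd3 => ?_
    have h4 : r ∣ 2 ^ (m + 2) := by
      have hle : 2 ^ (m + 1) ≤ 2 ^ (2 * m + 1) := Nat.pow_le_pow_right (by norm_num) (by omega)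
      have := Nat.dvd_sub hd2 hd3
      rw [Cl_two, Cl_three] at this
      rwa [show 2 ^ (2 * m + 1) + 2 ^ (m + 1) + 1 - (2 ^ (2 * m + 1) - 2 ^ (m + 1) + 1) =
        2 ^ (m + 2) by rw [pow_succ 2 (m + 1)]; omega] at this
    rw [(Nat.prime_dvd_prime_iff_eq hr Nat.prime_two).1 (hr.dvd_of_dvd_pow h4)] at hd2
    exact (odd_Cl (m := m) 2 (by decide)).not_two_dvd_nat hd2
  fin_cases i <;> fin_cases j
  all_goals first
    | exact absurd rfl hij
    | exact h0 _ (by decide)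
    | exact (h0 _ (by decide)).symm
    | exact h1 _ (Or.inl rfl)
    | exact h1 _ (Or.inr rfl)
    | exact (h1 _ (Or.inl rfl)).symm
    | exact (h1 _ (Or.inr rfl)).symm
    | exact h23
    | exact h23.symm

theorem class_unique {m : ℕ} {p : ℕ} (hp : p.Prime) {i j : Fin 4} (hi : p ∣ Cl m i)
    (hj : p ∣ Cl m j) : i = j := by
  by_contra hne
  exact hp.not_dvd_one ((coprime_Cl (m := m) hne) ▸ Nat.dvd_gcd hi hj)

theorem class_zero_iff {m : ℕ} {p : ℕ} (hp : p.Prime) {i : Fin 4} (hi : p ∣ Cl m i) :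
    i = 0 ↔ p = 2 := by
  constructor
  · rintro rfl
    exact (Nat.prime_dvd_prime_iff_eq hp Nat.prime_two).1 (hp.dvd_of_dvd_pow (show p ∣ 2 ^ 2 from hi))
  · rintro rfl
    exact class_unique hp hi (show 2 ∣ Cl m 0 by rw [Cl_zero]; norm_num)

theorem not_three_dvd (m : ℕ) (i : Fin 4) : ¬ 3 ∣ Cl m i := by
  intro h
  have hq : 2 ^ (2 * m + 1) % 3 = 2 := by
    rw [pow_succ, pow_mul, Nat.mul_mod, Nat.pow_mod]
    norm_num
  have h23 : ¬ 3 ∣ Cl m 2 * Cl m 3 := by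
    rw [Cl_two_mul_three, Nat.dvd_iff_mod_eq_zero, Nat.add_mod, Nat.pow_mod, hq]
    norm_num
  fin_cases i
  · norm_num [Cl] at h
  · obtain ⟨c, hc⟩ : 3 ∣ 2 ^ (2 * m + 1) - 1 := h
    generalize hA : 2 ^ (2 * m + 1) = A at hq hc
    clear h23
    omega
  · exact h23 (h.mul_right _)
  · exact h23 (h.mul_left _)

theorem class_one_iff {m : ℕ} {p : ℕ} : p ∣ Cl m 1 ↔ p ∣ 2 ^ (2 * m + 1) - 1 := Iff.rfl

theorem dvd_sq_add_one {m : ℕ} {p : ℕ} (hp : p.Prime) :
    p ∣ (2 ^ (2 * m + 1)) ^ 2 + 1 ↔ p ∣ Cl m 2 ∨ p ∣ Cl m 3 := by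
  rw [← Cl_two_mul_three, hp.dvd_mul]

theorem five_dvd (m : ℕ) : 5 ∣ Cl m 2 ∨ 5 ∣ Cl m 3 := by
  rw [← dvd_sq_add_one (by norm_num : Nat.Prime 5), Nat.dvd_iff_mod_eq_zero, ← pow_mul,
    show (2 * m + 1) * 2 = 4 * m + 2 by ring, pow_add, pow_mul, Nat.add_mod, Nat.mul_mod,
    Nat.pow_mod]
  norm_num

/-! ### Consequences of the bound -/

variable {m : ℕ} {G : Type*} [Group G]

theorem Bound.of_injective {H : Type*} [Group H] (hG : Bound m G) (f : H →* G)
    (hf : Function.Injective f) : Bound m H := fun g => by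
  obtain ⟨i, j, h⟩ := hG (f g)
  exact ⟨i, j, by rwa [orderOf_injective f hf] at h⟩

theorem Bound.subgroup (hG : Bound m G) (H : Subgroup G) : Bound m H :=
  hG.of_injective H.subtype H.subtype_injective

theorem Bound.of_surjective {H : Type*} [Group H] (hG : Bound m G) (f : G →* H)
    (hf : Function.Surjective f) : Bound m H := fun g => by
  obtain ⟨x, rfl⟩ := hf g
  obtain ⟨i, j, h⟩ := hG x
  exact ⟨i, j, (orderOf_map_dvd f x).trans h⟩

theorem Bound.quotient (hG : Bound m G) (N : Subgroup G) [N.Normal] : Bound m (G ⧸ N) :=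
  hG.of_surjective _ (QuotientGroup.mk'_surjective N)

theorem lcm_pos (m : ℕ) (i j : Fin 4) : 0 < Nat.lcm (Cl m i) (Cl m j) := by
  have h : ∀ k, 0 < Cl m k := fun k => by
    by_cases hk : k = 0
    · subst hk; norm_num [Cl]
    · exact (odd_Cl k hk).pos
  exact Nat.lcm_pos (h i) (h j)

theorem Bound.orderOf_pos (hG : Bound m G) (g : G) : 0 < orderOf g := by
  obtain ⟨i, j, h⟩ := hG g
  exact Nat.pos_of_dvd_of_pos h (lcm_pos m i j)

theorem Bound.exists_class_dvd (hG : Bound m G) {g : G} {p : ℕ} (hp : p.Prime)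
    (hd : p ∣ orderOf g) : ∃ i, p ∣ Cl m i := by
  obtain ⟨i, j, h⟩ := hG g
  rcases hp.dvd_mul.1 ((hd.trans h).trans (Nat.lcm_dvd_mul _ _)) with h | h
  · exact ⟨i, h⟩
  · exact ⟨j, h⟩

theorem Bound.exists_class [Finite G] (hG : Bound m G) {p : ℕ} (hp : p.Prime)
    (hd : p ∣ Nat.card G) : ∃ i, p ∣ Cl m i := by
  haveI := Fact.mk hp
  obtain ⟨g, hg⟩ := exists_prime_orderOf_dvd_card' p hd
  exact hG.exists_class_dvd hp (by rw [hg])

theorem Bound.not_three [Finite G] (hG : Bound m G) : ¬ 3 ∣ Nat.card G := fun h => by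
  obtain ⟨i, hi⟩ := hG.exists_class Nat.prime_three h
  exact not_three_dvd m i hi

/-- No element order is divisible by primes from three classes. -/
theorem Bound.no_three_dvd (hG : Bound m G) (g : G) {p q r : ℕ} (hp : p.Prime) (hq : q.Prime)
    (hr : r.Prime) {i j k : Fin 4} (hi : p ∣ Cl m i) (hj : q ∣ Cl m j) (hk : r ∣ Cl m k)
    (hij : i ≠ j) (hik : i ≠ k) (hjk : j ≠ k) (hpg : p ∣ orderOf g) (hqg : q ∣ orderOf g)
    (hrg : r ∣ orderOf g) : False := by
  obtain ⟨a, b, h⟩ := hG g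
  have key : ∀ {s : ℕ} {c : Fin 4}, s.Prime → s ∣ Cl m c → s ∣ orderOf g → c = a ∨ c = b :=
    fun hs hc hd => (hs.dvd_mul.1 ((hd.trans h).trans (Nat.lcm_dvd_mul _ _))).imp
      (fun h' => class_unique hs hc h') (fun h' => class_unique hs hc h')
  rcases key hp hi hpg with e1 | e1 <;> rcases key hq hj hqg with e2 | e2 <;>
    rcases key hr hk hrg with e3 | e3
  all_goals first
    | exact hij (e1.trans e2.symm)
    | exact hik (e1.trans e3.symm)
    | exact hjk (e2.trans e3.symm)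

/-- No three commuting elements of prime orders from three classes. -/
theorem Bound.no_three (hG : Bound m G) {x y z : G} {p q r : ℕ} (hp : p.Prime) (hq : q.Prime)
    (hr : r.Prime) (hx : orderOf x = p) (hy : orderOf y = q) (hz : orderOf z = r)
    (hxy : Commute x y) (hxz : Commute x z) (hyz : Commute y z)
    {i j k : Fin 4} (hi : p ∣ Cl m i) (hj : q ∣ Cl m j) (hk : r ∣ Cl m k)
    (hij : i ≠ j) (hik : i ≠ k) (hjk : j ≠ k) : False := by
  have hpq : p ≠ q := fun e => hij (class_unique hp hi (e ▸ hj))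
  have hpr : p ≠ r := fun e => hik (class_unique hp hi (e ▸ hk))
  have hqr : q ≠ r := fun e => hjk (class_unique hq hj (e ▸ hk))
  have h1 : orderOf (x * y) = p * q := by
    rw [hxy.orderOf_mul_eq_mul_orderOf_of_coprime
      (by rw [hx, hy]; exact (Nat.coprime_primes hp hq).2 hpq), hx, hy]
  have h2 : orderOf (x * y * z) = p * q * r := by
    rw [(hxz.mul_left hyz).orderOf_mul_eq_mul_orderOf_of_coprime (by
      rw [h1, hz]
      exact Nat.Coprime.mul_left ((Nat.coprime_primes hp hr).2 hpr)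
        ((Nat.coprime_primes hq hr).2 hqr)), h1, hz]
  exact hG.no_three_dvd (x * y * z) hp hq hr hi hj hk hij hik hjk
    (h2 ▸ (dvd_mul_right p q).mul_right r) (h2 ▸ (dvd_mul_left q p).mul_right r)
    (h2 ▸ dvd_mul_left r _)

/-- Prime powers dividing element orders. -/
theorem Bound.pow_dvd (hG : Bound m G) (g : G) {p a : ℕ} (hp : p.Prime) {i : Fin 4}
    (hi : p ∣ Cl m i) (hd : p ^ a ∣ orderOf g) : p ^ a ∣ Cl m i := by
  rcases Nat.eq_zero_or_pos a with rfl | ha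
  · simp
  obtain ⟨b, c, h⟩ := hG g
  have h' : p ^ a ∣ Cl m b * Cl m c := (hd.trans h).trans (Nat.lcm_dvd_mul _ _)
  by_cases hb : b = i
  · by_cases hc : c = i
    · subst hb hc; exact (Nat.lcm_self (Cl m c)) ▸ hd.trans h
    · subst hb
      refine (Nat.Coprime.pow_left a ?_).dvd_of_dvd_mul_right h'
      exact hp.coprime_iff_not_dvd.2 fun hpc => hc (class_unique hp hpc hi)
  · have hpb : p.Coprime (Cl m b) := hp.coprime_iff_not_dvd.2 fun hpb => hb (class_unique hp hpb hi)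
    have hc' : p ^ a ∣ Cl m c := (Nat.Coprime.pow_left a hpb).dvd_of_dvd_mul_left h'
    rwa [← class_unique hp ((dvd_pow_self p ha.ne').trans hc') hi]

theorem Bound.no_eight (hG : Bound m G) (g : G) : ¬ 8 ∣ orderOf g := fun h => by
  have := hG.pow_dvd g Nat.prime_two (a := 3) (i := 0) (by rw [Cl_zero]; norm_num) h
  rw [Cl_zero] at this
  norm_num at this

/-! ### The Suzuki group -/

section Suzuki

variable {F : Type*} [Field F] [Fintype F] {k : ℕ} (h : IsSzField F k) (hk : 1 ≤ k)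
include h hk

theorem exists_dvd_Cl (g : Cfsg.Sz F k) : ∃ i, orderOf g ∣ Cl k i := by
  by_cases hf : SzTori.HasFix g
  · obtain ⟨x, hx⟩ := SzTori.fix_cases h hk hf
    have hconj : orderOf (x⁻¹ * g * x) = orderOf g := by
      simpa using orderOf_injective (MulAut.conj x⁻¹).toMonoidHom (MulAut.conj x⁻¹).injective g
    rw [← hconj]
    rcases hx with hx | ⟨e, -, hx⟩
    · exact ⟨0, orderOf_dvd_of_pow_eq_one (SzTori.pow_four_of_mem h hk hx)⟩
    · refine ⟨1, orderOf_dvd_of_pow_eq_one ?_⟩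
      rw [hx, Cl_one, ← h.card]
      exact SzTori.dS_pow_card h hk e
  · have hE := SzTori.inE_of_not_fix h hk hf
    have hd : orderOf g ∣ Nat.card (SzTori.cen g) :=
      Subgroup.orderOf_dvd_natCard _ (SzTori.mem_centralizer_iff'.2 rfl)
    rcases (SzTori.torus_orders h hk).1 g hE with e | e
    · exact ⟨2, by rw [Cl_two, ← e]; exact hd⟩
    · exact ⟨3, by rw [Cl_three, ← Set.mem_singleton_iff.1 e]; exact hd⟩

theorem uS_one_zero_order : orderOf (uS h 1 0) = 4 := by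
  haveI : Fact (Nat.Prime 2) := ⟨Nat.prime_two⟩
  refine orderOf_eq_prime_pow (p := 2) (n := 1) ?_ ?_
  · rw [pow_one, h.uS_sq, ← h.uS_zero, sg_one, mul_one]
    exact fun e => one_ne_zero (h.uS_coords_inj e).2
  · show uS h 1 0 ^ (2 * 2) = 1
    rw [pow_mul, h.uS_sq, h.uS_sq, sg_zero, zero_mul, h.uS_zero]

theorem exists_orderOf_Cl (i : Fin 4) : ∃ g : Cfsg.Sz F k, orderOf g = Cl k i := by
  have htor : ∀ n ∈ ({2 ^ (2 * k + 1) + 2 ^ (k + 1) + 1, 2 ^ (2 * k + 1) - 2 ^ (k + 1) + 1} : Set ℕ),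
      ∃ g : Cfsg.Sz F k, orderOf g = n := by
    intro n hn
    obtain ⟨g, hg, hc⟩ := (SzTori.torus_orders h hk).2 n hn
    haveI := SzTori.torus_cyclic h hk hg
    obtain ⟨x, hx⟩ := IsCyclic.exists_ofOrder_eq_natCard (α := SzTori.cen g)
    exact ⟨x, by rw [Subgroup.orderOf_coe, hx, hc]⟩
  fin_cases i
  · exact ⟨uS h 1 0, uS_one_zero_order h hk⟩
  · obtain ⟨e, he⟩ := IsCyclic.exists_ofOrder_eq_natCard (α := Fˣ)
    refine ⟨dS h e, ?_⟩
    rw [orderOf_injective (dS h) h.dS_injective, he, Nat.card_units, Nat.card_eq_fintype_card, h.card]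
    rfl
  · exact htor _ (Or.inl rfl)
  · exact htor _ (Or.inr rfl)

theorem exists_prime_element {p : ℕ} (hp : p.Prime) {i : Fin 4} (hi : p ∣ Cl k i) :
    ∃ g : Cfsg.Sz F k, orderOf g = p := by
  obtain ⟨g, hg⟩ := exists_orderOf_Cl h hk i
  exact ⟨g ^ (orderOf g / p), orderOf_pow_orderOf_div
    (by rw [hg]; rintro e; have := lcm_pos k i i; rw [Nat.lcm_self, e] at this; omega) (hg ▸ hi)⟩

/-- The elements of a Frobenius group of order twenty inside `Sz(2)`. -/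
theorem five_four :
    orderOf (wS h * uS h 0 1) = 5 ∧
      uS h 1 0 * (wS h * uS h 0 1) * (uS h 1 0)⁻¹ = (wS h * uS h 0 1) ^ 2 := by
  have t := h.two0
  haveI : Fact (Nat.Prime 5) := ⟨by norm_num⟩
  have hsq : (wS h * uS h 0 1) ^ 2 = wS h * uS h 0 1 * (wS h * uS h 0 1) := sq _
  have h5 : (wS h * uS h 0 1) ^ 5 = 1 := by
    apply mat_injective
    simp only [pow_succ, pow_zero, one_mul, mat_mul, mat_one, h.mat_wS, h.mat_uS]
    ext a b
    fin_cases a <;> fin_cases b <;>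
      simp [Matrix.mul_apply, Fin.sum_univ_four, wMat, utMat, zfun, sg_zero, sg_one, h.add_self, h.three1,
        h.five1, h.six0, h.four0, t]
  refine ⟨orderOf_eq_prime h5 fun e => ?_, ?_⟩
  · have := congrArg (fun g => g • opt k (none : Option (F × F))) e
    simp only [mul_smul, h.uS_smul_none, h.wS_smul_none, one_smul] at this
    exact absurd (opt_injective this) (by simp)
  · rw [h.uS_inv, hsq]
    apply mat_injective
    simp only [mat_mul, h.mat_wS, h.mat_uS]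
    ext a b
    fin_cases a <;> fin_cases b <;>
      simp [Matrix.mul_apply, Fin.sum_univ_four, wMat, utMat, zfun, sg_zero, sg_one, h.add_self, h.three1,
        h.five1, h.six0, h.four0, t]

end Suzuki

/-- Element orders of `Sz(q) × Sz(q)`. -/
theorem of_range_eq {F : Type*} [Field F] [Fintype F] (hm : 1 ≤ m) (h : IsSzField F m)
    {H : Type*} [Group H] (e : Cfsg.Sz F m ≃* H)
    (hω : Set.range (orderOf : G → ℕ) = Set.range (orderOf : H × H → ℕ)) :
    Bound m G ∧ ∀ i j, i ≠ j → ∃ g : G, orderOf g = Cl m i * Cl m j := by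
  refine ⟨fun g => ?_, fun i j hij => ?_⟩
  · obtain ⟨⟨a, b⟩, hab⟩ : orderOf g ∈ Set.range (orderOf : H × H → ℕ) := hω ▸ ⟨g, rfl⟩
    obtain ⟨x, rfl⟩ := e.surjective a
    obtain ⟨y, rfl⟩ := e.surjective b
    obtain ⟨i, hi⟩ := exists_dvd_Cl h hm x
    obtain ⟨j, hj⟩ := exists_dvd_Cl h hm y
    refine ⟨i, j, hab ▸ ?_⟩
    rw [Prod.orderOf, e.orderOf_eq, e.orderOf_eq]
    exact Nat.lcm_dvd (hi.trans (Nat.dvd_lcm_left _ _)) (hj.trans (Nat.dvd_lcm_right _ _))
  · obtain ⟨x, hx⟩ := exists_orderOf_Cl h hm i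
    obtain ⟨y, hy⟩ := exists_orderOf_Cl h hm j
    have : Cl m i * Cl m j ∈ Set.range (orderOf : G → ℕ) := by
      rw [hω]
      exact ⟨(e x, e y), by rw [Prod.orderOf, e.orderOf_eq, e.orderOf_eq, hx, hy,
        (coprime_Cl hij).lcm_eq_mul]⟩
    exact this

end Cfsg.Agent.Lib.SzSquareSpec
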