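import Cfsg.Agent.Lib.SzSquareSpec.RadicalAux
import Cfsg.Agent.Lib.SylowInter.Basic
import Cfsg.Agent.Lib.Coprime.Commutator

/-!
# The soluble kernel of a map onto a Suzuki group

If `φ : X → Sz(q₀)` is surjective with soluble kernel and `X` satisfies `Bound m`, the kernel has no element
of order a product of two primes from two odd classes, and, if `q₀ = q`, none from two classes.
-/

set_option autoImplicit false
set_option linter.unusedSectionVars false
set_option linter.style.haveILetI false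

namespace Cfsg.Agent.Lib.SzSquareSpec

open Cfsg.Agent.Lib.LieTwisted.Suzuki
open scoped commutatorElement

universe u

variable {F : Type*} [Field F] [Fintype F] {k : ℕ} (h : IsSzField F k) (hk : 1 ≤ k)
variable {X : Type u} [Group X] [Finite X] {m : ℕ} (hX : Bound m X)
  {φ : X →* Cfsg.Sz F k} (hφ : Function.Surjective φ)

/-- Elements of a given prime order exist in every cover. -/
theorem exists_mem_order {D : Subgroup X} (hD : IsCover (φ.comp D.subtype)) {l : ℕ} (hl : l.Prime)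
    (hd : l ∣ Nat.card (Cfsg.Sz F k)) : ∃ d : D, orderOf (d : X) = l := by
  haveI := Fact.mk hl
  obtain ⟨d, hd'⟩ := exists_prime_orderOf_dvd_card' (G := D) l
    (hd.trans (Subgroup.card_dvd_of_surjective _ hD.surj))
  exact ⟨d, by rw [Subgroup.orderOf_coe, hd']⟩

include h hk in
theorem dvd_card_of_dvd_Cl {l : ℕ} (hl : l.Prime) {i : Fin 4} (hi : l ∣ Cl k i) :
    l ∣ Nat.card (Cfsg.Sz F k) := by
  obtain ⟨g, hg⟩ := exists_prime_element h hk hl hi
  exact hg ▸ orderOf_dvd_natCard g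

include h hk in
/-- An involution of a cover, outside the kernel. -/
theorem exists_cover_invol {D : Subgroup X} (hX : Bound m X) (hD : IsCover (φ.comp D.subtype)) :
    ∃ u : D, u ^ 2 = 1 ∧ φ (u : X) ≠ 1 ∧ orderOf (u : X) = 2 := by
  haveI : Fact (Nat.Prime 2) := ⟨Nat.prime_two⟩
  obtain ⟨u, hu2, hu1⟩ := exists_invol h hk hD (hX.subgroup D)
  refine ⟨u, hu2, hu1, ?_⟩
  rw [Subgroup.orderOf_coe]
  exact orderOf_eq_prime hu2 fun e => hu1 (by rw [e, map_one])

include h hk hX hφ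

/-- No element of order twice a prime of an odd class in the kernel. -/
theorem no_two_mixed (hC1 : Cl k 1 ∣ Cl m 1) {p : ℕ} (hp : p.Prime) {i : Fin 4} (hi0 : i ≠ 0)
    (hi : p ∣ Cl m i) (hik : i = 1 → k = m) (g : X) (hg : g ∈ φ.ker) (hgo : orderOf g = 2 * p) :
    False := by
  haveI : Fact (Nat.Prime 2) := ⟨Nat.prime_two⟩
  haveI := Fact.mk hp
  have hp2 : p ≠ 2 := fun e => hi0 ((class_zero_iff hp hi).2 e)
  set v := g ^ p with hv
  set x := g ^ 2 with hx
  have hvo : orderOf v = 2 := by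
    rw [hv, orderOf_pow_of_dvd hp.ne_zero (hgo ▸ dvd_mul_left p 2), hgo, Nat.mul_div_cancel _ hp.pos]
  have hxo : orderOf x = p := by
    rw [hx, orderOf_pow_of_dvd two_ne_zero (hgo ▸ dvd_mul_right 2 p), hgo,
      Nat.mul_div_cancel_left _ two_pos]
  have hvk : v ∈ φ.ker := Subgroup.pow_mem _ hg _
  have htop : (⊤ : Subgroup X).map φ = ⊤ := Subgroup.map_top_of_surjective φ hφ
  obtain ⟨Q, hQk, hQ, -, hconj, hcov⟩ := exists_sylow_normalizer φ htop (N := φ.ker) le_top le_rfl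
    (fun y _ => mem_normalizer_of_forall fun z hz => (MonoidHom.normal_ker φ).conj_mem z hz y) 2
  obtain ⟨D, hDY, hD⟩ := exists_cover φ _ hcov
  obtain ⟨n, -, hle⟩ := hconj (Subgroup.zpowers v) (Subgroup.zpowers_le.2 hvk)
    (IsPGroup.of_card (n := 1) (by rw [Nat.card_zpowers, hvo, pow_one]))
  set u := n * v * n⁻¹ with hu
  have huQ : u ∈ Q := hle ⟨v, Subgroup.mem_zpowers v, rfl⟩
  have huo : orderOf u = 2 :=
    (orderOf_injective (MulAut.conj n).toMonoidHom (MulAut.conj n).injective v).trans hvo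
  have hcent := two_group h hk hD (hX.subgroup D) (Nat.card Q) X hX D.subtype Q rfl hQ
    (fun d => (hDY d.2).2)
  set Y := Subgroup.centralizer ({u} : Set X) with hY
  have hYc : Y.map φ = ⊤ := centralizer_covers φ hD (fun d => hcent d u huQ)
  have hyN : Y ≤ Subgroup.normalizer ((φ.ker ⊓ Y : Subgroup X) : Set X) := fun y hy =>
    mem_normalizer_of_forall fun z hz =>
      ⟨(MonoidHom.normal_ker φ).conj_mem z hz.1 y, Y.mul_mem (Y.mul_mem hy hz.2) (Y.inv_mem hy)⟩
  have hxY : n * x * n⁻¹ ∈ φ.ker ⊓ Y := by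
    refine ⟨(MonoidHom.normal_ker φ).conj_mem x (Subgroup.pow_mem _ hg _) n,
      Subgroup.mem_centralizer_singleton_iff.2 ?_⟩
    have h1 : Commute x v := (Commute.refl g).pow_pow 2 p
    exact (h1.map (MulAut.conj n).toMonoidHom).eq
  have hpN : p ∣ Nat.card (φ.ker ⊓ Y : Subgroup X) := by
    have h1 := Subgroup.orderOf_dvd_natCard _ hxY
    rwa [show orderOf (n * x * n⁻¹) = p from
      (orderOf_injective (MulAut.conj n).toMonoidHom (MulAut.conj n).injective x).trans hxo] at h1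
  obtain ⟨D', W, hD'Y, hD', hWN, hW1, hWe, hWn⟩ :=
    exists_cover_elementary φ hYc inf_le_right inf_le_left hyN hpN
  obtain ⟨d, hdW, l, hl, j, hj, hj0, hji, hdo⟩ : ∃ d : D', (∃ w ∈ W, w ≠ 1 ∧ Commute (d : X) w) ∧
      ∃ l, l.Prime ∧ ∃ j, l ∣ Cl m j ∧ j ≠ 0 ∧ j ≠ i ∧ orderOf (d : X) = l := by
    by_cases h1 : i = 1
    · subst h1
      have htriv := fun d => trivial_of_class_one h hk hD' (hX.subgroup D') D'.subtype hWe hWn hX
        (hik rfl) hi d
      obtain ⟨w, hw, hw1⟩ := W.bot_or_exists_ne_one.resolve_left hW1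
      obtain ⟨d, hd⟩ : ∃ d : D', orderOf (d : X) = 5 := exists_mem_order hD' (by norm_num)
        ((five_dvd k).elim (dvd_card_of_dvd_Cl h hk (by norm_num)) (dvd_card_of_dvd_Cl h hk (by norm_num)))
      refine ⟨d, ⟨w, hw, hw1, htriv d w hw⟩, 5, by norm_num, ?_⟩
      rcases five_dvd m with h5 | h5
      · exact ⟨2, h5, by decide, by decide, hd⟩
      · exact ⟨3, h5, by decide, by decide, hd⟩
    · obtain ⟨l, hl, hld⟩ := Nat.exists_prime_and_dvd
        (show Cl k 1 ≠ 1 from fun e => by have := lt_Cl (m := k) hk 1 (by decide); omega)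
      haveI := Fact.mk hl
      have hlp : l ≠ p := fun e => h1 (class_unique hp hi (e ▸ hld.trans hC1))
      obtain ⟨d, hd, w, hw, hw1, hdw⟩ :=
        fix_ell h hk hD' (hX.subgroup D') D'.subtype hp2 hWe hWn hld hlp hW1
      exact ⟨d, ⟨w, hw, hw1, hdw⟩, l, hl, 1, hld.trans hC1, by decide, fun e => h1 e.symm,
        by rw [Subgroup.orderOf_coe, hd]⟩
  obtain ⟨w, hw, hw1, hdw⟩ := hdW
  have huw : Commute u w := (Subgroup.mem_centralizer_singleton_iff.1 (hWN hw).2).symm
  have hud : Commute u (d : X) := (Subgroup.mem_centralizer_singleton_iff.1 (hD'Y d.2)).symm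
  exact hX.no_three (i := 0) Nat.prime_two hp hl huo (orderOf_eq_prime (hWe.2 w hw) hw1) hdo huw hud
    hdw.symm (by rw [Cl_zero]; norm_num) hi hj (Ne.symm hi0) (Ne.symm hj0) (Ne.symm hji)

/-- A nontrivial `p`-element of the kernel centralised by a cover together with a `q`-element. -/
theorem false_of_centralised {p q : ℕ} (hp : p.Prime) (hq : q.Prime) {i j : Fin 4} (hi : p ∣ Cl m i)
    (hj : q ∣ Cl m j) (hi0 : i ≠ 0) (hj0 : j ≠ 0) (hij : i ≠ j) {a r : X} (ha : orderOf a = q)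
    (hr : orderOf r = p) (hrk : r ∈ φ.ker) (har : Commute r a) {D : Subgroup X}
    (hD : IsCover (φ.comp D.subtype)) (hDa : ∀ d : D, Commute (d : X) a) : False := by
  haveI := Fact.mk hp
  set Y := Subgroup.centralizer ({a} : Set X)
  have hrY : r ∈ φ.ker ⊓ Y := ⟨hrk, Subgroup.mem_centralizer_singleton_iff.2 har.eq⟩
  obtain ⟨D', W, hD'Y, hD', hWN, hW1, hWe, hWn⟩ := exists_cover_elementary φ
    (centralizer_covers φ hD hDa) (N := φ.ker ⊓ Y) inf_le_right inf_le_left
    (fun y hy => mem_normalizer_of_forall fun z hz =>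
      ⟨(MonoidHom.normal_ker φ).conj_mem z hz.1 y, Y.mul_mem (Y.mul_mem hy hz.2) (Y.inv_mem hy)⟩)
    (p := p) (hr ▸ Subgroup.orderOf_dvd_natCard _ hrY)
  obtain ⟨u, hu2, hu1, huo⟩ := exists_cover_invol h hk hX hD'
  obtain ⟨w, hw, hw1, huw⟩ := fix_invol h hk hD' (hX.subgroup D') D'.subtype
    (fun e => hi0 ((class_zero_iff hp hi).2 e)) hWe hWn hW1 hu2 hu1
  exact hX.no_three (i := 0) Nat.prime_two hp hq huo (orderOf_eq_prime (hWe.2 w hw) hw1) ha huw
    (Subgroup.mem_centralizer_singleton_iff.1 (hD'Y u.2))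
    (Subgroup.mem_centralizer_singleton_iff.1 (hWN hw).2)
    (by rw [Cl_zero]; norm_num) hi hj (Ne.symm hi0) (Ne.symm hj0) hij

/-- The case `O_q(H) = 1` of `no_odd_mixed`. -/
theorem no_odd_case {p q : ℕ} [Fact p.Prime] [Fact q.Prime] {i j : Fin 4} (hi : p ∣ Cl m i)
    (hj : q ∣ Cl m j) (hi0 : i ≠ 0) (hj0 : j ≠ 0) (hij : i ≠ j) (H : Subgroup X) [Group.IsSolvable H]
    (hHk : H ≤ φ.ker) (hH : ∀ r : ℕ, r.Prime → r ∣ Nat.card H → r = p ∨ r = q)
    (hY : (Subgroup.normalizer (H : Set X)).map φ = ⊤) (hq1 : Cfsg.pCore q H = ⊥)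
    (g : X) (hg : g ∈ H) (hgo : orderOf g = p * q) : False := by
  classical
  have hp : p.Prime := Fact.out
  have hq : q.Prime := Fact.out
  have hpq : p ≠ q := fun e => hij (class_unique hp hi (e ▸ hj))
  have hp2 : p ≠ 2 := fun e => hi0 ((class_zero_iff hp hi).2 e)
  have hq2 : q ≠ 2 := fun e => hj0 ((class_zero_iff hq hj).2 e)
  have hpow : ∀ {r r' : ℕ} (_ : r.Prime) (n : ℕ), n ≠ 0 → (∀ s, s.Prime → s ∣ n → s = r ∨ s = r') →
      n.Coprime r' → ∃ a, n = r ^ a := by
    intro r r' hr n hn0 hs hco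
    refine ⟨n.primeFactorsList.length, Nat.eq_prime_pow_of_unique_prime_dvd hn0 fun {d} hd hdn => ?_⟩
    refine (hs d hd hdn).resolve_right fun e => ?_
    subst e
    exact hd.not_dvd_one (hco ▸ Nat.dvd_gcd hdn dvd_rfl)
  -- `A = O_p(H)`
  set A := Cfsg.pCore p H with hA
  have hApH : Cfsg.pPrimeCore p H = ⊥ := by
    obtain ⟨a, ha⟩ := hpow (r := q) (r' := p) hq (Nat.card (Cfsg.pPrimeCore p H)) Nat.card_pos.ne'
      (fun s hs hsd => (hH s hs (hsd.trans (Subgroup.card_subgroup_dvd_card _))).symm)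
      (Cores.pPrimeCore_coprime p)
    exact le_bot_iff.1 (hq1 ▸ Cores.le_pCore (IsPGroup.of_card ha))
  have hCA := SylowInter.Basic.centralizer_pCore_le (G := H) p hApH
  -- the quotient by `A`
  set π := QuotientGroup.mk' A with hπ
  set B := Cfsg.pCore q (H ⧸ A) with hB
  have hHq : ∀ r : ℕ, r.Prime → r ∣ Nat.card (H ⧸ A) → r = p ∨ r = q := fun r hr hd =>
    hH r hr (hd.trans (Subgroup.card_quotient_dvd_card A))
  have hBq : Cfsg.pPrimeCore q (H ⧸ A) = ⊥ := by
    obtain ⟨a, ha⟩ := hpow (r := p) (r' := q) hp (Nat.card (Cfsg.pPrimeCore q (H ⧸ A))) Nat.card_pos.ne'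
      (fun s hs hsd => hHq s hs (hsd.trans (Subgroup.card_subgroup_dvd_card _)))
      (Cores.pPrimeCore_coprime q)
    exact le_bot_iff.1 (Cores.pCore_quotient_pCore (G := H) p ▸ Cores.le_pCore (IsPGroup.of_card ha))
  have hCB := SylowInter.Basic.centralizer_pCore_le (G := H ⧸ A) q hBq
  set K := B.comap π with hK
  haveI : K.Characteristic := by
    refine Subgroup.characteristic_iff_map_le.2 fun e => ?_
    rintro _ ⟨x, hx, rfl⟩
    let e' : (H ⧸ A) ≃* (H ⧸ A) := QuotientGroup.congr A A e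
      (Subgroup.characteristic_iff_map_eq.1 inferInstance e)
    have h1 : B.map e'.toMonoidHom = B := Subgroup.characteristic_iff_map_eq.1 inferInstance e'
    show π (e x) ∈ B
    rw [← h1]
    exact ⟨π x, hx, rfl⟩
  set KX := K.map H.subtype with hKX
  obtain ⟨P, hPK, hP, hPc, hPconj, hcov⟩ := exists_sylow_normalizer φ hY (N := KX)
    ((Subgroup.map_subtype_le K).trans Subgroup.le_normalizer)
    ((Subgroup.map_subtype_le K).trans hHk) (normalizer_le_map_char H K) q
  obtain ⟨D, hDY, hD⟩ := exists_cover φ _ hcov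
  have hDA : ∀ d : D, (d : X) ∈ Subgroup.normalizer ((A.map H.subtype : Subgroup X) : Set X) :=
    fun d => normalizer_le_map_char H A (hDY d.2).1
  have hPH : P ≤ H := hPK.trans (Subgroup.map_subtype_le _)
  by_cases hcyc : IsCyclic P
  · -- `P` is cyclic and centralised
    have hcent := fun d => hD.centralises_cyclic h hk D.subtype P (fun d => (hDY d.2).2) d
    set r := g ^ q with hr
    set a₀ := g ^ p with ha₀
    have hro : orderOf r = p := by
      rw [hr, orderOf_pow_of_dvd hq.ne_zero (hgo ▸ dvd_mul_left q p), hgo, Nat.mul_div_cancel _ hq.pos]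
    have hao : orderOf a₀ = q := by
      rw [ha₀, orderOf_pow_of_dvd hp.ne_zero (hgo ▸ dvd_mul_right p q), hgo,
        Nat.mul_div_cancel_left _ hp.pos]
    -- `B` is cyclic
    have hPB : P.subgroupOf H ≤ K := fun x hx => by
      obtain ⟨y, hy, hye⟩ := hPK hx
      rwa [← Subtype.ext (a1 := y) (a2 := x) hye]
    have hBimg : (P.subgroupOf H).map π = B := by
      refine Subgroup.eq_of_le_of_card_ge (Subgroup.map_le_iff_le_comap.2 hPB) ?_
      obtain ⟨b, hb⟩ := IsPGroup.iff_card.1 (Cores.pCore_isPGroup q : IsPGroup q B)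
      have hinj : Function.Injective (π.comp (P.subgroupOf H).subtype) := by
        rw [← MonoidHom.ker_eq_bot_iff, Subgroup.eq_bot_iff_forall]
        intro x hx
        have h1 : (x : H) ∈ A := (QuotientGroup.eq_one_iff _).1 hx
        have h2 := disjoint_iff.1 (IsPGroup.disjoint_of_ne q p hpq.symm (P.subgroupOf H) A
          (hP.comap_of_injective H.subtype H.subtype_injective) (Cores.pCore_isPGroup p))
        exact Subtype.ext (Subgroup.mem_bot.1 (h2 ▸ ⟨x.2, h1⟩))
      have h3 : Nat.card ((P.subgroupOf H).map π) = Nat.card P := by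
        rw [← Nat.card_congr (Subgroup.subgroupOfEquivOfLe hPH).toEquiv]
        have h4 : (P.subgroupOf H).map π = (π.comp (P.subgroupOf H).subtype).range := by
          rw [MonoidHom.range_comp, Subgroup.range_subtype]
        rw [h4]
        exact (Nat.card_congr (MonoidHom.ofInjective hinj).toEquiv).symm
      rw [h3, hb, hPc]
      have hKc : Nat.card KX = Nat.card A * Nat.card B := by
        rw [Subgroup.card_map_of_injective H.subtype_injective,
          ← Subgroup.card_mul_index (A.subgroupOf K)]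
        congr 1
        · exact Nat.card_congr (Subgroup.subgroupOfEquivOfLe (fun z hz => by
            rw [hK, Subgroup.mem_comap, hπ, QuotientGroup.mk'_apply, (QuotientGroup.eq_one_iff z).2 hz]
            exact one_mem _)).toEquiv
        · show A.relIndex K = _
          have h5 := Subgroup.relIndex_comap (⊥ : Subgroup (H ⧸ A)) π K
          simp only [MonoidHom.comap_bot, hπ, QuotientGroup.ker_mk'] at h5
          rw [h5, hK, hπ, Subgroup.map_comap_eq_self_of_surjective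
              (QuotientGroup.mk'_surjective A), Subgroup.relIndex_bot_left]
      refine Nat.pow_le_pow_right hq.pos ?_
      rw [hKc, hb, Nat.factorization_mul Nat.card_pos.ne' (pow_ne_zero _ hq.ne_zero), Finsupp.add_apply,
        hq.factorization_pow, Finsupp.single_eq_same]
      exact Nat.le_add_left _ _
    have hBc : IsCyclic B := by
      haveI : IsCyclic (P.subgroupOf H) :=
        isCyclic_of_surjective (Subgroup.subgroupOfEquivOfLe hPH).symm (MulEquiv.surjective _)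
      rw [← hBimg]
      exact isCyclic_of_surjective (π.subgroupMap (P.subgroupOf H)) (MonoidHom.subgroupMap_surjective _ _)
    -- so `g ^ p` lies in `K`
    haveI : B.Normal := inferInstance
    set N := B ⊔ Subgroup.zpowers (π ⟨a₀, H.pow_mem hg _⟩) with hN
    have hcomm : ∀ x y : H ⧸ A, x * y * x⁻¹ * y⁻¹ ∈ B := fun x y => by
      refine hCB (Subgroup.mem_centralizer_iff.2 fun b hb => ?_)
      obtain ⟨c, hc⟩ := hBc.exists_generator
      have key : ∀ z : H ⧸ A, ∃ t : ℤ, z * (c : H ⧸ A) * z⁻¹ = (c : H ⧸ A) ^ t := fun z => by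
        obtain ⟨t, ht⟩ := Subgroup.mem_zpowers_iff.1
          (hc ⟨z * c * z⁻¹, (inferInstance : B.Normal).conj_mem _ c.2 z⟩)
        exact ⟨t, by simpa using (congrArg Subtype.val ht).symm⟩
      obtain ⟨s, hs⟩ := key x
      obtain ⟨t, ht⟩ := key y
      have hxy : (x * y) * (c : H ⧸ A) * (x * y)⁻¹ = (y * x) * c * (y * x)⁻¹ := by
        calc (x * y) * (c : H ⧸ A) * (x * y)⁻¹ = x * (y * c * y⁻¹) * x⁻¹ := by group
          _ = (x * c * x⁻¹) ^ t := by rw [ht, conj_zpow]
          _ = ((c : H ⧸ A) ^ t) ^ s := by rw [hs, ← zpow_mul, ← zpow_mul, mul_comm]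
          _ = y * (x * c * x⁻¹) * y⁻¹ := by rw [hs, ← conj_zpow, ht]
          _ = _ := by group
      have hfix : (x * y * x⁻¹ * y⁻¹) * (c : H ⧸ A) * (x * y * x⁻¹ * y⁻¹)⁻¹ = c := by
        calc (x * y * x⁻¹ * y⁻¹) * (c : H ⧸ A) * (x * y * x⁻¹ * y⁻¹)⁻¹
            = (x * y) * ((y * x)⁻¹ * c * ((y * x)⁻¹)⁻¹) * (x * y)⁻¹ := by group
          _ = c := by
            have hc' : ((y * x)⁻¹ * c * ((y * x)⁻¹)⁻¹ : H ⧸ A) ∈ B :=
              (inferInstance : B.Normal).conj_mem _ c.2 _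
            obtain ⟨l, hl⟩ := Subgroup.mem_zpowers_iff.1 (hc ⟨_, hc'⟩)
            have hl' : (c : H ⧸ A) ^ l = (y * x)⁻¹ * c * ((y * x)⁻¹)⁻¹ := by
              simpa using congrArg Subtype.val hl
            rw [← hl', ← conj_zpow, hxy, conj_zpow, hl']
            group
      obtain ⟨l, hl⟩ := Subgroup.mem_zpowers_iff.1 (hc ⟨b, hb⟩)
      have hl' : (c : H ⧸ A) ^ l = b := by simpa using congrArg Subtype.val hl
      rw [← hl']
      exact ((show Commute _ (c : H ⧸ A) from mul_inv_eq_iff_eq_mul.1 hfix).symm.zpow_left l).eq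
    haveI : N.Normal := ⟨fun z hz y => by
      have h1 := mul_mem (Subgroup.mem_sup_left (T := Subgroup.zpowers (π ⟨a₀, H.pow_mem hg _⟩)) (hcomm y z)) hz
      rwa [inv_mul_cancel_right] at h1⟩
    have hNq : IsPGroup q N := by
      refine IsPGroup.to_sup_of_normal_left (Cores.pCore_isPGroup q) ?_
      have h1 : orderOf (π ⟨a₀, H.pow_mem hg _⟩) ∣ q := by
        refine (orderOf_map_dvd π _).trans ?_
        rw [← Subgroup.orderOf_coe, Subgroup.coe_mk, hao]
      obtain ⟨e, -, he⟩ := (Nat.dvd_prime_pow hq).1 (h1.trans (pow_one q).symm.dvd)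
      exact IsPGroup.of_card (n := e) (by rw [Nat.card_zpowers, he])
    have ha₀K : a₀ ∈ KX := ⟨⟨a₀, H.pow_mem hg _⟩,
      Cores.le_pCore hNq (Subgroup.mem_sup_right (Subgroup.mem_zpowers _)), rfl⟩
    obtain ⟨n, hn, hle⟩ := hPconj (Subgroup.zpowers a₀) (Subgroup.zpowers_le.2 ha₀K)
      (IsPGroup.of_card (n := 1) (by rw [Nat.card_zpowers, hao, pow_one]))
    refine false_of_centralised h hk hX hφ hp hq hi hj hi0 hj0 hij (a := n * a₀ * n⁻¹) (r := n * r * n⁻¹)
      ((orderOf_injective (MulAut.conj n).toMonoidHom (MulAut.conj n).injective a₀).trans hao)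
      ((orderOf_injective (MulAut.conj n).toMonoidHom (MulAut.conj n).injective r).trans hro)
      ((MonoidHom.normal_ker φ).conj_mem r (hHk (H.pow_mem hg _)) n)
      (((Commute.refl g).pow_pow q p).map (MulAut.conj n).toMonoidHom) hD
      (fun d => hcent d _ (hle ⟨a₀, Subgroup.mem_zpowers _, rfl⟩))
  · -- an involution centralises a non-cyclic subgroup of `P`
    obtain ⟨u, hu2, hu1, huo, hC⟩ : ∃ u : D, u ^ 2 = 1 ∧ φ (u : X) ≠ 1 ∧ orderOf (u : X) = 2 ∧
        ¬ IsCyclic (P ⊓ Subgroup.centralizer ({((u : X))} : Set X) : Subgroup X) := by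
      set Φ := (frattini P).map P.subtype with hΦ
      have hPΦ : Subgroup.normalizer (P : Set X) ≤ Subgroup.normalizer (Φ : Set X) :=
        normalizer_le_map_char P (frattini P)
      have hΦP : Φ ≤ P := Subgroup.map_subtype_le _
      set Z := Subgroup.normalizer (Φ : Set X) with hZ
      haveI : (Φ.subgroupOf Z).Normal := Subgroup.normal_in_normalizer
      let σ := QuotientGroup.mk' (Φ.subgroupOf Z)
      let ι : D →* Z ⧸ Φ.subgroupOf Z := σ.comp (D.subtype.codRestrict Z fun d => hPΦ (hDY d.2).2)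
      set W := (P.subgroupOf Z).map σ with hW
      have hPZ : P ≤ Z := Subgroup.le_normalizer.trans hPΦ
      have hWn : ∀ d, ι d ∈ Subgroup.normalizer (W : Set (Z ⧸ Φ.subgroupOf Z)) := fun d =>
        Subgroup.le_normalizer_map σ ⟨⟨d, hPΦ (hDY d.2).2⟩,
          mem_normalizer_of_forall fun y hy => (Subgroup.mem_normalizer_iff.1 (hDY d.2).2 (y : X)).1 hy, rfl⟩
      have hWe : Cfsg.IsElementaryAbelian q W := by
        refine ⟨⟨⟨?_⟩⟩, ?_⟩
        · rintro ⟨_, a, ha, rfl⟩ ⟨_, b, hb, rfl⟩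
          refine Subtype.ext ?_
          show σ a * σ b = σ b * σ a
          rw [← mul_inv_eq_one, ← map_mul, ← map_mul, ← map_inv, ← map_mul]
          refine (QuotientGroup.eq_one_iff _).2 ⟨_, PGroups.commutatorElement_mem_frattini hP ⟨(a : X), ha⟩ ⟨(b : X), hb⟩, ?_⟩
          show ((⁅(⟨(a : X), ha⟩ : P), ⟨(b : X), hb⟩⁆ : P) : X) = (a : X) * b * ((b : X) * a)⁻¹
          simp [commutatorElement_def, mul_assoc]
        · rintro _ ⟨a, ha, rfl⟩
          rw [← map_pow]
          exact (QuotientGroup.eq_one_iff _).2 ⟨_, PGroups.pow_mem_frattini hP ⟨(a : X), ha⟩, rfl⟩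
      have hfix : ∀ u : D, orderOf (u : X) = 2 → ∀ w ∈ P, (∀ hw : w ∈ Z, Commute (ι u) (σ ⟨w, hw⟩)) →
          ∃ c ∈ P ⊓ Subgroup.centralizer ({((u : X))} : Set X), ∀ hc : c ∈ Z, ∀ hw : w ∈ Z, σ ⟨c, hc⟩ = σ ⟨w, hw⟩ := by
        intro u huo w hw hcw
        obtain ⟨b, hb⟩ := IsPGroup.iff_card.1 (hP.to_le hΦP)
        obtain ⟨n, hn, hnc⟩ := Coprime.exists_fixed_mul (A := Subgroup.zpowers (u : X)) (N := Φ)
          (Subgroup.zpowers_le.2 (hPΦ (hDY u.2).2))
          (by rw [Nat.card_zpowers, huo, hb]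
              exact ((Nat.coprime_primes Nat.prime_two hq).2 hq2.symm).pow_right b)
          (Or.inl (by infer_instance)) (k := w) (fun e he => by
            obtain ⟨t, rfl⟩ := Subgroup.mem_zpowers_iff.1 he
            have hu' : (u : X) ∈ Z := hPΦ (hDY u.2).2
            have h1 : σ ((⟨(u : X), hu'⟩ : Z) ^ t * ⟨w, hPZ hw⟩ * ((⟨(u : X), hu'⟩ : Z) ^ t)⁻¹ *
                (⟨w, hPZ hw⟩ : Z)⁻¹) = 1 := by
              rw [map_mul, map_mul, map_mul, map_inv, map_inv, map_zpow]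
              have h2 := ((hcw (hPZ hw)).zpow_left t).eq
              change (σ ⟨(u : X), hu'⟩) ^ t * σ ⟨w, hPZ hw⟩ = σ ⟨w, hPZ hw⟩ * (σ ⟨(u : X), hu'⟩) ^ t at h2
              rw [h2]; group
            simpa [Subgroup.mem_subgroupOf] using (QuotientGroup.eq_one_iff _).1 h1)
        refine ⟨n * w, ⟨mul_mem (hΦP hn) hw, Subgroup.mem_centralizer_singleton_iff.2
          (Subgroup.mem_centralizer_iff.1 hnc u (Subgroup.mem_zpowers _)).symm⟩, fun hc hw' => ?_⟩
        rw [show (⟨n * w, hc⟩ : Z) = ⟨n, Subgroup.le_normalizer hn⟩ * ⟨w, hw'⟩ from rfl, map_mul,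
          show σ ⟨n, Subgroup.le_normalizer hn⟩ = 1 from (QuotientGroup.eq_one_iff _).2 hn, one_mul]
      by_cases htriv : ∀ d, ∀ w ∈ W, Commute (ι d) w
      · obtain ⟨u, hu2, hu1, huo⟩ := exists_cover_invol h hk hX hD
        refine ⟨u, hu2, hu1, huo, ?_⟩
        have hall : P ≤ Subgroup.centralizer ({((u : X))} : Set X) := by
          intro w hw
          obtain ⟨b, hb⟩ := IsPGroup.iff_card.1 (hP.to_le hΦP)
          have hle := Coprime.le_centralizer_of_frattini (A := Subgroup.zpowers (u : X)) (K := P)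
            (Subgroup.zpowers_le.2 (hDY u.2).2) (by
              rw [Nat.card_zpowers, huo]
              rw [← Subgroup.card_map_of_injective P.subtype_injective, ← hΦ, hb]
              exact ((Nat.coprime_primes Nat.prime_two hq).2 hq2.symm).pow_right b)
            (fun e he w hw => by
              have heD : e ∈ D := (Subgroup.zpowers_le.2 u.2) he
              have h1 := (htriv ⟨e, heD⟩ (σ ⟨w, hPZ hw⟩) ⟨⟨w, hPZ hw⟩, hw, rfl⟩).eq
              have h2 : σ ((⟨e, hPΦ (hDY heD).2⟩ : Z) * ⟨w, hPZ hw⟩ * (⟨e, hPΦ (hDY heD).2⟩ : Z)⁻¹ *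
                  (⟨w, hPZ hw⟩ : Z)⁻¹) = 1 := by
                rw [map_mul, map_mul, map_mul, map_inv, map_inv]
                change σ ⟨e, hPΦ (hDY heD).2⟩ * σ ⟨w, hPZ hw⟩ = _ at h1
                rw [h1]
                show σ ⟨w, hPZ hw⟩ * σ ⟨e, _⟩ * (σ ⟨e, _⟩)⁻¹ * (σ ⟨w, hPZ hw⟩)⁻¹ = 1
                group
              have h3 := (QuotientGroup.eq_one_iff (N := Φ.subgroupOf Z) _).1 h2
              rw [Subgroup.mem_subgroupOf] at h3
              exact h3)
          exact Subgroup.mem_centralizer_singleton_iff.2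
            (Subgroup.mem_centralizer_iff.1 (hle (Subgroup.mem_zpowers _)) w hw)
        rw [inf_eq_left.2 hall]
        exact hcyc
      · obtain ⟨u, hu2, hu1, w₁, hw₁, w₂, hw₂, hc₁, hc₂, hne₁, hnm⟩ :=
          fix_two h hk hD (hX.subgroup D) ι hq2 hWe hWn htriv
        haveI : Fact (Nat.Prime 2) := ⟨Nat.prime_two⟩
        have huo : orderOf (u : X) = 2 := by
          rw [Subgroup.orderOf_coe]
          exact orderOf_eq_prime hu2 fun e => hu1 (by rw [e, map_one])
        refine ⟨u, hu2, hu1, huo, fun hcy => hnm ?_⟩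
        obtain ⟨v₁, hv₁, rfl⟩ := hw₁
        obtain ⟨v₂, hv₂, rfl⟩ := hw₂
        obtain ⟨c₁, hc₁', he₁⟩ := hfix u huo v₁ hv₁ (fun _ => hc₁)
        obtain ⟨c₂, hc₂', he₂⟩ := hfix u huo v₂ hv₂ (fun _ => hc₂)
        obtain ⟨g₀, hg₀⟩ := hcy.exists_generator
        obtain ⟨s, hs⟩ := Subgroup.mem_zpowers_iff.1 (hg₀ ⟨c₁, hc₁'⟩)
        obtain ⟨t, ht⟩ := Subgroup.mem_zpowers_iff.1 (hg₀ ⟨c₂, hc₂'⟩)
        have hg₀Z : (g₀ : X) ∈ Z := hPZ g₀.2.1
        have e₁ : σ ⟨(g₀ : X), hg₀Z⟩ ^ s = σ v₁ := by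
          rw [← he₁ (hPZ hc₁'.1) v₁.2, ← map_zpow]
          exact congrArg σ (Subtype.ext (by simpa using congrArg Subtype.val hs))
        have e₂ : σ ⟨(g₀ : X), hg₀Z⟩ ^ t = σ v₂ := by
          rw [← he₂ (hPZ hc₂'.1) v₂.2, ← map_zpow]
          exact congrArg σ (Subtype.ext (by simpa using congrArg Subtype.val ht))
        set γ := σ ⟨(g₀ : X), hg₀Z⟩
        have hγ : γ ^ q = 1 := hWe.2 γ ⟨⟨(g₀ : X), hg₀Z⟩, g₀.2.1, rfl⟩
        have hzp : Subgroup.zpowers (σ v₁) = Subgroup.zpowers γ := by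
          refine Subgroup.eq_of_le_of_card_ge (e₁ ▸ Subgroup.zpowers_le.2 (Subgroup.zpow_mem _ (Subgroup.mem_zpowers γ) s)) ?_
          rw [Nat.card_zpowers, Nat.card_zpowers, orderOf_eq_prime (hWe.2 _ ⟨v₁, hv₁, rfl⟩) hne₁]
          exact Nat.le_of_dvd hq.pos (orderOf_dvd_of_pow_eq_one hγ)
        rw [hzp, ← e₂]
        exact Subgroup.zpow_mem _ (Subgroup.mem_zpowers γ) t
    -- some element of order `q` fixes a point of `C_W(u)`
    have hA1 : A ≠ ⊥ := by
      intro e
      rw [hA] at e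
      rw [e] at hCA
      have h1 := hCA (x := ⟨g, hg⟩) (by rw [Subgroup.mem_centralizer_iff]; intro z hz; rw [Subgroup.mem_bot.1 (e ▸ hz : z ∈ (⊥ : Subgroup H))]; simp)
      rw [Subgroup.mem_bot] at h1
      have h2 : orderOf g = 1 := orderOf_eq_one_iff.2 (congrArg Subtype.val h1)
      rw [hgo] at h2
      exact hp.ne_one (Nat.eq_one_of_mul_eq_one_right h2)
    obtain ⟨W, hW1, hWA, hWe, -, hWn⟩ := exists_omega
      (P := A.map H.subtype) ((Cores.pCore_isPGroup p).map _)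
      (by rwa [Ne, Subgroup.map_eq_bot_iff_of_injective _ H.subtype_injective])
    obtain ⟨w, hw, hw1, huw⟩ := fix_invol h hk hD (hX.subgroup D) D.subtype hp2 hWe
      (fun d => hWn (hDA d)) hW1 hu2 hu1
    set V := W ⊓ Subgroup.centralizer ({((u : X))} : Set X) with hV
    set C := P ⊓ Subgroup.centralizer ({((u : X))} : Set X) with hCdef
    haveI : Nontrivial V := ⟨⟨⟨w, hw, Subgroup.mem_centralizer_singleton_iff.2 huw.eq.symm⟩, 1,
      fun e => hw1 (congrArg Subtype.val e)⟩⟩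
    letI : CommGroup V :=
      { V.toGroup with
        mul_comm := fun a b => Subtype.ext (congrArg (fun t : W => (t : X)) (hWe.1.is_comm.comm ⟨a, a.2.1⟩ ⟨b, b.2.1⟩)) }
    have hCn : C ≤ Subgroup.normalizer (V : Set X) := fun c hc => mem_normalizer_of_forall fun z hz =>
      ⟨(Subgroup.mem_normalizer_iff.1 (hWn (normalizer_le_map_char H A (Subgroup.le_normalizer (hPH hc.1)))) z).1 hz.1,
        Subgroup.mul_mem _ (Subgroup.mul_mem _ hc.2 hz.2) (Subgroup.inv_mem _ hc.2)⟩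
    refine hC (SylowInter.OddCyclic.isCyclic_of_fpf
      (ρ := V.normalizerMonoidHom.comp (Subgroup.inclusion hCn)) ?_ hq2 (hP.to_le inf_le_left))
    intro c hc1 z hz
    by_contra hz1
    have hcz : Commute (c : X) z := mul_inv_eq_iff_eq_mul.1 (congrArg Subtype.val hz)
    obtain ⟨b, hb⟩ := IsPGroup.iff_orderOf.1 (hP.to_le inf_le_left) c
    have hb0 : b ≠ 0 := fun e => hc1 (orderOf_eq_one_iff.1 (by rw [hb, e, pow_zero]))
    have hqc : q ∣ orderOf (c : X) := by rw [Subgroup.orderOf_coe, hb]; exact dvd_pow_self q hb0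
    exact hX.no_three (i := 0) Nat.prime_two hp hq huo
      (orderOf_eq_prime (hWe.2 z z.2.1) fun e => hz1 (Subtype.ext e))
      (orderOf_pow_orderOf_div (orderOf_pos (c : X)).ne' hqc)
      (Subgroup.mem_centralizer_singleton_iff.1 z.2.2).symm
      ((show Commute (u : X) c from (Subgroup.mem_centralizer_singleton_iff.1 c.2.2).symm).pow_right _)
      (hcz.symm.pow_right _) (by rw [Cl_zero]; norm_num) hi hj (Ne.symm hi0) (Ne.symm hj0) hij

/-- No element of order a product of two primes of distinct odd classes in the soluble kernel. -/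
theorem no_odd_mixed [Group.IsSolvable φ.ker] {p q : ℕ} (hp : p.Prime) (hq : q.Prime) {i j : Fin 4}
    (hi : p ∣ Cl m i) (hj : q ∣ Cl m j) (hi0 : i ≠ 0) (hj0 : j ≠ 0) (hij : i ≠ j) (g : X)
    (hg : g ∈ φ.ker) (hgo : orderOf g = p * q) : False := by
  classical
  haveI := Fact.mk hp
  haveI := Fact.mk hq
  have hpq : p ≠ q := fun e => hij (class_unique hp hi (e ▸ hj))
  have hπ : ∀ r : ℕ, r.Prime → r ∣ Nat.card (Subgroup.zpowers (⟨g, hg⟩ : φ.ker)) → r ∈ ({p, q} : Set ℕ) := by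
    intro r hr hd
    rw [Nat.card_zpowers, ← Subgroup.orderOf_coe, Subgroup.coe_mk, hgo] at hd
    rcases hr.dvd_mul.1 hd with h' | h'
    · exact Or.inl ((Nat.prime_dvd_prime_iff_eq hr hp).1 h')
    · exact Or.inr ((Nat.prime_dvd_prime_iff_eq hr hq).1 h')
  obtain ⟨H₀, hH₀, hgH₀⟩ := Hall.exists_isPiHall_ge (G := φ.ker) hπ
  set H := H₀.map φ.ker.subtype with hH
  have hgH : g ∈ H := ⟨⟨g, hg⟩, hgH₀ (Subgroup.mem_zpowers _), rfl⟩
  have hHk : H ≤ φ.ker := Subgroup.map_subtype_le _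
  haveI : Group.IsSolvable H := Group.isSolvable_of_isSolvable_injective (Subgroup.inclusion_injective hHk)
  have hHc : ∀ r : ℕ, r.Prime → r ∣ Nat.card H → r = p ∨ r = q := fun r hr hd => by
    rw [Subgroup.card_map_of_injective φ.ker.subtype_injective] at hd
    exact hH₀.1 r hr hd
  have hY : (Subgroup.normalizer (H : Set X)).map φ = ⊤ := by
    have := covers_normalizer φ (Subgroup.map_top_of_surjective φ hφ) H (fun y _ => ?_)
    · rwa [top_inf_eq] at this
    · haveI : φ.ker.Normal := MonoidHom.normal_ker φ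
      let e : φ.ker ≃* φ.ker := MulAut.conjNormal y
      have h1 : Cfsg.IsPiHall ({p, q} : Set ℕ) (H₀.map e.toMonoidHom) := by
        refine ⟨fun r hr hd => hH₀.1 r hr ?_, fun r hr hrπ => ?_⟩
        · rwa [show Nat.card (H₀.map e.toMonoidHom) = Nat.card H₀ from
            Nat.card_congr (H₀.equivMapOfInjective e.toMonoidHom e.injective).symm.toEquiv] at hd
        · rw [show (H₀.map e.toMonoidHom).index = H₀.index from Subgroup.index_map_equiv H₀ e]
          exact hH₀.2 r hr hrπ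
      obtain ⟨r, hr⟩ := Hall.exists_conj_eq h1 hH₀
      refine ⟨r, Subgroup.mem_top _, r.2, ?_⟩
      rintro _ ⟨_, ⟨x, hx, rfl⟩, rfl⟩
      refine ⟨r * e x * r⁻¹, ?_, ?_⟩
      · exact hr ▸ ⟨e x, ⟨x, hx, rfl⟩, rfl⟩
      · show (r : X) * (y * (x : X) * y⁻¹) * (r : X)⁻¹ = ((r : X) * y) * x * ((r : X) * y)⁻¹
        group
  by_cases h1 : Cfsg.pCore q H = ⊥
  · exact no_odd_case h hk hX hφ hi hj hi0 hj0 hij H hHk hHc hY h1 g hgH hgo
  by_cases h2 : Cfsg.pCore p H = ⊥
  · exact no_odd_case h hk hX hφ hj hi hj0 hi0 (Ne.symm hij) H hHk (fun r hr hd => (hHc r hr hd).symm)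
      hY h2 g hgH (by rw [hgo, mul_comm])
  obtain ⟨D, hDY, hD⟩ := exists_cover φ _ hY
  obtain ⟨u, hu2, hu1, huo⟩ := exists_cover_invol h hk hX hD
  obtain ⟨W₁, hW₁, hW₁A, hW₁e, -, hW₁n⟩ := exists_omega
    (P := (Cfsg.pCore p H).map H.subtype) ((Cores.pCore_isPGroup p).map _)
    (by rwa [Ne, Subgroup.map_eq_bot_iff_of_injective _ H.subtype_injective])
  obtain ⟨W₂, hW₂, hW₂A, hW₂e, -, hW₂n⟩ := exists_omega
    (P := (Cfsg.pCore q H).map H.subtype) ((Cores.pCore_isPGroup q).map _)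
    (by rwa [Ne, Subgroup.map_eq_bot_iff_of_injective _ H.subtype_injective])
  obtain ⟨w₁, hw₁, hne₁, huw₁⟩ := fix_invol h hk hD (hX.subgroup D) D.subtype
    (fun e => hi0 ((class_zero_iff hp hi).2 e)) hW₁e
    (fun d => hW₁n (normalizer_le_map_char H _ (hDY d.2))) hW₁ hu2 hu1
  obtain ⟨w₂, hw₂, hne₂, huw₂⟩ := fix_invol h hk hD (hX.subgroup D) D.subtype
    (fun e => hj0 ((class_zero_iff hq hj).2 e)) hW₂e
    (fun d => hW₂n (normalizer_le_map_char H _ (hDY d.2))) hW₂ hu2 hu1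
  have h12 : Commute w₁ w₂ := by
    obtain ⟨a, ha, rfl⟩ := hW₁A hw₁
    obtain ⟨b, hb, rfl⟩ := hW₂A hw₂
    exact (Subgroup.commute_of_normal_of_disjoint _ _ inferInstance inferInstance
      (IsPGroup.disjoint_of_ne p q hpq _ _ (Cores.pCore_isPGroup p) (Cores.pCore_isPGroup q)) a b ha hb).map H.subtype
  exact hX.no_three (i := 0) Nat.prime_two hp hq huo (orderOf_eq_prime (hW₁e.2 w₁ hw₁) hne₁)
    (orderOf_eq_prime (hW₂e.2 w₂ hw₂) hne₂) huw₁ huw₂ h12
    (by rw [Cl_zero]; norm_num) hi hj (Ne.symm hi0) (Ne.symm hj0) hij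

end Cfsg.Agent.Lib.SzSquareSpec
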