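import Cfsg.Agent.Lib.SzSquareSpec.Layer
import Cfsg.Agent.Lib.SzSquareSpec.Radical
import Cfsg.Agent.Lib.PrimeGraph.NoTriple.Main
import Cfsg.Agent.Lib.PrimeGraph.Three

/-!
# The quotient by the soluble radical has two components, one of them full

A group satisfying `Bound m` with elements of all the orders `Cl m i * Cl m j` is not soluble, modulo its
radical some component is `Sz(2^(2m+1))`, and there is a second component.
-/

set_option autoImplicit false
set_option linter.unusedSectionVars false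
set_option linter.style.haveILetI false

namespace Cfsg.Agent.Lib.SzSquareSpec

open Cfsg.Agent.Lib.LieTwisted.Suzuki Cfsg.Agent.Lib.PrimePowerClass.Radical Cfsg.Agent.Lib.Components

universe u

variable {G : Type u} [Group G] [Finite G]

/-- The map of a component's preimage onto its Suzuki group. -/
theorem exists_hom {N : Subgroup G} [N.Normal] {K : Subgroup (G ⧸ N)} {S : Type*} [Group S] (e : K ≃* S) :
    ∃ φ : K.comap (QuotientGroup.mk' N) →* S, Function.Surjective φ ∧ ∀ x, φ x = 1 ↔ (x : G) ∈ N := by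
  refine ⟨e.toMonoidHom.comp ((QuotientGroup.mk' N).subgroupComap K),
    e.surjective.comp ((QuotientGroup.mk' N).subgroupComap_surjective_of_surjective K
      (QuotientGroup.mk'_surjective N)), fun x => ?_⟩
  show e _ = 1 ↔ _
  rw [MulEquiv.map_eq_one_iff, ← QuotientGroup.eq_one_iff (N := N)]
  exact ⟨fun he => congrArg Subtype.val he, fun he => Subtype.ext he⟩

theorem isSolvable_ker {X : Subgroup G} {S : Type*} [Group S] {φ : X →* S} {N : Subgroup G}
    (hN : Group.IsSolvable N) (hker : ∀ x, φ x = 1 ↔ (x : G) ∈ N) : Group.IsSolvable φ.ker := by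
  haveI := hN
  exact Group.isSolvable_of_isSolvable_injective
    (f := ((X.subtype.comp φ.ker.subtype).codRestrict N fun x => (hker x).1 x.2))
    fun a b e => Subtype.ext (Subtype.ext (congrArg (fun t : N => (t : G)) e))

theorem two_components_sq_mem {Q : Type u} [Group Q] [Finite Q] {m : ℕ} (hQ : solRad Q = ⊥)
    (hT : Thompson3Prime33.ThreePrimeSimple.{u}) (hB : Bound m Q) {K : Subgroup Q}
    (hK : Cfsg.IsComponent K) (y : Q) : y * y ∈ Subgroup.normalizer (K : Set Q) := by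
  set f := (MulAut.conj y).toMonoidHom
  have hN : K.map f = K → y ∈ Subgroup.normalizer (K : Set Q) :=
    Subgroup.mem_normalizer_iff_map_conj_eq.2
  have h2 : (K.map f).map f = K.map (MulAut.conj (y * y)).toMonoidHom := by
    rw [Subgroup.map_map]
    congr 1
    ext z
    simp [f, mul_assoc]
  rcases no_three_components hQ hT hB hK (Component.conj hK y) (Component.conj (Component.conj hK y) y)
    with e | e | e
  · exact mul_mem (hN e.symm) (hN e.symm)
  · exact Subgroup.mem_normalizer_iff_map_conj_eq.2 (h2.symm.trans e.symm)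
  · have e' := Subgroup.map_injective (f := f) (MulAut.conj y).injective e
    exact mul_mem (hN e'.symm) (hN e'.symm)

theorem mem_normalizer_of_odd {Q : Type u} [Group Q] [Finite Q] {m : ℕ} (hQ : solRad Q = ⊥)
    (hT : Thompson3Prime33.ThreePrimeSimple.{u}) (hB : Bound m Q) {K : Subgroup Q}
    (hK : Cfsg.IsComponent K) {y : Q} (hy : Odd (orderOf y)) :
    y ∈ Subgroup.normalizer (K : Set Q) := by
  obtain ⟨t, ht⟩ := exists_pow_eq_self_of_coprime (x := y) (n := 2)
    (Nat.coprime_two_left.2 hy)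
  rw [← ht]
  exact Subgroup.pow_mem _ (by rw [sq]; exact two_components_sq_mem hQ hT hB hK y) t

variable {m : ℕ} (hm : 1 ≤ m) (hG : Bound m G)
  (hP : ∀ i j, i ≠ j → ∃ g : G, orderOf g = Cl m i * Cl m j)
include hm hG hP

theorem not_solvable_of_pairs : ¬ Group.IsSolvable G := by
  have hex : ∀ i : Fin 4, ∃ p, p.Prime ∧ p ∣ Cl m i := fun i => Nat.exists_prime_and_dvd (by
    by_cases hi : i = 0
    · subst hi; rw [Cl_zero]; norm_num
    · have := lt_Cl hm i hi; omega)
  choose f hfp hfd using hex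
  have hinj : Function.Injective f := fun i j e => class_unique (hfp i) (hfd i) (e ▸ hfd j)
  refine PrimeGraph.NoTriple.not_isSolvable (Finset.univ.image f)
    (by rw [Finset.card_image_of_injective _ hinj]; simp) (fun p hp => ?_) ?_ ?_
  · obtain ⟨i, -, rfl⟩ := Finset.mem_image.1 hp
    exact hfp i
  · intro p hp q hq hpq
    obtain ⟨i, -, rfl⟩ := Finset.mem_image.1 hp
    obtain ⟨j, -, rfl⟩ := Finset.mem_image.1 hq
    obtain ⟨g, hg⟩ := hP i j fun e => hpq (by rw [e])
    exact ⟨g ^ (orderOf g / (f i * f j)), orderOf_pow_orderOf_div (orderOf_pos g).ne'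
      (hg ▸ mul_dvd_mul (hfd i) (hfd j))⟩
  · intro p hp q hq r hr hpq hqr hpr g hg
    obtain ⟨i, -, rfl⟩ := Finset.mem_image.1 hp
    obtain ⟨j, -, rfl⟩ := Finset.mem_image.1 hq
    obtain ⟨l, -, rfl⟩ := Finset.mem_image.1 hr
    exact hG.no_three_dvd g (hfp i) (hfp j) (hfp l) (hfd i) (hfd j) (hfd l) (fun e => hpq (by rw [e]))
      (fun e => hpr (by rw [e])) (fun e => hqr (by rw [e])) (hg ▸ (dvd_mul_right _ _).mul_right _)
      (hg ▸ (dvd_mul_left _ _).mul_right _) (hg ▸ dvd_mul_left _ _)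

theorem nontrivial_quotient : Nontrivial (G ⧸ solRad G) := by
  by_contra hne
  rw [not_nontrivial_iff_subsingleton, QuotientGroup.subsingleton_iff] at hne
  refine not_solvable_of_pairs hm hG hP ?_
  haveI := solRad_isSolvable (G := G)
  exact Group.isSolvable_of_surjective (f := (solRad G).subtype) fun x => ⟨⟨x, hne ▸ Subgroup.mem_top x⟩, rfl⟩

variable (hT : Thompson3Prime33.ThreePrimeSimple.{u})
include hT

/-- Some component is a Suzuki group over the field with `2^(2m+1)` elements. -/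
theorem exists_full : ∃ K : Subgroup (G ⧸ solRad G), Cfsg.IsComponent K ∧
    ∃ (F : Type) (_ : Field F) (_ : Fintype F), IsSzField F m ∧ Nonempty (K ≃* Cfsg.Sz F m) := by
  by_contra hne
  have hQ := solRad_quotient (G := G)
  have hB := hG.quotient (solRad G)
  obtain ⟨s, r, c, hs, hr, hsc, hrc, hc0, hc1, hs2, hr2, hsn, hrn, hsk, hrk⟩ := exists_primes hm
  obtain ⟨g, hg⟩ := hP 1 c (Ne.symm hc1)
  set x := g ^ (orderOf g / (s * r)) with hx
  have hxo : orderOf x = s * r :=
    orderOf_pow_orderOf_div (orderOf_pos g).ne' (hg ▸ mul_dvd_mul hsc hrc)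
  have key : ∀ (p : ℕ) (y : G ⧸ solRad G), p.Prime → p ≠ 2 → 2 * m + 1 < p →
      (∀ k, k < m → (2 : ZMod p) ^ (4 * (2 * k + 1)) ≠ 1) → y ^ p = 1 → y = 1 := by
    intro p y hp hp2 hpn hpk hyp
    refine eq_one_of_centralizes hQ fun K hK => ?_
    obtain ⟨F, _, _, k, hk, h, hkm, ⟨e⟩⟩ := exists_model hQ hT hB hK
    have hkle := Nat.le_of_dvd (by omega) hkm
    have hkm' : k < m := by
      refine lt_of_le_of_ne (by omega) fun he => hne ⟨K, hK, F, inferInstance, inferInstance, ?_, ?_⟩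
      · exact he ▸ h
      · exact he ▸ ⟨e⟩
    have hodd : Odd (orderOf y) :=
      (hp.odd_of_ne_two hp2).of_dvd_nat (orderOf_dvd_of_pow_eq_one hyp)
    refine mem_centralizer_of_prime h hk e (mem_normalizer_of_odd hQ hT hB hK hodd) hp hyp
      (fun hd => (card_primes h hk hp hd).elim hp2 (hpk k hkm')) fun hd => ?_
    have := Nat.le_of_dvd (by omega) hd
    omega
  set π := QuotientGroup.mk' (solRad G)
  have hxs : (π x ^ r) ^ s = 1 := by
    rw [← pow_mul, ← map_pow, mul_comm, ← hxo, pow_orderOf_eq_one, map_one]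
  have hxr : (π x ^ s) ^ r = 1 := by
    rw [← pow_mul, ← map_pow, ← hxo, pow_orderOf_eq_one, map_one]
  have hsr : s ≠ r := fun e => hc1 (class_unique hr hrc (e ▸ hsc))
  have hx1 : π x = 1 := by
    have h1 := pow_gcd_eq_one.2 (And.intro (key s _ hs hs2 hsn hsk hxs) (key r _ hr hr2 hrn hrk hxr))
    rwa [((Nat.coprime_primes hr hs).2 (Ne.symm hsr)).gcd_eq_one, pow_one] at h1
  haveI := nontrivial_quotient hm hG hP
  obtain ⟨K, hK⟩ := exists_component hQ
  obtain ⟨F, _, _, k, hk, h, hkm, ⟨e⟩⟩ := exists_model hQ hT hB hK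
  obtain ⟨φ, hφ, hker⟩ := exists_hom e
  haveI := isSolvable_ker (solRad_isSolvable (G := G)) hker
  have hxX : x ∈ K.comap π := by rw [Subgroup.mem_comap, hx1]; exact one_mem _
  exact no_odd_mixed h hk (hG.subgroup _) hφ hs hr hsc hrc (by decide) hc0 (Ne.symm hc1) ⟨x, hxX⟩
    ((hker _).2 ((QuotientGroup.eq_one_iff x).1 hx1)) (by rw [← Subgroup.orderOf_coe, hxo])

/-- There is a second component. -/
theorem exists_second {K : Subgroup (G ⧸ solRad G)} (hK : Cfsg.IsComponent K) {F : Type} [Field F]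
    [Fintype F] (h : IsSzField F m) (e : K ≃* Cfsg.Sz F m) :
    ∃ K', Cfsg.IsComponent K' ∧ K' ≠ K := by
  by_contra hne
  push Not at hne
  have hQ := solRad_quotient (G := G)
  set π := QuotientGroup.mk' (solRad G)
  have hinX : ∀ g : G, g ^ (2 * m + 1) ∈ K.comap π := by
    intro g
    obtain ⟨y, hy, hc⟩ := exists_mul_centralizer h hm e
      (Subgroup.mem_normalizer_iff_map_conj_eq.2 (hne _ (Component.conj hK (π g))))
    have h1 := eq_one_of_centralizes hQ (x := y⁻¹ * π g ^ (2 * m + 1)) fun K' hK' => by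
      rw [hne K' hK']; exact hc
    rw [inv_mul_eq_one] at h1
    rw [Subgroup.mem_comap, map_pow, ← h1]
    exact hy
  obtain ⟨φ, hφ, hker⟩ := exists_hom e
  haveI := isSolvable_ker (solRad_isSolvable (G := G)) hker
  have hnot : ∀ i : Fin 4, ¬ Cl m i ∣ 2 * m + 1 := by
    intro i hd
    by_cases hi : i = 0
    · subst hi
      rw [Cl_zero] at hd
      omega
    · have := lt_Cl hm i hi
      have := Nat.le_of_dvd (by omega) hd
      omega
  have hmeet : ∀ i j : Fin 4, i ≠ j →
      ∃ p, p.Prime ∧ (p ∣ Cl m i ∨ p ∣ Cl m j) ∧ p ∣ Nat.card φ.ker := by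
    intro i j hij
    obtain ⟨g, hg⟩ := hP i j hij
    set y : K.comap π := ⟨g ^ (2 * m + 1), hinX g⟩ with hy
    have hyo : orderOf y = orderOf (g ^ (2 * m + 1)) := (Subgroup.orderOf_coe y).symm
    have hN : Cl m i * Cl m j ∣ (2 * m + 1) * orderOf y := by
      rw [← hg, hyo]
      exact orderOf_dvd_of_pow_eq_one (by rw [pow_mul, pow_orderOf_eq_one])
    have hprime : ∀ l, l = i ∨ l = j → ∃ p, p.Prime ∧ p ∣ Cl m l ∧ p ∣ orderOf y := by
      intro l hl
      by_contra hno
      push Not at hno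
      refine hnot l ((Nat.coprime_of_dvd hno).dvd_of_dvd_mul_right ((?_ : Cl m l ∣ _).trans hN))
      rcases hl with rfl | rfl
      · exact dvd_mul_right _ _
      · exact dvd_mul_left _ _
    obtain ⟨a, ha⟩ := exists_dvd_Cl h hm (φ y)
    obtain ⟨l, hl, hla⟩ : ∃ l, (l = i ∨ l = j) ∧ a ≠ l := by
      by_cases hai : a = i
      · exact ⟨j, Or.inr rfl, hai ▸ hij⟩
      · exact ⟨i, Or.inl rfl, hai⟩
    obtain ⟨p, hp, hpl, hpy⟩ := hprime l hl
    haveI := Fact.mk hp
    refine ⟨p, hp, hl.elim (fun e => Or.inl (e ▸ hpl)) (fun e => Or.inr (e ▸ hpl)), ?_⟩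
    set z := y ^ (orderOf y / p)
    have hz : orderOf z = p := orderOf_pow_orderOf_div (orderOf_pos y).ne' hpy
    have hzk : z ∈ φ.ker := by
      rw [MonoidHom.mem_ker]
      by_contra hz1
      have h1 : orderOf (φ z) = p :=
        ((Nat.dvd_prime hp).1 (hz ▸ orderOf_map_dvd φ z)).resolve_left fun e => hz1 (orderOf_eq_one_iff.1 e)
      refine hla (class_unique hp ?_ hpl)
      rw [← h1]
      exact ((map_pow φ y _).symm ▸ orderOf_pow_dvd _).trans ha
    exact hz ▸ Subgroup.orderOf_dvd_natCard _ hzk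
  have hjoin : ∀ {p q : ℕ} {i j : Fin 4}, p.Prime → q.Prime → p ∣ Cl m i → q ∣ Cl m j → i ≠ j →
      ¬ PrimeGraph.Three.HasOrder φ.ker (p * q) := by
    rintro p q i j hp hq hi hj hij ⟨x, hx⟩
    have hx' : orderOf (x : K.comap π) = p * q := by rw [Subgroup.orderOf_coe, hx]
    by_cases hi0 : i = 0
    · rw [(class_zero_iff hp hi).1 hi0] at hx'
      exact no_two_mixed h hm (hG.subgroup _) hφ dvd_rfl hq (fun e => hij (hi0.trans e.symm)) hj
        (fun _ => rfl) _ x.2 hx'
    by_cases hj0 : j = 0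
    · rw [(class_zero_iff hq hj).1 hj0, mul_comm] at hx'
      exact no_two_mixed h hm (hG.subgroup _) hφ dvd_rfl hp hi0 hi (fun _ => rfl) _ x.2 hx'
    exact no_odd_mixed h hm (hG.subgroup _) hφ hp hq hi hj hi0 hj0 hij _ x.2 hx'
  have hthree : ∀ i j l : Fin 4, i ≠ j → i ≠ l → j ≠ l →
      (∃ p, p.Prime ∧ p ∣ Cl m i ∧ p ∣ Nat.card φ.ker) →
      (∃ p, p.Prime ∧ p ∣ Cl m j ∧ p ∣ Nat.card φ.ker) →
      (∃ p, p.Prime ∧ p ∣ Cl m l ∧ p ∣ Nat.card φ.ker) → False := by
    rintro i j l hij hil hjl ⟨p, hp, hpi, hpk⟩ ⟨q, hq, hqj, hqk⟩ ⟨r, hr, hrl, hrk⟩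
    refine PrimeGraph.Three.three_in_solvable hp hq hr (fun e => hij (class_unique hp hpi (e ▸ hqj)))
      (fun e => hil (class_unique hp hpi (e ▸ hrl))) (fun e => hjl (class_unique hq hqj (e ▸ hrl)))
      (⊤ : Subgroup φ.ker) inferInstance ?_ ?_ ?_ (hjoin hp hq hpi hqj hij) (hjoin hp hr hpi hrl hil)
      (hjoin hq hr hqj hrl hjl) <;> rwa [Subgroup.card_top]
  by_cases hall : ∀ i, ∃ p, p.Prime ∧ p ∣ Cl m i ∧ p ∣ Nat.card φ.ker
  · exact hthree 1 2 3 (by decide) (by decide) (by decide) (hall 1) (hall 2) (hall 3)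
  obtain ⟨c, hc⟩ := not_forall.1 hall
  have hoth : ∀ i, i ≠ c → ∃ p, p.Prime ∧ p ∣ Cl m i ∧ p ∣ Nat.card φ.ker := fun i hi => by
    obtain ⟨p, hp, h1 | h1, h2⟩ := hmeet i c hi
    · exact ⟨p, hp, h1, h2⟩
    · exact absurd ⟨p, hp, h1, h2⟩ hc
  exact hthree (c + 1) (c + 2) (c + 3) (by fin_cases c <;> decide) (by fin_cases c <;> decide)
    (by fin_cases c <;> decide) (hoth _ (by fin_cases c <;> decide)) (hoth _ (by fin_cases c <;> decide))
    (hoth _ (by fin_cases c <;> decide))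

end Cfsg.Agent.Lib.SzSquareSpec
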