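import Cfsg.Agent.Lib.SzSquareSpec.Classes
import Cfsg.Agent.Lib.SzElements.Basic
import Cfsg.Agent.Lib.LieTwisted.SuzukiOut

/-!
# Minimal covers of a Suzuki group

`IsCover φ` says that `φ : D →* Sz(q)` is surjective and no proper subgroup of `D` maps onto `Sz(q)`.
Such a group is perfect, its normal subgroups not in the kernel are `⊤`, and the kernel is nilpotent.
-/

set_option autoImplicit false
set_option linter.unusedSectionVars false

namespace Cfsg.Agent.Lib.SzSquareSpec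

open Cfsg.Agent.Lib.LieTwisted.Suzuki

section General

variable {X S : Type*} [Group X] [Group S]

/-- A surjective homomorphism none of whose restrictions to proper subgroups is surjective. -/
structure IsCover (φ : X →* S) : Prop where
  surj : Function.Surjective φ
  minimal : ∀ H : Subgroup X, H.map φ = ⊤ → H = ⊤

/-- Every covering subgroup contains a minimal one. -/
theorem exists_cover [Finite X] (φ : X →* S) (Y : Subgroup X) (hY : Y.map φ = ⊤) :
    ∃ D : Subgroup X, D ≤ Y ∧ IsCover (φ.comp D.subtype) := by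
  classical
  obtain ⟨D, ⟨hDY, hD⟩, hmin⟩ := Set.Finite.exists_minimalFor (fun D : Subgroup X => Nat.card D)
    {D : Subgroup X | D ≤ Y ∧ D.map φ = ⊤} (Set.toFinite _) ⟨Y, le_rfl, hY⟩
  refine ⟨D, hDY, ⟨fun s => ?_, fun H hH => ?_⟩⟩
  · obtain ⟨d, hd, rfl⟩ := (hD.symm ▸ Subgroup.mem_top s : s ∈ D.map φ)
    exact ⟨⟨d, hd⟩, rfl⟩
  · have h1 : (H.map D.subtype).map φ = ⊤ := by rw [Subgroup.map_map, hH]
    have h2 : H.map D.subtype ≤ D := Subgroup.map_subtype_le H
    have h3 : Nat.card D ≤ Nat.card (H.map D.subtype) := by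
      by_contra hlt
      exact absurd (hmin (j := H.map D.subtype) ⟨h2.trans hDY, h1⟩ (le_of_lt (not_le.1 hlt)))
        hlt
    refine Subgroup.eq_top_of_card_eq H (le_antisymm (Subgroup.card_le_card_group H) ?_)
    rwa [Subgroup.card_map_of_injective D.subtype_injective] at h3

/-- A preimage of prime power order. -/
theorem exists_pPower_lift [Finite X] (f : X →* S) {Y : Subgroup X} {s : S} (hs : s ∈ Y.map f)
    {p : ℕ} (hp : p.Prime) {a : ℕ} (ha : s ^ p ^ a = 1) :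
    ∃ d ∈ Y, f d = s ∧ ∃ b, orderOf d = p ^ b := by
  obtain ⟨d₀, hd₀, rfl⟩ := hs
  have hpos : 0 < orderOf d₀ := orderOf_pos d₀
  obtain ⟨b, c, hc, hbc⟩ := Nat.exists_eq_pow_mul_and_not_dvd hpos.ne' p hp.ne_one
  have hco : Nat.Coprime c (p ^ a) :=
    (Nat.Coprime.pow_right a ((hp.coprime_iff_not_dvd.2 hc).symm))
  obtain ⟨i, hi⟩ : ∃ i, c * i ≡ 1 [MOD p ^ a] := by
    rcases Nat.eq_zero_or_pos a with rfl | ha0
    · exact ⟨0, by simp [Nat.ModEq, Nat.mod_one]⟩
    · obtain ⟨i, hi⟩ := Nat.exists_mul_mod_eq_one_of_coprime hco (Nat.one_lt_pow ha0.ne' hp.one_lt)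
      refine ⟨i, ?_⟩
      rw [Nat.ModEq, hi.2, Nat.one_mod_eq_one.2]
      exact (Nat.one_lt_pow ha0.ne' hp.one_lt).ne'
  refine ⟨d₀ ^ (c * i), Y.pow_mem hd₀ _, ?_, ?_⟩
  · rw [map_pow]
    have : f d₀ ^ (c * i) = f d₀ ^ 1 :=
      pow_eq_pow_iff_modEq.2 (hi.of_dvd (orderOf_dvd_of_pow_eq_one ha))
    rw [this, pow_one]
  · have h1 : (d₀ ^ (c * i)) ^ p ^ b = 1 := by
      rw [← pow_mul, mul_comm c i, mul_assoc, mul_comm c, ← hbc, pow_mul',
        pow_orderOf_eq_one, one_pow]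
    obtain ⟨j, -, hj⟩ := (Nat.dvd_prime_pow hp).1 (orderOf_dvd_of_pow_eq_one h1)
    exact ⟨j, hj⟩

end General

variable {F : Type*} [Field F] [Fintype F] {k : ℕ} (h : IsSzField F k) (hk : 1 ≤ k)
variable {D : Type*} [Group D] {φ : D →* Cfsg.Sz F k} (hφ : IsCover φ)

section Basic

include h hk hφ

/-- A normal subgroup not in the kernel is everything. -/
theorem IsCover.normal_eq_top (N : Subgroup D) [hN : N.Normal] {x : D} (hx : x ∈ N) (hx1 : φ x ≠ 1) :
    N = ⊤ := by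
  haveI := h.isSimple hk
  refine hφ.minimal N (((hN.map φ hφ.surj).eq_bot_or_eq_top).resolve_left fun e => hx1 ?_)
  exact Subgroup.mem_bot.1 (e ▸ Subgroup.mem_map_of_mem φ hx)

/-- A homomorphism killing an element outside the kernel is trivial. -/
theorem IsCover.hom_eq_one {M : Type*} [Group M] (ρ : D →* M) {x : D} (hx : ρ x = 1)
    (hx1 : φ x ≠ 1) (d : D) : ρ d = 1 :=
  MonoidHom.mem_ker.1 ((hφ.normal_eq_top h hk ρ.ker (MonoidHom.mem_ker.2 hx) hx1).symm ▸ Subgroup.mem_top d)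

theorem exists_not_commute (s : Cfsg.Sz F k) (hs : s ≠ 1) : ∃ t, ¬ Commute s t := by
  by_contra hcon
  push Not at hcon
  haveI := h.isSimple hk
  have hmem : s ∈ Subgroup.center (Cfsg.Sz F k) := Subgroup.mem_center_iff.2 fun t => (hcon t).symm.eq
  rcases (inferInstance : (Subgroup.center (Cfsg.Sz F k)).Normal).eq_bot_or_eq_top with e | e
  · exact hs (Subgroup.mem_bot.1 (e ▸ hmem))
  · have h1 : uS h 1 0 * dS h 1 = dS h 1 * uS h 1 0 := by simp
    have hc := Subgroup.mem_center_iff.1 (e.symm ▸ Subgroup.mem_top (uS h 1 0)) (wS h * uS h 0 1)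
    obtain ⟨h5, hconj⟩ := five_four h hk
    have h2 : wS h * uS h 0 1 = (wS h * uS h 0 1) ^ 2 := by
      rw [← hconj, ← hc, mul_inv_cancel_right]
    have h3 : wS h * uS h 0 1 = 1 := by
      rw [sq] at h2
      exact left_eq_mul.1 h2
    rw [h3, orderOf_one] at h5
    norm_num at h5

/-- A homomorphism to a commutative group is trivial. -/
theorem IsCover.hom_comm {M : Type*} [Group M] (ρ : D →* M) (hM : ∀ a b : D, Commute (ρ a) (ρ b))
    (d : D) : ρ d = 1 := by
  obtain ⟨s, hs⟩ : ∃ s : Cfsg.Sz F k, s ≠ 1 := ⟨uS h 1 0, fun e => by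
    have := uS_one_zero_order h hk
    rw [e, orderOf_one] at this
    omega⟩
  obtain ⟨t, ht⟩ := exists_not_commute h hk hφ s hs
  obtain ⟨a, rfl⟩ := hφ.surj s
  obtain ⟨b, rfl⟩ := hφ.surj t
  refine hφ.hom_eq_one h hk ρ (x := a * b * a⁻¹ * b⁻¹) ?_ (fun e => ht ?_) d
  · rw [map_mul, map_mul, map_mul, (hM a b).eq, map_inv, map_inv]
    group
  · rw [map_mul, map_mul, map_mul, map_inv, map_inv, mul_inv_eq_one, mul_inv_eq_iff_eq_mul] at e
    exact e

/-- A central element of a cyclic group stays fixed: the action on a cyclic group is trivial. -/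
theorem IsCover.centralises_cyclic {X : Type*} [Group X] (ι : D →* X) (W : Subgroup X) [IsCyclic W]
    (hn : ∀ d, ι d ∈ Subgroup.normalizer (W : Set X)) (d : D) : ∀ w ∈ W, Commute (ι d) w := by
  let ρ : D →* MulAut W := W.normalizerMonoidHom.comp (ι.codRestrict _ hn)
  have h1 := hφ.hom_comm h hk ρ (fun a b => by
    obtain ⟨g, hg⟩ := IsCyclic.exists_generator (α := W)
    refine MulEquiv.ext fun w => ?_
    obtain ⟨i, hi⟩ := Subgroup.mem_zpowers_iff.1 (hg w)
    obtain ⟨u, hu⟩ := Subgroup.mem_zpowers_iff.1 (hg (ρ a g))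
    obtain ⟨v, hv⟩ := Subgroup.mem_zpowers_iff.1 (hg (ρ b g))
    show ρ a (ρ b w) = ρ b (ρ a w)
    rw [← hi, map_zpow, map_zpow, map_zpow, map_zpow, ← hv, map_zpow, ← hu, map_zpow, ← hv]
    simp only [← zpow_mul]
    congr 1
    ring) d
  intro w hw
  have h2 : ι d * w * (ι d)⁻¹ = w := congrArg Subtype.val (DFunLike.congr_fun h1 (⟨w, hw⟩ : W))
  exact mul_inv_eq_iff_eq_mul.1 h2

/-- If one element outside the kernel centralises `W`, everything does. -/
theorem IsCover.centralises_of {X : Type*} [Group X] (ι : D →* X) (W : Subgroup X)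
    (hn : ∀ d, ι d ∈ Subgroup.normalizer (W : Set X)) {x : D} (hx1 : φ x ≠ 1)
    (hx : ∀ w ∈ W, Commute (ι x) w) (d : D) : ∀ w ∈ W, Commute (ι d) w := by
  let ρ : D →* MulAut W := W.normalizerMonoidHom.comp (ι.codRestrict _ hn)
  have h1 := hφ.hom_eq_one h hk ρ (x := x) (MulEquiv.ext fun w => Subtype.ext
    (show ι x * w * (ι x)⁻¹ = w by rw [(hx w w.2).eq, mul_inv_cancel_right])) hx1 d
  intro w hw
  have h2 : ι d * w * (ι d)⁻¹ = w := congrArg Subtype.val (DFunLike.congr_fun h1 (⟨w, hw⟩ : W))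
  exact mul_inv_eq_iff_eq_mul.1 h2

/-- The kernel lies in the Frattini subgroup, so is nilpotent. -/
theorem IsCover.ker_isNilpotent [Finite D] : Group.IsNilpotent φ.ker := by
  have hle : φ.ker ≤ frattini D := by
    refine le_iInf₂ fun M hM => ?_
    by_contra hnot
    refine hM.1 (hφ.minimal M ?_)
    have htop : M ⊔ φ.ker = ⊤ := hM.2 _ (left_lt_sup.2 hnot)
    have : (M ⊔ φ.ker).map φ = ⊤ := by rw [htop, Subgroup.map_top_of_surjective φ hφ.surj]
    rwa [Subgroup.map_sup, (Subgroup.map_eq_bot_iff _).2 le_rfl, sup_bot_eq] at this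
  haveI := frattini_nilpotent (G := D)
  exact Group.nilpotent_of_mulEquiv (Subgroup.subgroupOfEquivOfLe hle)

/-- The Sylow subgroup of the kernel is normal in `D`. -/
theorem IsCover.exists_ker_sylow [Finite D] (p : ℕ) [Fact p.Prime] :
    ∃ P : Subgroup D, P.Normal ∧ IsPGroup p P ∧ P ≤ φ.ker ∧
      ∀ x ∈ φ.ker, (∃ a, x ^ p ^ a = 1) → x ∈ P := by
  haveI := hφ.ker_isNilpotent h hk
  obtain ⟨P⟩ : Nonempty (Sylow p φ.ker) := inferInstance
  haveI hPn : (P : Subgroup φ.ker).Normal := by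
    have q : Group.IsNilpotent φ.ker ↔ ∀ (r : ℕ) (_ : Fact r.Prime) (R : Sylow r φ.ker),
        (R : Subgroup φ.ker).Normal :=
      (Group.isNilpotent_of_finite_tfae (G := φ.ker)).out 0 3
    exact q.1 (hφ.ker_isNilpotent h hk) p ⟨Fact.out⟩ P
  haveI : (P : Subgroup φ.ker).Characteristic := P.characteristic_of_normal hPn
  refine ⟨(P : Subgroup φ.ker).map φ.ker.subtype, inferInstance, P.2.map _, Subgroup.map_subtype_le _,
    fun x hx ⟨a, ha⟩ => ?_⟩
  have hz : IsPGroup p (Subgroup.zpowers (⟨x, hx⟩ : φ.ker)) := by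
    intro y
    obtain ⟨i, hi⟩ := Subgroup.mem_zpowers_iff.1 y.2
    refine ⟨a, Subtype.ext ?_⟩
    rw [Subgroup.coe_pow, ← hi, ← zpow_natCast, ← zpow_mul, mul_comm, zpow_mul, zpow_natCast,
      show (⟨x, hx⟩ : φ.ker) ^ p ^ a = 1 from Subtype.ext ha, one_zpow, Subgroup.coe_one]
  obtain ⟨Q, hQ⟩ := hz.exists_le_sylow
  obtain ⟨g, hg⟩ := MulAction.exists_smul_eq φ.ker P Q
  have hQP : (Q : Subgroup φ.ker) = P := by
    rw [← hg, Sylow.smul_eq_iff_mem_normalizer.2 (Subgroup.normalizer_eq_top (H := (P : Subgroup φ.ker)) ▸ Subgroup.mem_top g)]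
  exact ⟨⟨x, hx⟩, hQP ▸ hQ (Subgroup.mem_zpowers _), rfl⟩

end Basic

end Cfsg.Agent.Lib.SzSquareSpec
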