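import Cfsg.Agent.Lib.SzSquareSpec.TwoGroup

/-!
# An elementary abelian `2`-subgroup over the centre of a root group

In a cover `D` of `Sz(q₀)` with `Bound m D` there is an elementary abelian subgroup mapping onto the
centre of the root group whose normaliser covers the torus.
-/

set_option autoImplicit false
set_option linter.unusedSectionVars false
set_option linter.style.haveILetI false

namespace Cfsg.Agent.Lib.SzSquareSpec

open Cfsg.Agent.Lib.LieTwisted.Suzuki
open scoped commutatorElement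

variable {F : Type*} [Field F] [Fintype F] {k : ℕ} (h : IsSzField F k) (hk : 1 ≤ k)
variable {D : Type*} [Group D] [Finite D] {φ : D →* Cfsg.Sz F k} (hφ : IsCover φ) {m : ℕ}
  (hD : Bound m D)

section Field

include h hk

theorem exists_torus_scalar (a : F) (ha : a ≠ 0) : ∃ e : Fˣ, sg k (e : F) * (e : F) ^ 2 = a := by
  let f : Fˣ → Fˣ := fun e => Units.mk0 (sg k (e : F) * (e : F) ^ 2)
    (mul_ne_zero (mt sg_eq_zero.1 e.ne_zero) (pow_ne_zero _ e.ne_zero))
  have hinj : Function.Injective f := fun e e' hee => by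
    have h0 : sg k (e : F) * (e : F) ^ 2 = sg k (e' : F) * (e' : F) ^ 2 := congrArg Units.val hee
    have hne : sg k (e' : F) * (e' : F) ^ 2 ≠ 0 :=
      mul_ne_zero (mt sg_eq_zero.1 e'.ne_zero) (pow_ne_zero _ e'.ne_zero)
    refine mul_inv_eq_one.1 (h.torus_mul_inj hne ?_)
    rw [Units.val_mul, Units.val_inv_eq_inv_val, sg_mul, sg_inv, mul_pow, inv_pow]
    have h1 : sg k (e' : F) ≠ 0 := mt sg_eq_zero.1 e'.ne_zero
    have h2 : (e' : F) ^ 2 ≠ 0 := pow_ne_zero _ e'.ne_zero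
    field_simp
    linear_combination h0
  obtain ⟨e, he⟩ := (Finite.injective_iff_surjective.1 hinj) (Units.mk0 a ha)
  exact ⟨e, congrArg Units.val he⟩

theorem exists_cube (t : F) (ht : t ≠ 0) : ∃ s : F, s ^ 3 = t := by
  have hco : (Nat.card Fˣ).Coprime 3 := by
    rw [Nat.card_units, Nat.card_eq_fintype_card, h.card, Nat.coprime_comm]
    exact (Nat.Prime.coprime_iff_not_dvd Nat.prime_three).2 (not_three_dvd k 1)
  obtain ⟨s, hs⟩ := (powCoprime hco).surjective (Units.mk0 t ht)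
  exact ⟨s, by simpa [powCoprime, Units.val_pow_eq_pow_val] using congrArg Units.val hs⟩

theorem unipCenter_normalized (c : Fˣ) :
    dS h c ∈ Subgroup.normalizer (unipCenter h : Set (Cfsg.Sz F k)) := by
  have hle : (unipCenter h).map (MulAut.conj (dS h c)).toMonoidHom ≤ unipCenter h := by
    rintro _ ⟨_, ⟨b, rfl⟩, rfl⟩
    refine ⟨sg k (c : F) * (c : F) ^ 2 * b, ?_⟩
    have := SzElements.Basic.conj_center h 0 0 c b
    rw [h.uS_zero, one_mul] at this
    exact this
  have heq := Subgroup.eq_of_le_of_card_ge hle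
    (le_of_eq (Subgroup.card_map_of_injective (MulAut.conj (dS h c)).injective).symm)
  rw [Subgroup.mem_normalizer_iff]
  intro x
  refine ⟨fun hx => hle ⟨x, hx, rfl⟩, fun hx => ?_⟩
  rw [← heq] at hx
  obtain ⟨y, hy, hye⟩ := hx
  rwa [← (MulAut.conj (dS h c)).injective hye]

end Field

/-- The properties of the subgroup `E`. -/
structure IsElemLift (φ : D →* Cfsg.Sz F k) (E : Subgroup D) : Prop where
  comm : ∀ a ∈ E, ∀ b ∈ E, Commute a b
  sq : ∀ a ∈ E, a ^ 2 = 1
  surj : ∀ b : F, ∃ a ∈ E, φ a = uS h 0 b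
  center : ∀ a ∈ E, ∃ b : F, φ a = uS h 0 b
  torus : ∀ c : Fˣ, ∃ g ∈ Subgroup.normalizer (E : Set D), φ g = dS h c

include h hk hφ hD

theorem exists_elem_lift : ∃ E : Subgroup D, IsElemLift h φ E := by
  classical
  haveI : Fact (Nat.Prime 2) := ⟨Nat.prime_two⟩
  have hsq : ∀ b : F, uS h 0 b * uS h 0 b = 1 := fun b => by
    rw [← sq, h.uS_sq, sg_zero, zero_mul, h.uS_zero]
  have hadd : ∀ a b : F, uS h 0 a * uS h 0 b = uS h 0 (a + b) := fun a b => by
    rw [h.uS_mul, sg_zero, zero_mul, add_zero, add_zero]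
  have hZp : IsPGroup 2 (unipCenter h) := by
    rintro ⟨_, b, rfl⟩
    exact ⟨1, Subtype.ext (by rw [Subgroup.coe_pow, pow_one, sq]; exact hsq b)⟩
  obtain ⟨U, hU, hUT, hN, hconj⟩ := exists_sylow_lift hφ.surj (unipCenter h) hZp
  have hlift : ∀ b : F, ∃ u ∈ U, φ u = uS h 0 b := fun b =>
    (hUT.symm ▸ ⟨b, rfl⟩ : uS h 0 b ∈ U.map φ)
  choose L hLU hL using hlift
  have himg : ∀ u ∈ U, ∃ b, φ u = uS h 0 b := fun u hu => by
    obtain ⟨b, hb⟩ : φ u ∈ unipCenter h := hUT ▸ Subgroup.mem_map_of_mem φ hu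
    exact ⟨b, hb⟩
  have hcen : ∀ u ∈ U, φ u = 1 → ∀ d, Commute d u := fun u hu h1 d => by
    obtain ⟨a, ha⟩ := hU ⟨u, hu⟩
    exact ker_two_central h hk hφ hD h1 (congrArg Subtype.val ha) d
  -- the commutator pairing
  set f : F → F → D := fun a b => ⁅L a, L b⁆ with hf
  have hfU : ∀ a b, f a b ∈ U ∧ φ (f a b) = 1 := fun a b => by
    refine ⟨by rw [hf]; exact U.mul_mem (U.mul_mem (U.mul_mem (hLU a) (hLU b)) (U.inv_mem (hLU a))) (U.inv_mem (hLU b)), ?_⟩
    rw [hf, map_commutatorElement, hL, hL, commutatorElement_eq_one_iff_mul_comm, hadd, hadd, add_comm]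
  have hfc : ∀ a b d, Commute d (f a b) := fun a b => hcen _ (hfU a b).1 (hfU a b).2
  have hindep : ∀ {a b} {x y : D}, x ∈ U → y ∈ U → φ x = uS h 0 a → φ y = uS h 0 b →
      ⁅x, y⁆ = f a b := by
    intro a b x y hx hy hxe hye
    have h1 : ∀ d, Commute d ((L a)⁻¹ * x) := hcen _ (U.mul_mem (U.inv_mem (hLU a)) hx)
      (by rw [map_mul, map_inv, hL, hxe, inv_mul_cancel])
    have h2 : ∀ d, Commute d ((L b)⁻¹ * y) := hcen _ (U.mul_mem (U.inv_mem (hLU b)) hy)
      (by rw [map_mul, map_inv, hL, hye, inv_mul_cancel])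
    set c₁ := (L a)⁻¹ * x
    set c₂ := (L b)⁻¹ * y
    have hx' : x = L a * c₁ := (mul_inv_cancel_left _ _).symm
    have hy' : y = L b * c₂ := (mul_inv_cancel_left _ _).symm
    rw [hx', hy']
    show ⁅L a * c₁, L b * c₂⁆ = ⁅L a, L b⁆
    simp only [commutatorElement_def]
    calc L a * c₁ * (L b * c₂) * (L a * c₁)⁻¹ * (L b * c₂)⁻¹
        = L a * (c₁ * (L b * c₂)) * (c₁⁻¹ * (L a)⁻¹) * (c₂⁻¹ * (L b)⁻¹) := by group
      _ = L a * ((L b * c₂) * c₁) * (c₁⁻¹ * (L a)⁻¹) * (c₂⁻¹ * (L b)⁻¹) := by rw [(h1 _).eq]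
      _ = L a * L b * (c₂ * (L a)⁻¹) * c₂⁻¹ * (L b)⁻¹ := by group
      _ = L a * L b * ((L a)⁻¹ * c₂) * c₂⁻¹ * (L b)⁻¹ := by rw [← (h2 _).eq]
      _ = L a * L b * (L a)⁻¹ * (L b)⁻¹ := by group
  have hleft : ∀ a a' b, f (a + a') b = f a b * f a' b := fun a a' b => by
    rw [← hindep (U.mul_mem (hLU a) (hLU a')) (hLU b) (by rw [map_mul, hL, hL, hadd]) (hL b)]
    have : ⁅L a * L a', L b⁆ = L a * ⁅L a', L b⁆ * (L a)⁻¹ * ⁅L a, L b⁆ := by
      simp only [commutatorElement_def]; group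
    rw [this]
    show L a * f a' b * (L a)⁻¹ * f a b = f a b * f a' b
    rw [(hfc a' b (L a)).eq, mul_inv_cancel_right]
    exact (hfc a b _).eq
  have hright : ∀ a b b', f a (b + b') = f a b * f a b' := fun a b b' => by
    rw [← hindep (hLU a) (U.mul_mem (hLU b) (hLU b')) (hL a) (by rw [map_mul, hL, hL, hadd])]
    have : ⁅L a, L b * L b'⁆ = ⁅L a, L b⁆ * (L b * ⁅L a, L b'⁆ * (L b)⁻¹) := by
      simp only [commutatorElement_def]; group
    rw [this]
    show f a b * (L b * f a b' * (L b)⁻¹) = _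
    rw [(hfc a b' (L b)).eq, mul_inv_cancel_right]
  have hzero : ∀ b, f 0 b = 1 := fun b => by
    have := hleft 0 0 b
    rw [add_zero] at this
    exact left_eq_mul.1 this
  have hexp : ∀ a b, f a b * f a b = 1 := fun a b => by rw [← hleft, h.add_self, hzero]
  have hinv : ∀ (c : Fˣ) a b,
      f (sg k (c : F) * (c : F) ^ 2 * a) (sg k (c : F) * (c : F) ^ 2 * b) = f a b := by
    intro c a b
    obtain ⟨d, hd, hde⟩ := hN _ (unipCenter_normalized h hk c)
    have hmem : ∀ u ∈ U, d * u * d⁻¹ ∈ U := fun u hu => (Subgroup.mem_normalizer_iff.1 hd u).1 hu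
    have himage : ∀ b, φ (d * L b * d⁻¹) = uS h 0 (sg k (c : F) * (c : F) ^ 2 * b) := fun b => by
      rw [map_mul, map_mul, map_inv, hde, hL]
      have := SzElements.Basic.conj_center h 0 0 c b
      rwa [h.uS_zero, one_mul] at this
    rw [← hindep (hmem _ (hLU a)) (hmem _ (hLU b)) (himage a) (himage b)]
    show ⁅d * L a * d⁻¹, d * L b * d⁻¹⁆ = f a b
    have : ⁅d * L a * d⁻¹, d * L b * d⁻¹⁆ = d * ⁅L a, L b⁆ * d⁻¹ := by
      simp only [commutatorElement_def]; group
    rw [this]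
    show d * f a b * d⁻¹ = f a b
    rw [(hfc a b d).eq, mul_inv_cancel_right]
  set G : F → D := fun w => f 1 w with hG
  have hfG : ∀ a b, a ≠ 0 → f a b = G (b / a) := fun a b ha => by
    obtain ⟨c, hc⟩ := exists_torus_scalar h hk a ha
    have := hinv c 1 (b / a)
    rw [hc, mul_one, mul_div_cancel₀ _ ha] at this
    exact this
  have key : ∀ t w : F, t ≠ 0 → 1 + t ≠ 0 → G w = G (w * t) * G (w / t) := by
    intro t w ht ht1
    have h1 := hleft 1 t (w * (1 + t))
    rw [hfG _ _ ht1, hfG t _ ht, mul_div_cancel_right₀ _ ht1,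
      show w * (1 + t) / t = w / t + w by field_simp] at h1
    rw [show w * (1 + t) = w + w * t by ring] at h1
    change G w = f 1 (w + w * t) * f 1 (w / t + w) at h1
    rw [hright, hright] at h1
    change G w = G w * G (w * t) * (G (w / t) * G w) at h1
    have hG2 : G w * G w = 1 := hexp 1 w
    calc G w = G w * G (w * t) * (G (w / t) * G w) := h1
      _ = G w * (G (w * t) * G (w / t)) * G w := by group
      _ = (G (w * t) * G (w / t)) * (G w * G w) := by
          have e : G (w * t) * G (w / t) * G w = G w * (G (w * t) * G (w / t)) := (hfc 1 w _).eq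
          rw [← e, mul_assoc]
      _ = G (w * t) * G (w / t) := by rw [hG2, mul_one]
  have hcube : ∀ t v : F, t ≠ 0 → 1 + t ≠ 0 → G (v * t ^ 3) = G v := by
    intro t v ht ht1
    have h1 := key t (v * t) ht ht1
    have h2 := key t (v * t ^ 2) ht ht1
    rw [mul_div_cancel_right₀ _ ht, show v * t * t = v * t ^ 2 by ring] at h1
    rw [show v * t ^ 2 * t = v * t ^ 3 by ring, show v * t ^ 2 / t = v * t by field_simp] at h2
    rw [h2, mul_assoc] at h1
    have h3 : G (v * t) * (G (v * t ^ 3) * G v) = G (v * t) * 1 := by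
      rw [mul_one]
      conv_rhs => rw [h1]
      rw [← mul_assoc, ← mul_assoc, (hfc 1 (v * t) (G (v * t ^ 3))).eq]
    have h4 := mul_left_cancel h3
    exact (mul_eq_one_iff_eq_inv.1 h4).trans (inv_eq_of_mul_eq_one_right (hexp 1 v))
  have hconst : ∀ v : F, v ≠ 0 → G v = G 1 := fun v hv => by
    obtain ⟨s, hs⟩ := exists_cube h hk v hv
    by_cases hs1 : 1 + s = 0
    · have : s = 1 := by linear_combination hs1 - h.two0
      rw [← hs, this, one_pow]
    · rw [← hs, ← hcube s 1 (by rintro rfl; exact hv (by rw [← hs]; norm_num)) hs1, one_mul]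
  have hG1 : G 1 = 1 := by
    obtain ⟨t, ht0, ht1⟩ : ∃ t : F, t ≠ 0 ∧ 1 + t ≠ 0 := by
      obtain ⟨t, -, ht⟩ := Finset.exists_mem_notMem_of_card_lt_card
        (s := ({0, 1} : Finset F)) (t := Finset.univ)
        (lt_of_le_of_lt Finset.card_le_two (by rw [Finset.card_univ]; exact h.two_lt_card hk))
      simp only [Finset.mem_insert, Finset.mem_singleton, not_or] at ht
      exact ⟨t, ht.1, fun e => ht.2 (by linear_combination e - h.two0)⟩
    have := key t 1 ht0 ht1
    rw [one_mul, hconst t ht0, hconst (1 / t) (one_div_ne_zero ht0)] at this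
    rw [this, hG]
    exact hexp 1 1
  have habel : ∀ x ∈ U, ∀ y ∈ U, Commute x y := by
    intro x hx y hy
    obtain ⟨a, ha⟩ := himg x hx
    obtain ⟨b, hb⟩ := himg y hy
    refine commutatorElement_eq_one_iff_commute.1 ?_
    rw [hindep hx hy ha hb]
    by_cases ha0 : a = 0
    · rw [ha0, hzero]
    · rw [hfG a b ha0]
      by_cases hb0 : b / a = 0
      · rw [hb0]
        have := hright 1 0 0
        rw [add_zero] at this
        exact left_eq_mul.1 this
      · rw [hconst _ hb0, hG1]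
  let E : Subgroup D :=
    { carrier := {x | x ∈ U ∧ x ^ 2 = 1}
      one_mem' := ⟨one_mem U, one_pow 2⟩
      mul_mem' := fun {a b} ha hb => ⟨U.mul_mem ha.1 hb.1, by
        rw [(habel a ha.1 b hb.1).mul_pow, ha.2, hb.2, mul_one]⟩
      inv_mem' := fun {a} ha => ⟨U.inv_mem ha.1, by rw [inv_pow, ha.2, inv_one]⟩ }
  have hNE : ∀ g ∈ Subgroup.normalizer (U : Set D), g ∈ Subgroup.normalizer (E : Set D) := fun g hg => by
    rw [Subgroup.mem_normalizer_iff]
    intro x
    refine and_congr (Subgroup.mem_normalizer_iff.1 hg x) ⟨fun e => ?_, fun e => ?_⟩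
    · rw [conj_pow, e, mul_one, mul_inv_cancel]
    · rw [conj_pow, mul_inv_eq_one, mul_eq_left] at e
      exact e
  refine ⟨E, ⟨fun a ha b hb => habel a ha.1 b hb.1, fun a ha => ha.2, fun b => ?_,
    fun a ha => himg a ha.1, fun c => ?_⟩⟩
  · by_cases hb : b = 0
    · exact ⟨1, one_mem E, by rw [map_one, hb, h.uS_zero]⟩
    obtain ⟨A, g, -, -, hg4, hge, -⟩ := exists_five_lift h hk hφ hD
    have hg2 : φ (g ^ 2) = uS h 0 1 := by rw [map_pow, hge, h.uS_sq, sg_one, mul_one]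
    have hQ : IsPGroup 2 (Subgroup.zpowers (g ^ 2)) := by
      obtain ⟨j, -, hj⟩ := (Nat.dvd_prime_pow Nat.prime_two).1
        (orderOf_dvd_of_pow_eq_one (x := g ^ 2) (n := 2 ^ 1) (by rw [← pow_mul]; exact hg4))
      exact IsPGroup.of_card (n := j) (by rw [Nat.card_zpowers, hj])
    obtain ⟨j, hj, hjU⟩ := hconj _ hQ (by
      rw [MonoidHom.map_zpowers, hg2, Subgroup.zpowers_le]; exact ⟨1, rfl⟩)
    obtain ⟨c, hc⟩ := exists_torus_scalar h hk b hb
    obtain ⟨d, hd, hde⟩ := hN _ (unipCenter_normalized h hk c)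
    have hu : j * g ^ 2 * j⁻¹ ∈ E := ⟨hjU ⟨_, Subgroup.mem_zpowers _, rfl⟩, by
      rw [conj_pow, ← pow_mul, hg4, mul_one, mul_inv_cancel]⟩
    refine ⟨d * (j * g ^ 2 * j⁻¹) * d⁻¹, (Subgroup.mem_normalizer_iff.1 (hNE d hd) _).1 hu, ?_⟩
    obtain ⟨j₀, hj₀⟩ := hj
    have hju : φ (j * g ^ 2 * j⁻¹) = uS h 0 1 := by
      rw [map_mul, map_mul, map_inv, hj₀, hg2, hadd, add_comm, ← hadd, mul_inv_cancel_right]
    rw [map_mul, map_mul, map_inv, hde, hju]
    have := SzElements.Basic.conj_center h 0 0 c 1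
    rw [h.uS_zero, one_mul, mul_one, hc] at this
    exact this
  · obtain ⟨d, hd, hde⟩ := hN _ (unipCenter_normalized h hk c)
    exact ⟨d, hNE d hd, hde⟩

end Cfsg.Agent.Lib.SzSquareSpec
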