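import Cfsg.Agent.Lib.SzSquareSpec.AutAct
import Cfsg.Agent.Lib.Thompson3Prime33.Statement
import Cfsg.Agent.Lib.PrimePowerClass.Radical
import Cfsg.Agent.Lib.Components.GenFitting

/-!
# Components of a group with trivial soluble radical satisfying `Bound m`

They are Suzuki groups `Sz(2^(2k+1))` with `2k + 1 ∣ 2m + 1`, there are at most two of them and only the
trivial element centralises all of them.
-/

set_option autoImplicit false
set_option linter.unusedSectionVars false
set_option linter.style.haveILetI false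

namespace Cfsg.Agent.Lib.SzSquareSpec

open Cfsg.Agent.Lib.LieTwisted.Suzuki Cfsg.Agent.Lib.PrimePowerClass.Radical Cfsg.Agent.Lib.Components

universe u

theorem solRad_quotient {G : Type u} [Group G] [Finite G] : solRad (G ⧸ solRad G) = ⊥ := by
  have h1 := comap_solRad_le (QuotientGroup.mk' (solRad G))
    (by rw [QuotientGroup.ker_mk']; exact solRad_isSolvable)
  refine (Subgroup.eq_bot_iff_forall _).2 fun x hx => ?_
  obtain ⟨g, rfl⟩ := QuotientGroup.mk'_surjective _ x
  exact (QuotientGroup.eq_one_iff g).2 (h1 hx)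

variable {Q : Type u} [Group Q] [Finite Q] (hQ : solRad Q = ⊥)
include hQ

theorem fitting_eq_bot : Cfsg.fittingSubgroup Q = ⊥ := by
  haveI := Cores.fittingSubgroup_isNilpotent (G := Q)
  exact le_bot_iff.1 (hQ ▸ le_solRad (N := Cfsg.fittingSubgroup Q) inferInstance)

theorem centralizer_layer : Subgroup.centralizer (Cfsg.layer Q : Set Q) = ⊥ := by
  have h1 : Cfsg.generalizedFittingSubgroup Q = Cfsg.layer Q := by
    unfold Cfsg.generalizedFittingSubgroup
    rw [fitting_eq_bot hQ, sup_bot_eq]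
  have h2 := GenFitting.centralizer_le (G := Q)
  rw [h1] at h2
  haveI : (Cfsg.layer Q).Normal := h1 ▸ GenFitting.generalizedFitting_normal
  refine le_bot_iff.1 (hQ ▸ le_solRad (Group.isSolvable_of_comm fun a b => ?_))
  exact Subtype.ext ((Subgroup.mem_centralizer_iff.1 a.2 _ (h2 b.2)).symm)

theorem eq_one_of_centralizes {x : Q}
    (hx : ∀ K : Subgroup Q, Cfsg.IsComponent K → x ∈ Subgroup.centralizer (K : Set Q)) : x = 1 := by
  have h1 : x ∈ Subgroup.centralizer (Cfsg.layer Q : Set Q) := by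
    refine Subgroup.mem_centralizer_iff.2 fun y hy => ?_
    have h2 : Cfsg.layer Q ≤ Subgroup.centralizer ({x} : Set Q) := sSup_le fun K hK z hz =>
      Subgroup.mem_centralizer_singleton_iff.2 (Subgroup.mem_centralizer_iff.1 (hx K hK) z hz)
    exact Subgroup.mem_centralizer_singleton_iff.1 (h2 hy)
  rwa [centralizer_layer hQ, Subgroup.mem_bot] at h1

theorem exists_component [Nontrivial Q] : ∃ K : Subgroup Q, Cfsg.IsComponent K := by
  by_contra hne
  obtain ⟨x, hx⟩ := exists_ne (1 : Q)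
  exact hx (eq_one_of_centralizes hQ fun K hK => absurd ⟨K, hK⟩ hne)

variable {m : ℕ}

theorem exists_model (hT : Thompson3Prime33.ThreePrimeSimple.{u}) (hB : Bound m Q) {K : Subgroup Q}
    (hK : Cfsg.IsComponent K) : ∃ (F : Type) (_ : Field F) (_ : Fintype F) (k : ℕ),
      1 ≤ k ∧ IsSzField F k ∧ 2 * k + 1 ∣ 2 * m + 1 ∧ Nonempty (K ≃* Cfsg.Sz F k) := by
  have hz : Subgroup.center K = ⊥ := by
    have h1 : (Subgroup.center K).map K.subtype ≤ Cfsg.fittingSubgroup Q := by
      refine Cores.IsSubnormal.le_fittingSubgroup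
        ((Subgroup.Normal.isSubnormal (inferInstance : (Subgroup.center K).Normal)).trans' hK.1) ?_
      haveI : Group.IsNilpotent (Subgroup.center K) := by
        letI : CommGroup (Subgroup.center K) :=
          { (Subgroup.center K).toGroup with
            mul_comm := fun a b => Subtype.ext (Subgroup.mem_center_iff.1 b.2 a) }
        exact CommGroup.isNilpotent
      exact Group.nilpotent_of_mulEquiv
        ((Subgroup.center K).equivMapOfInjective K.subtype K.subtype_injective)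
    rw [fitting_eq_bot hQ, le_bot_iff] at h1
    exact (Subgroup.map_eq_bot_iff_of_injective _ K.subtype_injective).1 h1
  haveI := hK.2.2
  haveI hs : IsSimpleGroup K := by
    let f := (QuotientGroup.quotientMulEquivOfEq hz).trans QuotientGroup.quotientBot
    haveI : Nontrivial K := Quasisimple.nontrivial hK.2
    exact IsSimpleGroup.isSimpleGroup_of_surjective f.toMonoidHom f.surjective
  have hab : ∃ a b : K, a * b ≠ b * a := by
    by_contra hne
    push Not at hne
    exact Component.not_isMulCommutative hK ⟨⟨hne⟩⟩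
  obtain ⟨F, _, _, k, hk, hF, ⟨iso⟩⟩ := hT K hs hab (hB.subgroup K).not_three
  have h : IsSzField F k := ⟨hF⟩
  let e : K ≃* Cfsg.Sz F k := iso.trans (szEquiv h hk).symm
  exact ⟨F, inferInstance, inferInstance, k, hk, h,
    dvd_of_bound h hk ((hB.subgroup K).of_injective e.symm.toMonoidHom e.symm.injective), ⟨e⟩⟩

theorem exists_mem_component (hT : Thompson3Prime33.ThreePrimeSimple.{u}) (hB : Bound m Q)
    {K : Subgroup Q} (hK : Cfsg.IsComponent K) :
    (∃ z ∈ K, orderOf z = 2) ∧ (∃ z ∈ K, orderOf z = 5) ∧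
      ∃ z ∈ K, ∃ l, l.Prime ∧ l ∣ Cl m 1 ∧ orderOf z = l := by
  obtain ⟨F, _, _, k, hk, h, hkm, ⟨e⟩⟩ := exists_model hQ hT hB hK
  have key : ∀ {g : Cfsg.Sz F k} {l : ℕ}, orderOf g = l → ∃ z ∈ K, orderOf z = l := fun {g l} hg =>
    ⟨e.symm g, (e.symm g).2, by rw [Subgroup.orderOf_coe, e.symm.orderOf_eq, hg]⟩
  refine ⟨key (uS_zero_one_order h hk), key (five_four h hk).1, ?_⟩
  obtain ⟨l, hl, hld⟩ := Nat.exists_prime_and_dvd
    (show Cl k 1 ≠ 1 from fun e => by have := lt_Cl (m := k) hk 1 (by decide); omega)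
  obtain ⟨g, hg⟩ := exists_prime_element h hk hl hld
  obtain ⟨z, hz, hzo⟩ := key hg
  exact ⟨z, hz, l, hl, hld.trans (Cl_one_dvd hkm), hzo⟩

theorem no_three_components (hT : Thompson3Prime33.ThreePrimeSimple.{u}) (hB : Bound m Q)
    {K₁ K₂ K₃ : Subgroup Q} (h₁ : Cfsg.IsComponent K₁) (h₂ : Cfsg.IsComponent K₂)
    (h₃ : Cfsg.IsComponent K₃) : K₁ = K₂ ∨ K₁ = K₃ ∨ K₂ = K₃ := by
  by_contra hne
  push Not at hne
  obtain ⟨⟨x, hx, hxo⟩, -, -⟩ := exists_mem_component hQ hT hB h₁
  obtain ⟨-, ⟨y, hy, hyo⟩, -⟩ := exists_mem_component hQ hT hB h₂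
  obtain ⟨-, -, ⟨z, hz, l, hl, hld, hzo⟩⟩ := exists_mem_component hQ hT hB h₃
  have hc : ∀ {A B : Subgroup Q}, Cfsg.IsComponent A → Cfsg.IsComponent B → A ≠ B →
      ∀ {a b : Q}, a ∈ A → b ∈ B → Commute a b := fun hA hB' hAB a b ha hb =>
    (Subgroup.mem_centralizer_iff.1 (Component.le_centralizer_of_ne hA hB' hAB ha) b hb).symm
  rcases five_dvd m with h5 | h5
  · exact hB.no_three (i := 0) Nat.prime_two (by norm_num) hl hxo hyo hzo (hc h₁ h₂ hne.1 hx hy)
      (hc h₁ h₃ hne.2.1 hx hz) (hc h₂ h₃ hne.2.2 hy hz) (by rw [Cl_zero]; norm_num) h5 hld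
      (by decide) (by decide) (by decide)
  · exact hB.no_three (i := 0) Nat.prime_two (by norm_num) hl hxo hyo hzo (hc h₁ h₂ hne.1 hx hy)
      (hc h₁ h₃ hne.2.1 hx hz) (hc h₂ h₃ hne.2.2 hy hz) (by rw [Cl_zero]; norm_num) h5 hld
      (by decide) (by decide) (by decide)

end Cfsg.Agent.Lib.SzSquareSpec
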