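import Cfsg.Agent.Lib.SzSquareSpec.Product
import Cfsg.Agent.Lib.Sz8Cover.Transfer

/-!
# `Sz(q) × Sz(q)` is recognised by its element orders

Modulo the classification of the simple groups of order prime to three, a finite group with the element
orders of `Sz(q) × Sz(q)`, `q = 2^(2m+1)` with `m ≥ 1`, `m ≠ 2`, is isomorphic to it.
-/

set_option autoImplicit false
set_option linter.unusedSectionVars false
set_option linter.style.haveILetI false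

namespace Cfsg.Agent.Lib.SzSquareSpec

open Cfsg.Agent.Lib.LieTwisted.Suzuki Cfsg.Agent.Lib.PrimePowerClass.Radical

universe u v

/-- A group satisfying the bound with all the products of two classes is a product of two Suzuki groups. -/
theorem structure_of_bound {G : Type u} [Group G] [Finite G] {m : ℕ} (hm : 1 ≤ m) (hm2 : m ≠ 2)
    (hT : Thompson3Prime33.ThreePrimeSimple.{u}) (hG : Bound m G)
    (hP : ∀ i j, i ≠ j → ∃ g : G, orderOf g = Cl m i * Cl m j) :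
    ∃ (F₁ F₂ : Type) (_ : Field F₁) (_ : Fintype F₁) (_ : Field F₂) (_ : Fintype F₂),
      IsSzField F₁ m ∧ IsSzField F₂ m ∧ Nonempty (G ≃* Cfsg.Sz F₁ m × Cfsg.Sz F₂ m) := by
  obtain ⟨K₁, hK₁, F₁, _, _, h₁, ⟨e₁⟩⟩ := exists_full hm hG hP hT
  obtain ⟨K₂, hK₂, hne⟩ := exists_second hm hG hP hT hK₁ h₁ e₁
  have hR := solRad_eq_bot hm hG hT hK₁ hK₂ hne.symm h₁ e₁
  let e₀ : G ≃* G ⧸ solRad G :=
    ((QuotientGroup.quotientMulEquivOfEq hR).trans QuotientGroup.quotientBot).symm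
  have hQ := solRad_quotient (G := G)
  have hB := hG.quotient (solRad G)
  have hP' : ∀ i j, i ≠ j → ∃ g : G ⧸ solRad G, orderOf g = Cl m i * Cl m j := fun i j hij => by
    obtain ⟨g, hg⟩ := hP i j hij
    exact ⟨e₀ g, by rw [e₀.orderOf_eq, hg]⟩
  obtain ⟨F₂, _, _, h₂, ⟨e₂⟩⟩ := second_full hm hQ hB hT hK₁ hK₂ hne.symm hP' h₁ e₁
  obtain ⟨f⟩ := exists_iso hm hQ hB hT hK₁ hK₂ hne.symm h₁ h₂ e₁ e₂ hm2
  exact ⟨F₁, F₂, inferInstance, inferInstance, inferInstance, inferInstance, h₁, h₂, ⟨e₀.trans f.symm⟩⟩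

/-- The recognition of `Sz(q) × Sz(q)` by its element orders. -/
theorem main (hT : Thompson3Prime33.ThreePrimeSimple.{u}) {F : Type v} [Field F] [Fintype F] {m : ℕ}
    (hm : 1 ≤ m) (hm2 : m ≠ 2) (hF : Fintype.card F = 2 ^ (2 * m + 1)) {G : Type u} [Group G] [Finite G]
    (h : Set.range (orderOf : G → ℕ) = Set.range (orderOf :
      ↥(Cfsg.Lie.Sz F (2 ^ (m + 1))) × ↥(Cfsg.Lie.Sz F (2 ^ (m + 1))) → ℕ)) :
    Nonempty (G ≃* ↥(Cfsg.Lie.Sz F (2 ^ (m + 1))) × ↥(Cfsg.Lie.Sz F (2 ^ (m + 1)))) := by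
  have hsz : IsSzField F m := ⟨hF⟩
  let eL := szEquiv hsz hm
  obtain ⟨hG, hP⟩ := of_range_eq hm hsz eL h
  obtain ⟨F₁, F₂, _, _, _, _, h₁, h₂, ⟨e⟩⟩ := structure_of_bound hm hm2 hT hG hP
  obtain ⟨ρ₁⟩ : Nonempty (F₁ ≃+* F) := ⟨FiniteField.ringEquivOfCardEq (h₁.card.trans hF.symm)⟩
  obtain ⟨ρ₂⟩ : Nonempty (F₂ ≃+* F) := ⟨FiniteField.ringEquivOfCardEq (h₂.card.trans hF.symm)⟩
  exact ⟨e.trans (MulEquiv.prodCongr ((Sz8Cover.szCongr h₁ hsz hm ρ₁).trans eL)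
    ((Sz8Cover.szCongr h₂ hsz hm ρ₂).trans eL))⟩

end Cfsg.Agent.Lib.SzSquareSpec
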