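import Cfsg.Agent.Lib.SzSquareSpec.Elem
import Cfsg.Agent.Lib.SylowInter.OddCyclic

/-!
# Modules of a cover of a Suzuki group in odd characteristic

Fixed points on an elementary abelian group `W` normalised by a minimal cover `D` of `Sz(q₀)`.
-/

set_option autoImplicit false
set_option linter.unusedSectionVars false
set_option linter.style.haveILetI false

namespace Cfsg.Agent.Lib.SzSquareSpec

open Cfsg.Agent.Lib.LieTwisted.Suzuki

variable {F : Type*} [Field F] [Fintype F] {k : ℕ} (h : IsSzField F k) (hk : 1 ≤ k)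
variable {D : Type*} [Group D] [Finite D] {φ : D →* Cfsg.Sz F k} (hφ : IsCover φ) {m : ℕ}
  (hD : Bound m D)
variable {X : Type*} [Group X] [Finite X] (ι : D →* X) {p : ℕ} [Fact p.Prime] (hp2 : p ≠ 2)
  {W : Subgroup X} (hW : Cfsg.IsElementaryAbelian p W)
  (hn : ∀ d, ι d ∈ Subgroup.normalizer (W : Set X))

include h hk hφ hD

theorem exists_invol : ∃ u : D, u ^ 2 = 1 ∧ φ u ≠ 1 := by
  obtain ⟨E, hE⟩ := exists_elem_lift h hk hφ hD
  obtain ⟨u, hu, hue⟩ := hE.surj 1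
  refine ⟨u, hE.sq u hu, fun e => one_ne_zero (h.uS_coords_inj (?_ : uS h 0 (1 : F) = uS h 0 0)).2⟩
  rw [← hue, e, h.uS_zero]

include hp2 hW hn

/-- An involution outside the kernel has a fixed point. -/
theorem fix_invol (hW1 : W ≠ ⊥) {u : D} (hu2 : u ^ 2 = 1) (hu1 : φ u ≠ 1) :
    ∃ w ∈ W, w ≠ 1 ∧ Commute (ι u) w := by
  by_contra hcon
  push Not at hcon
  have hu' : ι u * ι u = 1 := by rw [← map_mul, ← sq, hu2, map_one]
  have hinv : ∀ w ∈ W, ι u * w * (ι u)⁻¹ = w⁻¹ := by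
    intro w hw
    have hw' : ι u * w * (ι u)⁻¹ ∈ W := (Subgroup.mem_normalizer_iff.1 (hn u) w).1 hw
    have hwc : Commute w (ι u * w * (ι u)⁻¹) := congrArg Subtype.val (hW.1.is_comm.comm ⟨w, hw⟩ ⟨_, hw'⟩)
    have h1 : w * (ι u * w * (ι u)⁻¹) = 1 := by
      by_contra hne
      refine hcon _ (mul_mem hw hw') hne (mul_inv_eq_iff_eq_mul.1 ?_)
      calc ι u * (w * (ι u * w * (ι u)⁻¹)) * (ι u)⁻¹
          = (ι u * w * (ι u)⁻¹) * ((ι u * ι u) * w * ((ι u * ι u)⁻¹)) := by group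
        _ = (ι u * w * (ι u)⁻¹) * w := by rw [hu', inv_one, one_mul, mul_one]
        _ = w * (ι u * w * (ι u)⁻¹) := hwc.eq.symm
    exact eq_inv_of_mul_eq_one_right h1
  obtain ⟨t, ht⟩ := exists_not_commute h hk hφ (φ u) hu1
  obtain ⟨d, rfl⟩ := hφ.surj t
  have hcomm : ∀ w ∈ W, Commute (ι (u * d * u⁻¹ * d⁻¹)) w := by
    intro w hw
    refine mul_inv_eq_iff_eq_mul.1 ?_
    have hd' : (ι d)⁻¹ * w * ι d ∈ W := by
      have := (Subgroup.mem_normalizer_iff.1 (inv_mem (hn d)) w).1 hw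
      rwa [inv_inv] at this
    have hu'' : (ι u)⁻¹ = ι u := inv_eq_of_mul_eq_one_left hu'
    have h3 : ι u * ((ι d)⁻¹ * w * ι d) * (ι u)⁻¹ = ((ι d)⁻¹ * w * ι d)⁻¹ := hinv _ hd'
    have h4 : ι u * w⁻¹ * (ι u)⁻¹ = w := by
      rw [hinv _ (inv_mem hw), inv_inv]
    rw [map_mul, map_mul, map_mul, map_inv, map_inv]
    calc ι u * ι d * (ι u)⁻¹ * (ι d)⁻¹ * w * (ι u * ι d * (ι u)⁻¹ * (ι d)⁻¹)⁻¹
        = ι u * ι d * ((ι u)⁻¹ * ((ι d)⁻¹ * w * ι d) * ((ι u)⁻¹)⁻¹) * (ι d)⁻¹ * (ι u)⁻¹ := by group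
      _ = ι u * ι d * ((ι d)⁻¹ * w * ι d)⁻¹ * (ι d)⁻¹ * (ι u)⁻¹ := by
        have h5 : (ι u)⁻¹ * ((ι d)⁻¹ * w * ι d) * ((ι u)⁻¹)⁻¹ = ((ι d)⁻¹ * w * ι d)⁻¹ := by
          rw [hu'']; exact h3
        rw [h5]
      _ = ι u * w⁻¹ * (ι u)⁻¹ := by group
      _ = w := h4
  obtain ⟨w, hw, hw1⟩ := W.bot_or_exists_ne_one.resolve_left hW1
  refine hcon w hw hw1 (hφ.centralises_of h hk ι W hn (fun e => ht ?_) hcomm u w hw)
  rw [map_mul, map_mul, map_mul, map_inv, map_inv, mul_inv_eq_one, mul_inv_eq_iff_eq_mul] at e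
  exact e

/-- If the module is nontrivial some involution outside the kernel fixes two independent points. -/
theorem fix_two (hnt : ¬ ∀ d, ∀ w ∈ W, Commute (ι d) w) :
    ∃ u : D, u ^ 2 = 1 ∧ φ u ≠ 1 ∧ ∃ w₁ ∈ W, ∃ w₂ ∈ W, Commute (ι u) w₁ ∧ Commute (ι u) w₂ ∧
      w₁ ≠ 1 ∧ w₂ ∉ Subgroup.zpowers w₁ := by
  classical
  by_contra hcon
  push Not at hcon
  have hW1 : W ≠ ⊥ := by
    rintro rfl
    exact hnt fun d w hw => by rw [Subgroup.mem_bot.1 hw]; exact Commute.one_right _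
  obtain ⟨E, hE⟩ := exists_elem_lift h hk hφ hD
  have hcard : 8 ≤ Fintype.card F := by
    rw [h.card]
    exact Nat.pow_le_pow_right (show 0 < 2 by norm_num) (show 3 ≤ 2 * k + 1 by omega)
  obtain ⟨x, -, hx⟩ := Finset.exists_mem_notMem_of_card_lt_card (s := ({0, 1} : Finset F)) (t := Finset.univ)
    (lt_of_le_of_lt Finset.card_le_two (by rw [Finset.card_univ]; omega))
  obtain ⟨y, -, hy⟩ := Finset.exists_mem_notMem_of_card_lt_card (s := ({0, 1, x, 1 + x} : Finset F))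
    (t := Finset.univ) (lt_of_le_of_lt Finset.card_le_four (by rw [Finset.card_univ]; omega))
  simp only [Finset.mem_insert, Finset.mem_singleton, not_or] at hx hy
  obtain ⟨a1, ha1, he1⟩ := hE.surj 1
  obtain ⟨a2, ha2, he2⟩ := hE.surj x
  obtain ⟨u4, hu4, he4⟩ := hE.surj y
  let b : Fin 3 → F := ![1, x, 1 + x]
  let u : Fin 3 → D := ![a1, a2, a1 * a2]
  have huE : ∀ i, u i ∈ E := by
    intro i; fin_cases i
    · exact ha1
    · exact ha2
    · exact mul_mem ha1 ha2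
  have hadd : ∀ c c' : F, uS h 0 c * uS h 0 c' = uS h 0 (c + c') := fun c c' => by
    rw [h.uS_mul, sg_zero, zero_mul, add_zero, add_zero]
  have hue : ∀ i, φ (u i) = uS h 0 (b i) := by
    intro i; fin_cases i
    · exact he1
    · exact he2
    · show φ (a1 * a2) = uS h 0 (1 + x)
      rw [map_mul, he1, he2, hadd]
  have hne : ∀ c : F, c ≠ 0 → uS h 0 c ≠ 1 := fun c hc e => hc (h.uS_coords_inj (e.trans h.uS_zero.symm)).2
  have hb0 : ∀ i, b i ≠ 0 := by
    intro i; fin_cases i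
    · exact one_ne_zero
    · exact hx.1
    · intro e
      have e' : 1 + x = 0 := e
      exact hx.2 (by linear_combination e' - h.two0)
  have hyb : ∀ i, y + b i ≠ 0 := by
    intro i e
    fin_cases i
    · have e' : y + 1 = 0 := e
      exact hy.2.1 (by linear_combination e' - h.two0)
    · have e' : y + x = 0 := e
      exact hy.2.2.1 (by linear_combination e' - x * h.two0)
    · have e' : y + (1 + x) = 0 := e
      exact hy.2.2.2 (by linear_combination e' - (1 + x) * h.two0)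
  have hu1 : ∀ i, φ (u i) ≠ 1 := fun i => hue i ▸ hne _ (hb0 i)
  have hu4i : ∀ i, φ (u4 * u i) ≠ 1 := fun i => by rw [map_mul, he4, hue, hadd]; exact hne _ (hyb i)
  have hconj : ∀ d, ∀ w ∈ W, ι d * w * (ι d)⁻¹ ∈ W := fun d w hw =>
    (Subgroup.mem_normalizer_iff.1 (hn d) w).1 hw
  have hWc : ∀ w ∈ W, ∀ w' ∈ W, Commute w w' := fun w hw w' hw' =>
    congrArg Subtype.val (hW.1.is_comm.comm ⟨w, hw⟩ ⟨w', hw'⟩)
  choose v hvW hv1 hvc using fun i => fix_invol h hk hφ hD ι hp2 hW hn hW1 (hE.sq _ (huE i)) (hu1 i)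
  have hfix : ∀ i, ∀ w ∈ W, Commute (ι (u i)) w → w ∈ Subgroup.zpowers (v i) := fun i w hw hc =>
    hcon (u i) (hE.sq _ (huE i)) (hu1 i) (v i) (hvW i) w hw (hvc i) hc (hv1 i)
  -- symmetrisation
  have hsym : ∀ e ∈ E, ∀ w ∈ W, Commute (ι e) (w * (ι e * w * (ι e)⁻¹)) := by
    intro e he w hw
    have hee : ι e * ι e = 1 := by rw [← map_mul, ← sq, hE.sq e he, map_one]
    refine mul_inv_eq_iff_eq_mul.1 ?_
    calc ι e * (w * (ι e * w * (ι e)⁻¹)) * (ι e)⁻¹
        = (ι e * w * (ι e)⁻¹) * ((ι e * ι e) * w * (ι e * ι e)⁻¹) := by group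
      _ = (ι e * w * (ι e)⁻¹) * w := by rw [hee, one_mul, inv_one, mul_one]
      _ = _ := ((hWc w hw _ (hconj e w hw)).eq).symm
  have hsqrt : ∀ T : Subgroup X, ∀ w ∈ W, w ^ 2 ∈ T → w ∈ T := by
    intro T w hw hw2
    obtain ⟨c, hc⟩ := (Nat.Prime.odd_of_ne_two (Fact.out : p.Prime) hp2)
    have : (w ^ 2) ^ (c + 1) = w := by
      rw [← pow_mul, show 2 * (c + 1) = p + 1 by omega, pow_succ, hW.2 w hw, one_mul]
    exact this ▸ pow_mem hw2 _
  have hspan : ∀ T : Subgroup X, (∀ i, v i ∈ T) → ∀ w ∈ W, w ∈ T := by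
    intro T hT w hw
    refine hsqrt T w hw ?_
    have hmem : ∀ i, w * (ι (u i) * w * (ι (u i))⁻¹) ∈ T := fun i =>
      (Subgroup.zpowers_le.2 (hT i)) (hfix i _ (mul_mem hw (hconj _ w hw)) (hsym _ (huE i) w hw))
    set c1 := ι (u 0) * w * (ι (u 0))⁻¹ with hc1
    set c2 := ι (u 1) * w * (ι (u 1))⁻¹ with hc2
    set c3 := ι (u 2) * w * (ι (u 2))⁻¹ with hc3
    have hc1W : c1 ∈ W := hconj _ w hw
    have hc2W : c2 ∈ W := hconj _ w hw
    have hc3W : c3 ∈ W := hconj _ w hw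
    set nn := w * c1 * (c2 * c3) with hnn
    have hnW : nn ∈ W := mul_mem (mul_mem hw hc1W) (mul_mem hc2W hc3W)
    have h23 : c3 = ι (u 0) * c2 * (ι (u 0))⁻¹ := by
      rw [hc3, hc2, show ι (u 2) = ι (u 0) * ι (u 1) from map_mul ι a1 a2]; group
    have hn0 : nn ∈ T := by
      refine (Subgroup.zpowers_le.2 (hT 0)) (hfix 0 nn hnW ?_)
      rw [hnn, h23]
      exact (hsym _ (huE 0) w hw).mul_right (hsym _ (huE 0) c2 hc2W)
    have : w ^ 2 = (w * c1) * (w * c2) * (w * c3) * nn⁻¹ := by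
      let W' : W := ⟨w, hw⟩
      letI : CommGroup W := { W.toGroup with mul_comm := hW.1.is_comm.comm }
      have e : W' ^ 2 = W' * ⟨c1, hc1W⟩ * (W' * ⟨c2, hc2W⟩) * (W' * ⟨c3, hc3W⟩) *
          (W' * ⟨c1, hc1W⟩ * (⟨c2, hc2W⟩ * ⟨c3, hc3W⟩))⁻¹ := by
        rw [eq_mul_inv_iff_mul_eq, sq]
        simp only [mul_assoc, mul_comm, mul_left_comm]
      exact congrArg Subtype.val e
    rw [this]
    exact mul_mem (mul_mem (mul_mem (hmem 0) (hmem 1)) (hmem 2)) (inv_mem hn0)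
  have hdist : ∀ i j, i ≠ j → v j ∉ Subgroup.zpowers (v i) := by
    intro i j hij hji
    have hall : ∀ l, v l ∈ Subgroup.zpowers (v i) := by
      intro l
      by_cases hli : l = i
      · rw [hli]; exact Subgroup.mem_zpowers _
      by_cases hlj : l = j
      · rw [hlj]; exact hji
      have hci : Commute (ι (u i)) (v j) := by
        obtain ⟨z, hz⟩ := Subgroup.mem_zpowers_iff.1 hji
        rw [← hz]; exact (hvc i).zpow_right z
      have hl : Commute (ι (u l)) (v j) := by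
        have key : u l = u i * u j := by
          have s1 := hE.sq a1 ha1; have s2 := hE.sq a2 ha2; have c12 := hE.comm a1 ha1 a2 ha2
          rw [sq] at s1 s2
          have f1 : a1 = a2 * (a1 * a2) := by rw [c12.eq, ← mul_assoc, s2, one_mul]
          have f2 : a1 = a1 * a2 * a2 := by rw [mul_assoc, s2, mul_one]
          have f3 : a2 = a1 * (a1 * a2) := by rw [← mul_assoc, s1, one_mul]
          have f4 : a2 = a1 * a2 * a1 := by rw [c12.eq, mul_assoc, s1, mul_one]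
          fin_cases i <;> fin_cases j <;> fin_cases l <;>
            first
              | exact absurd rfl hij
              | exact absurd rfl hli
              | exact absurd rfl hlj
              | exact f1
              | exact f2
              | exact f3
              | exact f4
              | exact c12.eq
              | exact rfl
        rw [key, map_mul]
        exact hci.mul_left (hvc j)
      obtain ⟨z, hz⟩ := Subgroup.mem_zpowers_iff.1 (hfix l _ (hvW j) hl)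
      haveI : Fact p.Prime := inferInstance
      have hgen : Subgroup.zpowers (v j) = Subgroup.zpowers (v l) := by
        refine Subgroup.eq_of_le_of_card_ge (Subgroup.zpowers_le.2 ⟨z, hz⟩) ?_
        rw [Nat.card_zpowers, Nat.card_zpowers, orderOf_eq_prime (hW.2 _ (hvW j)) (hv1 j),
          orderOf_eq_prime (hW.2 _ (hvW l)) (hv1 l)]
      exact (Subgroup.zpowers_le.2 hji) (hgen ▸ Subgroup.mem_zpowers (v l))
    refine hnt fun d w hw => ?_
    haveI : IsCyclic W := Subgroup.isCyclic_of_le (hspan _ hall)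
    exact hφ.centralises_cyclic h hk ι W hn d w hw
  have hinvert : ∀ i j, i ≠ j → ι (u i) * v j * (ι (u i))⁻¹ = (v j)⁻¹ := by
    intro i j hij
    refine eq_inv_of_mul_eq_one_right ?_
    by_contra hne'
    have hcj : Commute (ι (u j)) (ι (u i) * v j * (ι (u i))⁻¹) := by
      have := (((hE.comm _ (huE j) _ (huE i)).map ι).mul_right (hvc j)).mul_right
        (((hE.comm _ (huE j) _ (huE i)).map ι).inv_right)
      exact this
    have hmj : v j * (ι (u i) * v j * (ι (u i))⁻¹) ∈ W := mul_mem (hvW j) (hconj _ _ (hvW j))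
    have h1 := hfix i _ hmj (hsym _ (huE i) _ (hvW j))
    have h2 := hcon (u j) (hE.sq _ (huE j)) (hu1 j) _ hmj (v j) (hvW j) ((hvc j).mul_right hcj) (hvc j) hne'
    exact hdist i j hij (Subgroup.zpowers_le.2 h1 h2)
  have hu4' : ∀ j, Commute (ι u4) (v j) ∨ ι u4 * v j * (ι u4)⁻¹ = (v j)⁻¹ := by
    intro j
    refine or_iff_not_imp_right.2 fun hni => ?_
    have hcj : Commute (ι (u j)) (ι u4 * v j * (ι u4)⁻¹) :=
      (((hE.comm _ (huE j) _ hu4).map ι).mul_right (hvc j)).mul_right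
        (((hE.comm _ (huE j) _ hu4).map ι).inv_right)
    have hmj : v j * (ι u4 * v j * (ι u4)⁻¹) ∈ W := mul_mem (hvW j) (hconj _ _ (hvW j))
    have h2 := hcon (u j) (hE.sq _ (huE j)) (hu1 j) _ hmj (v j) (hvW j) ((hvc j).mul_right hcj) (hvc j)
      (fun e => hni (eq_inv_of_mul_eq_one_right e))
    obtain ⟨z, hz⟩ := Subgroup.mem_zpowers_iff.1 h2
    rw [← hz]
    exact (hsym _ hu4 _ (hvW j)).zpow_right z
  have hu41 : φ u4 ≠ 1 := he4 ▸ hne _ hy.1
  by_cases hex : ∃ i, Commute (ι u4) (v i)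
  · obtain ⟨i, hi⟩ := hex
    have hall : ∀ j, v j ∈ Subgroup.centralizer {ι (u4 * u i)} := by
      intro j
      rw [Subgroup.mem_centralizer_singleton_iff, map_mul]
      by_cases hji : j = i
      · subst hji; exact (hi.mul_left (hvc j)).eq.symm
      have hj : ι u4 * v j * (ι u4)⁻¹ = (v j)⁻¹ := (hu4' j).resolve_left fun hjc =>
        hdist i j (Ne.symm hji) (hcon u4 (hE.sq _ hu4) hu41 (v i) (hvW i) (v j) (hvW j) hi hjc (hv1 i))
      refine (mul_inv_eq_iff_eq_mul.1 ?_).symm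
      calc ι u4 * ι (u i) * v j * (ι u4 * ι (u i))⁻¹
          = ι u4 * (ι (u i) * v j * (ι (u i))⁻¹) * (ι u4)⁻¹ := by group
        _ = (ι u4 * v j * (ι u4)⁻¹)⁻¹ := by rw [hinvert i j (Ne.symm hji)]; group
        _ = v j := by rw [hj, inv_inv]
    refine hnt fun d w hw => hφ.centralises_of h hk ι W hn (hu4i i) (fun w hw => ?_) d w hw
    exact (Subgroup.mem_centralizer_singleton_iff.1 (hspan _ hall w hw)).symm
  · push Not at hex
    let T : Subgroup X :=
      { carrier := {w | w ∈ W ∧ ι u4 * w * (ι u4)⁻¹ = w⁻¹}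
        one_mem' := ⟨one_mem W, by group⟩
        mul_mem' := fun {a c} ha hc => ⟨mul_mem ha.1 hc.1, by
          rw [mul_inv_rev, ← (hWc _ (inv_mem ha.1) _ (inv_mem hc.1)).eq, ← ha.2, ← hc.2]; group⟩
        inv_mem' := fun {a} ha => ⟨inv_mem ha.1, by rw [← conj_inv, ha.2]⟩ }
    obtain ⟨w, hw, hw1, hwc⟩ := fix_invol h hk hφ hD ι hp2 hW hn hW1 (hE.sq _ hu4) hu41
    have hwT := hspan T (fun i => ⟨hvW i, (hu4' i).resolve_left (hex i)⟩) w hw
    have h2 : w ^ 2 = 1 := by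
      have := hwT.2
      rw [hwc.eq, mul_inv_cancel_right] at this
      rw [sq]; exact mul_eq_one_iff_eq_inv.2 this
    exact hw1 (Subgroup.mem_bot.1 (hsqrt ⊥ w hw (Subgroup.mem_bot.2 h2)))

omit hp2 in
/-- In the full field a module in a class of `q - 1` is trivial. -/
theorem trivial_of_class_one (hX : Bound m X) (hkm : k = m) (hpC : p ∣ Cl m 1) (d : D) :
    ∀ w ∈ W, Commute (ι d) w := by
  by_contra hnt
  obtain ⟨E, hE⟩ := exists_elem_lift h hk hφ hD
  have hC0 : Cl m 1 ≠ 0 := (odd_Cl (m := m) 1 (by decide)).pos.ne'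
  obtain ⟨a, c, hc, hac⟩ := Nat.exists_eq_pow_mul_and_not_dvd hC0 p (Nat.Prime.ne_one Fact.out)
  obtain ⟨n, rfl⟩ : ∃ n, a = n + 1 := Nat.exists_eq_add_one.2 (Nat.pos_of_ne_zero fun e => hc (by
    rw [hac, e, pow_zero, one_mul] at hpC; exact hpC))
  obtain ⟨e0, he0⟩ := IsCyclic.exists_ofOrder_eq_natCard (α := Fˣ)
  have hcard : Nat.card Fˣ = p ^ (n + 1) * c := by
    rw [Nat.card_units, Nat.card_eq_fintype_card, h.card, hkm]; exact hac
  have hce : orderOf (e0 ^ c) = p ^ (n + 1) := by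
    rw [orderOf_pow_of_dvd (fun e => by subst e; simp at hc) (he0 ▸ hcard ▸ dvd_mul_left c _), he0, hcard,
      Nat.mul_div_cancel _ (Nat.pos_of_ne_zero fun e => by subst e; simp at hc)]
  have hds : orderOf (dS h (e0 ^ c)) = p ^ (n + 1) := by rw [orderOf_injective _ h.dS_injective, hce]
  obtain ⟨g0, hg0, hg0e⟩ := hE.torus (e0 ^ c)
  obtain ⟨g, hg, hge, b, hb⟩ := exists_pPower_lift φ (Y := Subgroup.normalizer (E : Set D))
    ⟨g0, hg0, hg0e⟩ (Fact.out : p.Prime) (hds ▸ pow_orderOf_eq_one (dS h (e0 ^ c)))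
  have hbn : b = n + 1 := by
    refine le_antisymm ?_ ?_
    · by_contra hlt
      have h1 := hD.pow_dvd g (Fact.out : p.Prime) hpC (a := n + 2)
        (hb ▸ pow_dvd_pow p (by omega))
      rw [hac, pow_succ] at h1
      exact hc (Nat.dvd_of_mul_dvd_mul_left (pow_pos (Nat.Prime.pos Fact.out) _) h1)
    · have := orderOf_map_dvd φ g
      rw [hge, hds, hb] at this
      exact (Nat.pow_dvd_pow_iff_le_right (Nat.Prime.one_lt Fact.out)).1 this
  subst hbn
  obtain ⟨ev, hev, heve⟩ := hE.surj 1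
  by_cases hfaith : ∀ w ∈ W, Commute (ι (g ^ p ^ n * ev * (g ^ p ^ n)⁻¹ * ev⁻¹)) w
  · refine hnt (hφ.centralises_of h hk ι W hn (fun e => ?_) hfaith d)
    rw [map_mul, map_mul, map_mul, map_inv, map_inv, map_pow, hge, heve, ← map_pow (dS h), mul_inv_eq_one] at e
    have h1 := SzElements.Basic.conj_center h 0 0 ((e0 ^ c) ^ p ^ n) 1
    rw [h.uS_zero, one_mul] at h1
    have h2 := (h.uS_coords_inj (h1.symm.trans e)).2
    have h3 : (e0 ^ c) ^ p ^ n = 1 := h.torus_mul_inj one_ne_zero (by simpa using h2)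
    have := orderOf_dvd_of_pow_eq_one h3
    rw [hce, Nat.pow_dvd_pow_iff_le_right (Nat.Prime.one_lt Fact.out)] at this
    omega
  · push Not at hfaith
    obtain ⟨w0, hw0, hne⟩ := hfaith
    have h2p : (2 : ℕ) ≠ p := fun e => by
      subst e
      exact (odd_Cl (m := m) 1 (by decide)).not_two_dvd_nat hpC
    obtain ⟨w, hw, h1, h2⟩ := exists_pow_ne_one (p := p) (r := 2) Nat.prime_two h2p W hW (n := n)
      (ι g) (hn g) (by rw [← map_pow, ← hb, pow_orderOf_eq_one, map_one]) (E.map ι)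
      (IsPGroup.map (fun x => ⟨1, Subtype.ext (by rw [Subgroup.coe_pow, pow_one]; exact hE.sq x x.2)⟩) ι)
      (by rintro _ ⟨x, -, rfl⟩; exact hn x) (Subgroup.le_normalizer_map ι ⟨g, hg, rfl⟩)
      (Or.inl ⟨⟨fun x y => Subtype.ext (by
        obtain ⟨a, ha, hae⟩ := x.2
        obtain ⟨b, hb, hbe⟩ := y.2
        show (x : X) * y = y * x
        rw [← hae, ← hbe]
        exact ((hE.comm a ha b hb).map ι).eq)⟩⟩)
      ⟨ι ev, Subgroup.mem_map_of_mem ι hev, w0, hw0, by simpa using hne⟩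
    have h3 : orderOf (w * ι g) = p ^ (n + 1 + 1) := orderOf_eq_prime_pow h1 h2
    have h4 := hX.pow_dvd (w * ι g) (Fact.out : p.Prime) hpC (a := n + 2) (h3 ▸ dvd_rfl)
    rw [hac, pow_succ] at h4
    exact hc (Nat.dvd_of_mul_dvd_mul_left (pow_pos (Nat.Prime.pos Fact.out) _) h4)

open Frobenius in
/-- For a prime `ℓ` dividing `q₀ - 1` an element of order `ℓ` has a fixed point. -/
theorem fix_ell {l : ℕ} [Fact l.Prime] (hl : l ∣ Cl k 1) (hlp : l ≠ p) (hW1 : W ≠ ⊥) :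
    ∃ d : D, orderOf d = l ∧ ∃ w ∈ W, w ≠ 1 ∧ Commute (ι d) w := by
  classical
  by_contra hno
  push Not at hno
  have hl2 : l ≠ 2 := fun e => by
    subst e
    exact (odd_Cl (m := k) 1 (by decide)).not_two_dvd_nat hl
  letI : CommGroup W := { W.toGroup with mul_comm := hW.1.is_comm.comm }
  haveI : Nontrivial W := (Subgroup.nontrivial_iff_ne_bot W).2 hW1
  let ρ : D →* MulAut W := W.normalizerMonoidHom.comp (ι.codRestrict _ hn)
  have hρ : ∀ d (w : W), ((ρ d w : W) : X) = ι d * w * (ι d)⁻¹ := fun d w => rfl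
  have hfpf : ∀ d : D, d ≠ 1 → (∃ a, d ^ l ^ a = 1) → ∀ w : W, ρ d w = w → w = 1 := by
    rintro d hd1 ⟨a, ha⟩ w hw
    obtain ⟨b, -, hb⟩ := (Nat.dvd_prime_pow (Fact.out : l.Prime)).1 (orderOf_dvd_of_pow_eq_one ha)
    have hb0 : b ≠ 0 := fun e => hd1 (orderOf_eq_one_iff.1 (by rw [hb, e, pow_zero]))
    have hlb : l ∣ orderOf d := hb ▸ dvd_pow_self l hb0
    refine Subtype.ext (by_contra fun hw1 => hno (d ^ (orderOf d / l))
      (orderOf_pow_orderOf_div (orderOf_pos d).ne' hlb) w w.2 hw1 ?_)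
    rw [map_pow]
    exact Commute.pow_left (mul_inv_eq_iff_eq_mul.1 (by rw [← hρ, hw])) _
  obtain ⟨L⟩ : Nonempty (Sylow l D) := inferInstance
  haveI hLc : IsCyclic L := SylowInter.OddCyclic.isCyclic_of_fpf (ρ := ρ.comp (L : Subgroup D).subtype)
    (fun x hx w hw => hfpf x (fun e => hx (Subtype.ext e))
      ((L.2 x).imp fun a ha => congrArg Subtype.val ha) w hw) hl2 L.2
  obtain ⟨M, hMn, hM, hMk, hMmem⟩ := hφ.exists_ker_sylow h hk l
  have hML : M ≤ L := by
    obtain ⟨Q, hQ⟩ := hM.exists_le_sylow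
    obtain ⟨g, hg⟩ := MulAction.exists_smul_eq D Q L
    intro x hx
    rw [← hg]
    have : g⁻¹ * x * g⁻¹⁻¹ ∈ (Q : Subgroup D) := hQ (hMn.conj_mem x hx g⁻¹)
    exact Subgroup.mem_pointwise_smul_iff_inv_smul_mem.2 (by simpa using this)
  haveI : IsCyclic M := Subgroup.isCyclic_of_le hML
  have hMbot : ∀ x ∈ M, x = 1 := by
    intro x hx
    have hxc : ∀ d, Commute d x := fun d =>
      hφ.centralises_cyclic h hk (MonoidHom.id D) M
        (fun e => by rw [Subgroup.normalizer_eq_top]; trivial) d x hx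
    letI : CommGroup (L : Subgroup D) := IsCyclic.commGroup
    have key : ∀ (j : ℕ) (g₀ : D), g₀⁻¹ * x ^ j * g₀ ∈ (L : Subgroup D) → g₀⁻¹ * x ^ j * g₀ = x ^ j :=
      fun j g₀ _ => by
        rw [mul_assoc, ← ((hxc g₀).pow_right j).eq, inv_mul_cancel_left]
    have h1 := hφ.hom_comm h hk (MonoidHom.transfer (MonoidHom.id (L : Subgroup D)))
      (fun a b => Commute.all _ _) x
    rw [MonoidHom.transfer_eq_pow _ x key] at h1
    have h2 : x ^ (L : Subgroup D).index = 1 := congrArg Subtype.val h1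
    obtain ⟨a, ha⟩ := IsPGroup.iff_orderOf.1 hM ⟨x, hx⟩
    rw [Subgroup.orderOf_mk] at ha
    have h3 := orderOf_dvd_of_pow_eq_one h2
    rcases Nat.eq_zero_or_pos a with rfl | ha0
    · exact orderOf_eq_one_iff.1 (by simpa using ha)
    · rw [ha] at h3
      exact absurd ((dvd_pow_self l ha0.ne').trans h3) L.not_dvd_index
  obtain ⟨E, hE⟩ := exists_elem_lift h hk hφ hD
  obtain ⟨e0, he0⟩ := exists_prime_orderOf_dvd_card' (G := Fˣ) l (by
    rw [Nat.card_units, Nat.card_eq_fintype_card, h.card]; exact hl)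
  have hds : orderOf (dS h e0) = l := by rw [orderOf_injective _ h.dS_injective, he0]
  obtain ⟨g0, hg0, hg0e⟩ := hE.torus e0
  obtain ⟨g, hg, hge, b, hb⟩ := exists_pPower_lift φ (Y := Subgroup.normalizer (E : Set D))
    ⟨g0, hg0, hg0e⟩ (Fact.out : l.Prime) (a := 1) (by rw [pow_one, ← hds, pow_orderOf_eq_one])
  have hgl : g ^ l = 1 := hMbot _ (hMmem _ (by rw [MonoidHom.mem_ker, map_pow, hge, ← hds, pow_orderOf_eq_one])
    ⟨b, by rw [← pow_mul, mul_comm, pow_mul, ← hb, pow_orderOf_eq_one, one_pow]⟩)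
  -- the subgroup `A = [E, g]`
  have hgE : ∀ x ∈ E, ∀ j : ℕ, g ^ j * x * (g ^ j)⁻¹ ∈ E := fun x hx j =>
    (Subgroup.mem_normalizer_iff.1 (pow_mem hg j) x).1 hx
  let ψ : E →* E :=
    { toFun := fun x => ⟨(x : D) * (g * x * g⁻¹), mul_mem x.2 (by simpa using hgE x x.2 1)⟩
      map_one' := Subtype.ext (by simp)
      map_mul' := fun x y => Subtype.ext (by
        show (x : D) * y * (g * (x * y) * g⁻¹) = (x : D) * (g * x * g⁻¹) * (y * (g * y * g⁻¹))
        have hcx : Commute (g * x * g⁻¹) (y : D) := hE.comm _ (by simpa using hgE x x.2 1) _ y.2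
        calc (x : D) * y * (g * (x * y) * g⁻¹) = x * (y * (g * x * g⁻¹)) * (g * y * g⁻¹) := by group
          _ = x * ((g * x * g⁻¹) * y) * (g * y * g⁻¹) := by rw [hcx.eq]
          _ = _ := by group) }
  set μ : F := sg k (e0 : F) * (e0 : F) ^ 2 with hμ
  have hφg : ∀ (c : F) (j : ℕ), dS h e0 ^ j * uS h 0 c * (dS h e0 ^ j)⁻¹ = uS h 0 (μ ^ j * c) := by
    intro c j
    induction j with
    | zero => simp
    | succ j ih =>
      have h1 := SzElements.Basic.conj_center h 0 0 e0 (μ ^ j * c)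
      rw [h.uS_zero, one_mul] at h1
      rw [pow_succ', mul_inv_rev]
      calc dS h e0 * dS h e0 ^ j * uS h 0 c * ((dS h e0 ^ j)⁻¹ * (dS h e0)⁻¹)
          = dS h e0 * (dS h e0 ^ j * uS h 0 c * (dS h e0 ^ j)⁻¹) * (dS h e0)⁻¹ := by group
        _ = _ := by rw [ih, h1, pow_succ' μ j, mul_assoc μ]
  have hμj : ∀ j : ℕ, ¬ l ∣ j → ∀ c : F, c + μ ^ j * c = 0 → c = 0 := by
    intro j hj c hc
    by_contra hc0
    refine hj ?_
    have h1 := SzElements.Basic.conj_center h 0 0 (e0 ^ j) c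
    rw [h.uS_zero, one_mul, map_pow, hφg] at h1
    have h2 : sg k ((e0 ^ j : Fˣ) : F) * ((e0 ^ j : Fˣ) : F) ^ 2 * c = c := by
      rw [← (h.uS_coords_inj h1).2]; linear_combination hc - c * h.two0
    exact he0 ▸ orderOf_dvd_of_pow_eq_one (h.torus_mul_inj hc0 h2)
  set A := (ψ.range).map E.subtype with hA
  have hAE : A ≤ E := Subgroup.map_subtype_le _
  have hAinj : ∀ a ∈ A, φ a = 1 → a = 1 := by
    rintro _ ⟨_, ⟨x, rfl⟩, rfl⟩ h1
    obtain ⟨c, hc⟩ := hE.center x x.2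
    have h2 : uS h 0 (c + μ ^ 1 * c) = 1 := by
      rw [← h1]
      show _ = φ ((x : D) * (g * x * g⁻¹))
      rw [map_mul, map_mul, map_mul, map_inv, hge, hc]
      have h3 := hφg c 1
      rw [pow_one] at h3
      rw [h3, pow_one, h.uS_mul, sg_zero, zero_mul, add_zero, add_zero]
    have hc0 := hμj 1 (Nat.Prime.not_dvd_one Fact.out) c (h.uS_coords_inj (h2.trans h.uS_zero.symm)).2
    rw [hc0, h.uS_zero] at hc
    have hcc := ker_two_central h hk hφ hD hc (a := 1) (by rw [pow_one]; exact hE.sq x x.2) g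
    show (x : D) * (g * x * g⁻¹) = 1
    rw [hcc.eq, mul_inv_cancel_right, ← sq, hE.sq x x.2]
  have hAg : ∀ a ∈ A, ∀ j : ℕ, g ^ j * a * (g ^ j)⁻¹ ∈ A := by
    rintro _ ⟨_, ⟨x, rfl⟩, rfl⟩ j
    refine ⟨_, ⟨⟨g ^ j * x * (g ^ j)⁻¹, hgE x x.2 j⟩, rfl⟩, ?_⟩
    show g ^ j * x * (g ^ j)⁻¹ * (g * (g ^ j * x * (g ^ j)⁻¹) * g⁻¹) =
      g ^ j * ((x : D) * (g * x * g⁻¹)) * (g ^ j)⁻¹
    group
  obtain ⟨x1, hx1, hx1e⟩ := hE.surj 1
  set a1 := (x1 : D) * (g * x1 * g⁻¹) with ha1d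
  have ha1 : a1 ∈ A := ⟨_, ⟨⟨x1, hx1⟩, rfl⟩, rfl⟩
  have ha1' : φ a1 ≠ 1 := by
    rw [ha1d, map_mul, map_mul, map_mul, map_inv, hge, hx1e]
    have h3 := hφg 1 1
    rw [pow_one] at h3
    rw [h3, pow_one, h.uS_mul, sg_zero, zero_mul, add_zero, add_zero]
    intro e
    exact one_ne_zero (hμj 1 (Nat.Prime.not_dvd_one Fact.out) (1 : F) (by
      rw [pow_one]; exact (h.uS_coords_inj (e.trans h.uS_zero.symm)).2))
  haveI : Fintype A := Fintype.ofFinite A
  -- every orbit product of a conjugate of `g` is trivial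
  have hprod : ∀ (a : A) (w : W), ∏ i ∈ Finset.range l, ρ ((a : D) * g ^ i * (a : D)⁻¹) w = 1 := by
    intro a w
    set d := (a : D) * g * (a : D)⁻¹ with hd
    have hdl : d ^ l = 1 := by rw [hd, conj_pow, hgl, mul_one, mul_inv_cancel]
    have hd1 : d ≠ 1 := fun e => by
      have : orderOf (φ g) = l := by rw [hge, hds]
      rw [hd, mul_inv_eq_one, mul_eq_left] at e
      rw [e, map_one, orderOf_one] at this
      exact (Nat.Prime.ne_one Fact.out) this.symm
    refine hfpf d hd1 ⟨1, by rw [pow_one]; exact hdl⟩ _ ?_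
    rw [map_prod]
    obtain ⟨l', hl'⟩ : ∃ l', l = l' + 1 := Nat.exists_eq_add_one.2 (Nat.Prime.pos Fact.out)
    have e : ∀ i, ρ d (ρ ((a : D) * g ^ i * (a : D)⁻¹) w) = ρ ((a : D) * g ^ (i + 1) * (a : D)⁻¹) w := fun i => by
      rw [← MulAut.mul_apply, ← map_mul, hd, pow_succ']
      congr 2
      group
    simp only [e]
    rw [hl', Finset.prod_range_succ, Finset.prod_range_succ' (fun i => ρ ((a : D) * g ^ i * (a : D)⁻¹) w),
      ← hl', hgl, pow_zero]
  have htot : ∀ w : W, (∀ j : ℕ, ∏ a : A, ρ (a : D) (ρ (g ^ j) w) = 1) → w = 1 := by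
    intro w hw
    have h1 : ∏ i ∈ Finset.range l, ∏ a : A, ρ ((a : D) * g ^ i * (a : D)⁻¹) w = 1 := by
      rw [Finset.prod_comm]; exact Finset.prod_eq_one fun a _ => hprod a w
    have h2 : ∀ i ∈ Finset.range l, i ≠ 0 → ∏ a : A, ρ ((a : D) * g ^ i * (a : D)⁻¹) w = 1 := by
      intro i hi hi0
      rw [← hw i]
      let f : A → A := fun a => ⟨(a : D) * (g ^ i * (a : D)⁻¹ * (g ^ i)⁻¹), mul_mem a.2 (hAg _ (inv_mem a.2) i)⟩
      have hf : Function.Bijective f := by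
        refine (Finite.injective_iff_bijective).1 fun a a' haa => Subtype.ext ?_
        obtain ⟨c, hc⟩ := hE.center _ (hAE a.2)
        obtain ⟨c', hc'⟩ := hE.center _ (hAE a'.2)
        have hsub : ∀ (z : A) (cz : F), φ z = uS h 0 cz → φ (f z : D) = uS h 0 (cz + μ ^ i * cz) := by
          intro z cz hz
          show φ ((z : D) * (g ^ i * (z : D)⁻¹ * (g ^ i)⁻¹)) = _
          rw [map_mul, map_mul, map_mul, map_inv, map_inv, map_pow, hge, hz, h.uS_inv, sg_zero, zero_mul,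
            add_zero, hφg, h.uS_mul, sg_zero, zero_mul, add_zero, add_zero]
        have h3 := congrArg (fun z : A => φ (z : D)) haa
        simp only [hsub a c hc, hsub a' c' hc'] at h3
        have h4 := (h.uS_coords_inj h3).2
        have h5 : c - c' = 0 := hμj i
          (Nat.not_dvd_of_pos_of_lt (Nat.pos_of_ne_zero hi0) (Finset.mem_range.1 hi)) _ (by
            linear_combination h4 - 0)
        have hz : φ ((a : D) * (a' : D)⁻¹) = 1 := by
          rw [map_mul, map_inv, hc, hc', sub_eq_zero.1 h5, mul_inv_cancel]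
        exact mul_inv_eq_one.1 (hAinj _ (mul_mem a.2 (inv_mem a'.2)) hz)
      rw [← (Equiv.ofBijective f hf).prod_comp (fun a : A => ρ (a : D) (ρ (g ^ i) w))]
      refine Finset.prod_congr rfl fun a _ => ?_
      show _ = ρ ((a : D) * (g ^ i * (a : D)⁻¹ * (g ^ i)⁻¹)) (ρ (g ^ i) w)
      rw [← MulAut.mul_apply, ← map_mul]
      congr 2
      group
    rw [Finset.prod_eq_single 0 h2 (fun h0 => absurd (Finset.mem_range.2 (Nat.Prime.pos Fact.out)) h0)] at h1
    simp only [pow_zero, mul_one, mul_inv_cancel, map_one, MulAut.one_apply, Finset.prod_const,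
      Finset.card_univ] at h1
    have hA2 : IsPGroup 2 A := fun a => ⟨1, Subtype.ext (by rw [Subgroup.coe_pow, pow_one]; exact hE.sq _ (hAE a.2))⟩
    haveI : Fact (Nat.Prime 2) := ⟨Nat.prime_two⟩
    obtain ⟨j, hj⟩ := IsPGroup.iff_card.1 hA2
    rw [← Nat.card_eq_fintype_card, hj] at h1
    have hwp : w ^ p = 1 := Subtype.ext (hW.2 _ w.2)
    have hd' : orderOf w ∣ Nat.gcd (2 ^ j) p :=
      Nat.dvd_gcd (orderOf_dvd_of_pow_eq_one h1) (orderOf_dvd_of_pow_eq_one hwp)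
    rw [(((Nat.coprime_primes Nat.prime_two (Fact.out : p.Prime)).2 hp2.symm).pow_left j).gcd_eq_one,
      Nat.dvd_one, orderOf_eq_one_iff] at hd'
    exact hd'
  have hcentral : ∀ w ∈ W, Commute (ι a1) w := by
    intro w hw
    have h1 := htot ((ρ a1 ⟨w, hw⟩) * (⟨w, hw⟩ : W)⁻¹) (fun j => by
      simp only [map_mul, map_inv, Finset.prod_mul_distrib, Finset.prod_inv_distrib]
      rw [mul_inv_eq_one]
      let e : A ≃ A := Equiv.mulRight ⟨g ^ j * a1 * (g ^ j)⁻¹, hAg a1 ha1 j⟩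
      conv_rhs => rw [← e.prod_comp (fun a : A => ρ (a : D) (ρ (g ^ j) ⟨w, hw⟩))]
      refine Finset.prod_congr rfl fun a _ => ?_
      show ρ (a : D) (ρ (g ^ j) (ρ a1 ⟨w, hw⟩)) = ρ ((a : D) * (g ^ j * a1 * (g ^ j)⁻¹)) (ρ (g ^ j) ⟨w, hw⟩)
      simp only [← MulAut.mul_apply, ← map_mul]
      congr 2
      group)
    rw [mul_inv_eq_one] at h1
    exact mul_inv_eq_iff_eq_mul.1 (congrArg Subtype.val h1)
  obtain ⟨w, hw, hw1⟩ := W.bot_or_exists_ne_one.resolve_left hW1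
  refine hno g ?_ w hw hw1 (hφ.centralises_of h hk ι W hn ha1' hcentral g w hw)
  refine orderOf_eq_prime hgl fun e => ?_
  rw [e, map_one] at hge
  rw [← hge, orderOf_one] at hds
  exact (Nat.Prime.ne_one Fact.out) hds.symm

end Cfsg.Agent.Lib.SzSquareSpec
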