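import Cfsg.Agent.Lib.SzSquareSpec.Count

/-!
# Two components leave no room for a soluble radical

If a group with `Bound m` has an elementary abelian normal subgroup modulo which two commuting Suzuki
groups occur, the first over the field with `2^(2m+1)` elements, a contradiction follows.  Hence a group
whose quotient by the radical has two such components has trivial radical.
-/

set_option autoImplicit false
set_option linter.unusedSectionVars false
set_option linter.style.haveILetI false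

namespace Cfsg.Agent.Lib.SzSquareSpec

open Cfsg.Agent.Lib.LieTwisted.Suzuki Cfsg.Agent.Lib.PrimePowerClass.Radical Cfsg.Agent.Lib.Components
open scoped commutatorElement

universe u

variable {H : Type u} [Group H] [Finite H] {Q : Type u} [Group Q] {m : ℕ}

/-- The map of the preimage of a subgroup onto a Suzuki group. -/
theorem exists_hom_comap (f : H →* Q) (hf : Function.Surjective f) {K : Subgroup Q} {S : Type*} [Group S]
    (e : K ≃* S) : ∃ φ : K.comap f →* S, Function.Surjective φ ∧ ∀ x, φ x = 1 ↔ f x = 1 := by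
  refine ⟨e.toMonoidHom.comp (f.subgroupComap K),
    e.surjective.comp (f.subgroupComap_surjective_of_surjective K hf), fun x => ?_⟩
  show e _ = 1 ↔ _
  rw [MulEquiv.map_eq_one_iff]
  exact ⟨fun he => congrArg Subtype.val he, fun he => Subtype.ext he⟩

/-- Two commuting Suzuki groups modulo an elementary abelian kernel. -/
theorem false_of_pair (hH : Bound m H) (f : H →* Q) (hf : Function.Surjective f) {p : ℕ} [Fact p.Prime]
    (hV : Cfsg.IsElementaryAbelian p f.ker) (hV1 : f.ker ≠ ⊥) {K₁ K₂ : Subgroup Q}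
    (hc : ∀ a ∈ K₁, ∀ b ∈ K₂, Commute a b) (hm : 1 ≤ m) {F₁ : Type} [Field F₁] [Fintype F₁]
    (h₁ : IsSzField F₁ m) (e₁ : K₁ ≃* Cfsg.Sz F₁ m) {F₂ : Type} [Field F₂] [Fintype F₂] {k : ℕ}
    (hk : 1 ≤ k) (h₂ : IsSzField F₂ k) (e₂ : K₂ ≃* Cfsg.Sz F₂ k) : False := by
  have hp : p.Prime := Fact.out
  obtain ⟨φ₁, hφ₁, hk₁⟩ := exists_hom_comap f hf e₁
  obtain ⟨φ₂, hφ₂, hk₂⟩ := exists_hom_comap f hf e₂
  obtain ⟨D₂, -, hD₂⟩ := exists_cover φ₂ ⊤ (Subgroup.map_top_of_surjective φ₂ hφ₂)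
  let ι₂ : D₂ →* H := (K₂.comap f).subtype.comp D₂.subtype
  have hι₂o : ∀ d : D₂, orderOf (ι₂ d) = orderOf d := fun d =>
    orderOf_injective ι₂ (fun a b e => Subtype.ext (Subtype.ext e)) d
  have hB₂ : Bound m D₂ := (hH.subgroup _).subgroup D₂
  obtain ⟨v, hv, hv1⟩ := f.ker.bot_or_exists_ne_one.resolve_left hV1
  have hvo : orderOf v = p := orderOf_eq_prime (hV.2 v hv) hv1
  obtain ⟨i, hi⟩ := hH.exists_class_dvd hp (hvo ▸ dvd_rfl : p ∣ orderOf v)
  obtain ⟨l, hl, hld⟩ := Nat.exists_prime_and_dvd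
    (show Cl m 1 ≠ 1 from fun e => by have := lt_Cl (m := m) hm 1 (by decide); omega)
  haveI := Fact.mk hl
  obtain ⟨c, hc5, hc0, hc1⟩ : ∃ c : Fin 4, 5 ∣ Cl m c ∧ c ≠ 0 ∧ c ≠ 1 :=
    (five_dvd m).elim (fun e => ⟨2, e, by decide, by decide⟩) (fun e => ⟨3, e, by decide, by decide⟩)
  by_cases hp2 : p = 2
  · subst hp2
    obtain ⟨D₁, -, hD₁⟩ := exists_cover φ₁ ⊤ (Subgroup.map_top_of_surjective φ₁ hφ₁)
    let ι₁ : D₁ →* H := (K₁.comap f).subtype.comp D₁.subtype
    have hB₁ : Bound m D₁ := (hH.subgroup _).subgroup D₁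
    have hnorm : ∀ x : H, x ∈ Subgroup.normalizer (f.ker : Set H) := fun x => by
      rw [Subgroup.normalizer_eq_top_iff.2 (MonoidHom.normal_ker f)]; exact Subgroup.mem_top x
    have hVp : IsPGroup 2 f.ker := fun x => ⟨1, Subtype.ext (by rw [pow_one]; exact hV.2 x x.2)⟩
    have hc₁ := two_group h₁ hm hD₁ hB₁ _ H hH ι₁ f.ker rfl hVp fun d => hnorm _
    have hc₂ := two_group h₂ hk hD₂ hB₂ _ H hH ι₂ f.ker rfl hVp fun d => hnorm _
    obtain ⟨g₁, hg₁⟩ := exists_prime_element h₁ hm hl hld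
    obtain ⟨d₁, hd₁o⟩ := exists_prime_orderOf_dvd_card' (G := D₁) l
      ((hg₁ ▸ orderOf_dvd_natCard g₁).trans (Subgroup.card_dvd_of_surjective _ hD₁.surj))
    haveI : Fact (Nat.Prime 5) := ⟨by norm_num⟩
    obtain ⟨d₂, hd₂o⟩ := exists_prime_orderOf_dvd_card' (G := D₂) 5
      (((five_four h₂ hk).1 ▸ orderOf_dvd_natCard _).trans (Subgroup.card_dvd_of_surjective _ hD₂.surj))
    set b := ι₂ d₂
    have hmem : ∀ d : D₁, ι₁ d * b * (ι₁ d)⁻¹ * b⁻¹ ∈ f.ker := fun d => by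
      have hcm : Commute (f (ι₁ d)) (f b) := hc _ (d : K₁.comap f).2 _ (d₂ : K₂.comap f).2
      rw [MonoidHom.mem_ker, map_mul, map_mul, map_mul, map_inv, map_inv, hcm.eq]
      group
    let ρ : D₁ →* H := MonoidHom.mk' (fun d => ι₁ d * b * (ι₁ d)⁻¹ * b⁻¹) fun a a' => by
      have h1 := (hc₁ a _ (hmem a')).eq
      have h2 : Commute (ι₁ a * b * (ι₁ a)⁻¹ * b⁻¹) (ι₁ a' * b * (ι₁ a')⁻¹ * b⁻¹) :=
        congrArg Subtype.val (hV.1.is_comm.comm ⟨_, hmem a⟩ ⟨_, hmem a'⟩)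
      rw [h2.eq, map_mul]
      calc ι₁ a * ι₁ a' * b * (ι₁ a * ι₁ a')⁻¹ * b⁻¹
          = ι₁ a * (ι₁ a' * b * (ι₁ a')⁻¹ * b⁻¹) * (b * (ι₁ a)⁻¹ * b⁻¹) := by group
        _ = (ι₁ a' * b * (ι₁ a')⁻¹ * b⁻¹) * ι₁ a * (b * (ι₁ a)⁻¹ * b⁻¹) := by rw [h1]
        _ = _ := by group
    have hcomm : Commute (ι₁ d₁) b := by
      have h1 : ρ d₁ = 1 := hD₁.hom_comm h₁ hm ρ
        (fun a a' => congrArg Subtype.val (hV.1.is_comm.comm ⟨_, hmem a⟩ ⟨_, hmem a'⟩)) d₁
      exact mul_inv_eq_iff_eq_mul.1 (mul_inv_eq_one.1 h1)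
    exact hH.no_three (i := 0) Nat.prime_two hl (by norm_num : Nat.Prime 5) hvo
      ((orderOf_injective ι₁ (fun a b e => Subtype.ext (Subtype.ext e)) d₁).trans hd₁o)
      ((hι₂o d₂).trans hd₂o) (hc₁ d₁ v hv).symm (hc₂ d₂ v hv).symm hcomm
      (by rw [Cl_zero]; norm_num) hld hc5 (by decide) hc0.symm hc1.symm
  · obtain ⟨u₀, hu2, hu1⟩ := exists_invol h₂ hk hD₂ hB₂
    haveI : Fact (Nat.Prime 2) := ⟨Nat.prime_two⟩
    set u := ι₂ u₀
    have huo : orderOf u = 2 :=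
      (hι₂o u₀).trans (orderOf_eq_prime hu2 fun e => hu1 (by rw [e, map_one]))
    have hnorm : ∀ x : H, x ∈ Subgroup.normalizer (f.ker : Set H) := fun x => by
      rw [Subgroup.normalizer_eq_top_iff.2 (MonoidHom.normal_ker f)]; exact Subgroup.mem_top x
    obtain ⟨w, hw, hw1, huw⟩ := fix_invol h₂ hk hD₂ hB₂ ι₂ hp2 hV (fun d => hnorm _) hV1 hu2 hu1
    set W := f.ker ⊓ Subgroup.centralizer ({u} : Set H) with hW
    have hW1 : W ≠ ⊥ := fun e => hw1 (Subgroup.mem_bot.1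
      (e ▸ ⟨hw, Subgroup.mem_centralizer_singleton_iff.2 huw.eq.symm⟩ : w ∈ (⊥ : Subgroup H)))
    have hWe : Cfsg.IsElementaryAbelian p W :=
      ⟨⟨⟨fun a b => Subtype.ext (congrArg (fun t : f.ker => (t : H))
        (hV.1.is_comm.comm ⟨a, a.2.1⟩ ⟨b, b.2.1⟩))⟩⟩, fun x hx => hV.2 x hx.1⟩
    set Y := (Subgroup.centralizer ({u} : Set H)).subgroupOf (K₁.comap f) with hY
    have hYc : Y.map φ₁ = ⊤ := by
      refine eq_top_iff.2 fun s _ => ?_
      obtain ⟨x, rfl⟩ := hφ₁ s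
      obtain ⟨b, hb⟩ : ∃ b, Nat.card f.ker = p ^ b :=
        IsPGroup.iff_card.1 fun y => ⟨1, Subtype.ext (by rw [pow_one]; exact hV.2 y y.2)⟩
      obtain ⟨z, hz, hzc⟩ := Coprime.exists_fixed_mul (A := Subgroup.zpowers u) (N := f.ker)
        (fun a _ => hnorm a) (by
          rw [Nat.card_zpowers, huo, hb]
          exact ((Nat.coprime_primes Nat.prime_two hp).2 (Ne.symm hp2)).pow_right b)
        (Or.inl inferInstance) (k := (x : H)) (fun a ha => by
          obtain ⟨t, rfl⟩ := Subgroup.mem_zpowers_iff.1 ha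
          rw [MonoidHom.mem_ker, map_mul, map_mul, map_mul, map_inv, map_inv, map_zpow]
          have h1 : Commute (f u ^ t) (f x) := ((hc _ x.2 _ (u₀ : K₂.comap f).2).symm).zpow_left t
          rw [h1.eq]
          group)
      refine ⟨⟨z * x, ?_⟩, ?_, ?_⟩
      · show f (z * x) ∈ K₁
        rw [map_mul, MonoidHom.mem_ker.1 hz, one_mul]
        exact x.2
      · exact Subgroup.mem_centralizer_singleton_iff.2
          (Subgroup.mem_centralizer_iff.1 hzc u (Subgroup.mem_zpowers u)).symm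
      · rw [show (⟨z * x, _⟩ : K₁.comap f) = ⟨z, by
          show f z ∈ K₁; rw [MonoidHom.mem_ker.1 hz]; exact one_mem _⟩ * x from rfl, map_mul,
          (hk₁ _).2 (MonoidHom.mem_ker.1 hz), one_mul]
    obtain ⟨D, hDY, hD⟩ := exists_cover φ₁ Y hYc
    let ι : D →* H := (K₁.comap f).subtype.comp D.subtype
    have hιu : ∀ d : D, Commute (ι d) u := fun d =>
      Subgroup.mem_centralizer_singleton_iff.1 (hDY d.2)
    have hWn : ∀ d : D, ι d ∈ Subgroup.normalizer (W : Set H) := fun d =>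
      mem_normalizer_of_forall fun z hz => ⟨(MonoidHom.normal_ker f).conj_mem z hz.1 _,
        Subgroup.mul_mem _ (Subgroup.mul_mem _ (hDY d.2) hz.2) (Subgroup.inv_mem _ (hDY d.2))⟩
    have hBD : Bound m D := (hH.subgroup _).subgroup D
    have hi0 : i ≠ 0 := fun e => hp2 ((class_zero_iff hp hi).1 e)
    have fin : ∀ (d : D) (l' : ℕ) (j : Fin 4), l'.Prime → orderOf d = l' → l' ∣ Cl m j → j ≠ 0 → j ≠ i →
        ∀ w' ∈ W, w' ≠ 1 → Commute (ι d) w' → False := by
      intro d l' j hl' hdo hj hj0 hji w' hw' hw1' hdw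
      exact hH.no_three (i := 0) Nat.prime_two hp hl' huo (orderOf_eq_prime (hWe.2 w' hw') hw1')
        ((orderOf_injective ι (fun a b e => Subtype.ext (Subtype.ext e)) d).trans hdo)
        (Subgroup.mem_centralizer_singleton_iff.1 hw'.2).symm (hιu d).symm hdw.symm
        (by rw [Cl_zero]; norm_num) hi hj hi0.symm hj0.symm hji.symm
    by_cases h1 : i = 1
    · subst h1
      have htriv := fun d => trivial_of_class_one h₁ hm hD hBD ι hWe hWn hH rfl hi d
      obtain ⟨w', hw', hw1'⟩ := W.bot_or_exists_ne_one.resolve_left hW1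
      haveI : Fact (Nat.Prime 5) := ⟨by norm_num⟩
      obtain ⟨d, hdo⟩ := exists_prime_orderOf_dvd_card' (G := D) 5
        (((five_four h₁ hm).1 ▸ orderOf_dvd_natCard _).trans (Subgroup.card_dvd_of_surjective _ hD.surj))
      exact fin d 5 c (by norm_num) hdo hc5 hc0 hc1 w' hw' hw1' (htriv d w' hw')
    · have hlp : l ≠ p := fun e => h1 (class_unique hp hi (e ▸ hld))
      obtain ⟨d, hdo, w', hw', hw1', hdw⟩ := fix_ell h₁ hm hD hBD ι hp2 hWe hWn hld hlp hW1
      exact fin d l 1 hl hdo hld (by decide) (fun e => h1 e.symm) w' hw' hw1' hdw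

/-- A minimal normal soluble subgroup is elementary abelian. -/
theorem exists_elementary {V : Subgroup H} [V.Normal] (hV : Group.IsSolvable V) (hV1 : V ≠ ⊥)
    (hmin : ∀ M : Subgroup H, M.Normal → M ≤ V → M = ⊥ ∨ M = V) :
    ∃ p : ℕ, p.Prime ∧ Cfsg.IsElementaryAbelian p V := by
  haveI := hV
  haveI : Nontrivial V := (Subgroup.nontrivial_iff_ne_bot V).2 hV1
  have hcomm : ⁅V, V⁆ = ⊥ := by
    refine (hmin ⁅V, V⁆ inferInstance (Subgroup.commutator_le_self V)).resolve_right fun e => ?_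
    haveI := Subgroup.isPerfect_iff.2 e
    exact Group.IsPerfect.not_isSolvable V hV
  have hab : ∀ a ∈ V, ∀ b ∈ V, Commute a b := fun a ha b hb =>
    (Subgroup.mem_centralizer_iff.1 (Subgroup.commutator_eq_bot_iff_le_centralizer.1 hcomm ha) b hb).symm
  obtain ⟨p, hp, hpd⟩ := Nat.exists_prime_and_dvd (Finite.one_lt_card (α := V)).ne'
  haveI := Fact.mk hp
  let W : Subgroup H :=
    { carrier := {x | x ∈ V ∧ x ^ p = 1}
      one_mem' := ⟨one_mem V, one_pow p⟩
      mul_mem' := fun {a b} ha hb => ⟨mul_mem ha.1 hb.1,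
        by rw [(hab a ha.1 b hb.1).mul_pow, ha.2, hb.2, mul_one]⟩
      inv_mem' := fun {a} ha => ⟨inv_mem ha.1, by rw [inv_pow, ha.2, inv_one]⟩ }
  have hWn : W.Normal := ⟨fun x hx g => ⟨(inferInstance : V.Normal).conj_mem x hx.1 g, by
    rw [conj_pow, hx.2, mul_one, mul_inv_cancel]⟩⟩
  obtain ⟨z, hz⟩ := exists_prime_orderOf_dvd_card' (G := V) p hpd
  rw [← Subgroup.orderOf_coe] at hz
  have hW : W = V := (hmin W hWn fun x hx => hx.1).resolve_left fun e => by
    have h1 : (z : H) ∈ W := ⟨z.2, hz ▸ pow_orderOf_eq_one _⟩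
    rw [e, Subgroup.mem_bot] at h1
    rw [h1, orderOf_one] at hz
    exact hp.ne_one hz.symm
  exact ⟨p, hp, ⟨⟨fun a b => Subtype.ext (hab a a.2 b b.2).eq⟩⟩, fun x hx => (hW.symm ▸ hx : x ∈ W).2⟩

variable {G : Type u} [Group G] [Finite G]

/-- Two components, one of them full, force a trivial radical. -/
theorem solRad_eq_bot (hm : 1 ≤ m) (hG : Bound m G) (hT : Thompson3Prime33.ThreePrimeSimple.{u})
    {K₁ K₂ : Subgroup (G ⧸ solRad G)} (hK₁ : Cfsg.IsComponent K₁) (hK₂ : Cfsg.IsComponent K₂)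
    (hne : K₁ ≠ K₂) {F : Type} [Field F] [Fintype F] (h₁ : IsSzField F m) (e₁ : K₁ ≃* Cfsg.Sz F m) :
    solRad G = ⊥ := by
  by_contra hR
  set R := solRad G
  obtain ⟨N, ⟨hNn, hNR⟩, hmax⟩ := Set.Finite.exists_maximalFor (fun N : Subgroup G => Nat.card N)
    {N : Subgroup G | N.Normal ∧ N < R} (Set.toFinite _) ⟨⊥, inferInstance, bot_lt_iff_ne_bot.2 hR⟩
  haveI := hNn
  let f : G ⧸ N →* G ⧸ R := QuotientGroup.map N R (MonoidHom.id G) hNR.le
  have hf : Function.Surjective f := fun y => by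
    obtain ⟨g, rfl⟩ := QuotientGroup.mk'_surjective R y
    exact ⟨QuotientGroup.mk' N g, rfl⟩
  have hker : ∀ g : G, QuotientGroup.mk' N g ∈ f.ker ↔ g ∈ R := fun g => QuotientGroup.eq_one_iff g
  have hsol : Group.IsSolvable f.ker := by
    haveI := solRad_isSolvable (G := G)
    refine Group.isSolvable_of_surjective
      (f := ((QuotientGroup.mk' N).comp R.subtype).codRestrict f.ker fun x => (hker x).2 x.2) ?_
    rintro ⟨y, hy⟩
    obtain ⟨g, rfl⟩ := QuotientGroup.mk'_surjective N y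
    exact ⟨⟨g, (hker g).1 hy⟩, rfl⟩
  have hne' : f.ker ≠ ⊥ := fun e => hNR.not_ge fun g hg => by
    have := (hker g).2 hg
    rw [e, Subgroup.mem_bot] at this
    exact (QuotientGroup.eq_one_iff g).1 this
  obtain ⟨p, hp, hV⟩ := exists_elementary hsol hne' fun M hM hMV => by
    set M' := M.comap (QuotientGroup.mk' N) with hM'
    have hNM : N ≤ M' := fun g hg => by
      rw [hM', Subgroup.mem_comap, QuotientGroup.mk'_apply, (QuotientGroup.eq_one_iff g).2 hg]
      exact one_mem M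
    have hM'R : M' ≤ R := fun g hg => (hker g).1 (hMV hg)
    rcases eq_or_lt_of_le hM'R with he | hlt
    · refine Or.inr (le_antisymm hMV fun y hy => ?_)
      obtain ⟨g, rfl⟩ := QuotientGroup.mk'_surjective N y
      exact (he.symm ▸ (hker g).1 hy : g ∈ M')
    · refine Or.inl ((Subgroup.eq_bot_iff_forall _).2 fun y hy => ?_)
      obtain ⟨g, rfl⟩ := QuotientGroup.mk'_surjective N y
      have hle := hmax (j := M') ⟨hM.comap _, hlt⟩ (Nat.le_of_dvd Nat.card_pos (Subgroup.card_dvd_of_le hNM))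
      have heq : N = M' := Subgroup.eq_of_le_of_card_ge hNM hle
      exact (QuotientGroup.eq_one_iff g).2 (heq.symm ▸ hy)
  haveI := Fact.mk hp
  have hQ := solRad_quotient (G := G)
  obtain ⟨F₂, _, _, k, hk, h₂, -, ⟨e₂⟩⟩ := exists_model hQ hT (hG.quotient R) hK₂
  exact false_of_pair (hG.quotient N) f hf hV hne' (fun a ha b hb =>
    (Subgroup.mem_centralizer_iff.1 (Component.le_centralizer_of_ne hK₁ hK₂ hne ha) b hb).symm)
    hm h₁ e₁ hk h₂ e₂

end Cfsg.Agent.Lib.SzSquareSpec
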