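import Cfsg.Agent.Lib.SzSquareSpec.Classes
import Cfsg.Agent.Lib.NumberTheory.Zsigmondy

/-!
# Primitive prime divisors of the numbers `Cl m`

`2k + 1 ∣ 2m + 1` when `Sz(2^(2k+1))` satisfies `Bound m`, and the primes `s`, `r` with orders `n`, `4n`
of two modulo them, `n = 2m + 1`, divide the order of no `Sz(2^(2k+1))` with `k < m`.
-/

set_option autoImplicit false
set_option linter.unusedSectionVars false

namespace Cfsg.Agent.Lib.SzSquareSpec

open Cfsg.Agent.Lib.LieTwisted.Suzuki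

theorem dvd_two_pow_sub_one {p N : ℕ} : p ∣ 2 ^ N - 1 ↔ (2 : ZMod p) ^ N = 1 := by
  rw [← ZMod.natCast_eq_zero_iff, Nat.cast_sub Nat.one_le_two_pow, sub_eq_zero]
  push_cast
  rfl

theorem dvd_two_pow_add_one {p N : ℕ} : p ∣ 2 ^ N + 1 ↔ (2 : ZMod p) ^ N = -1 := by
  rw [← ZMod.natCast_eq_zero_iff]
  push_cast
  rw [add_eq_zero_iff_eq_neg]

theorem dvd_of_odd_of_dvd_four_mul {a b : ℕ} (ha : Odd a) (h : a ∣ 4 * b) : a ∣ b :=
  (show a.Coprime (2 ^ 2) from (Nat.coprime_two_right.2 ha).pow_right 2).dvd_of_dvd_mul_left h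

theorem Cl_one_dvd {k m : ℕ} (h : 2 * k + 1 ∣ 2 * m + 1) : Cl k 1 ∣ Cl m 1 := by
  rw [Cl_one, Cl_one]
  exact Nat.pow_sub_one_dvd_pow_sub_one 2 h

section Suzuki

variable {F : Type*} [Field F] [Fintype F] {k : ℕ} (h : IsSzField F k) (hk : 1 ≤ k)
include h hk

theorem card_primes {p : ℕ} (hp : p.Prime) (hd : p ∣ Nat.card (Cfsg.Sz F k)) :
    p = 2 ∨ (2 : ZMod p) ^ (4 * (2 * k + 1)) = 1 := by
  rw [h.card_group hk, h.card, hp.dvd_mul, hp.dvd_mul] at hd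
  rcases hd with (hd | hd) | hd
  · exact Or.inl ((Nat.prime_dvd_prime_iff_eq hp Nat.prime_two).1 (hp.dvd_of_dvd_pow (hp.dvd_of_dvd_pow hd)))
  · rw [← pow_mul, dvd_two_pow_add_one] at hd
    refine Or.inr ?_
    rw [show 4 * (2 * k + 1) = (2 * k + 1) * 2 * 2 by ring, pow_mul, hd, neg_one_sq]
  · rw [dvd_two_pow_sub_one] at hd
    refine Or.inr ?_
    rw [mul_comm, pow_mul, hd, one_pow]

theorem dvd_of_bound {m : ℕ} (hX : Bound m (Cfsg.Sz F k)) : 2 * k + 1 ∣ 2 * m + 1 := by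
  obtain ⟨s, hs, hso⟩ := NumberTheory.exists_primitive_prime (q := 2) (n := 2 * k + 1) le_rfl (by omega)
    (by omega) (by omega)
  haveI := Fact.mk hs
  have hso' : orderOf (2 : ZMod s) = 2 * k + 1 := by simpa using hso
  have hs2 : s ≠ 2 := by
    rintro rfl
    rw [show (2 : ZMod 2) = 0 from ZMod.natCast_self 2, orderOf_zero] at hso'
    omega
  have hd : s ∣ Cl k 1 := by rw [Cl_one, dvd_two_pow_sub_one, ← hso', pow_orderOf_eq_one]
  obtain ⟨g, hg⟩ := exists_prime_element h hk hs hd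
  obtain ⟨j, hj⟩ := hX.exists_class_dvd hs (hg ▸ dvd_rfl : s ∣ orderOf g)
  have hfin : s ∣ 2 ^ (2 * m + 1) - 1 ∨ s ∣ (2 ^ (2 * m + 1)) ^ 2 + 1 := by
    fin_cases j
    · exact absurd ((class_zero_iff hs hj).1 rfl) hs2
    · exact Or.inl hj
    · exact Or.inr ((dvd_sq_add_one hs).2 (Or.inl hj))
    · exact Or.inr ((dvd_sq_add_one hs).2 (Or.inr hj))
  rcases hfin with hfin | hfin
  · rw [← hso']
    exact orderOf_dvd_of_pow_eq_one (dvd_two_pow_sub_one.1 hfin)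
  · rw [← pow_mul, dvd_two_pow_add_one] at hfin
    have h4 : (2 : ZMod s) ^ (4 * (2 * m + 1)) = 1 := by
      rw [show 4 * (2 * m + 1) = (2 * m + 1) * 2 * 2 by ring, pow_mul, hfin, neg_one_sq]
    have h1 : 2 * k + 1 ∣ 2 * m + 1 :=
      dvd_of_odd_of_dvd_four_mul ⟨k, rfl⟩ (hso' ▸ orderOf_dvd_of_pow_eq_one h4)
    have h2 : (2 : ZMod s) ^ ((2 * m + 1) * 2) = 1 :=
      orderOf_dvd_iff_pow_eq_one.1 (hso'.symm ▸ h1.mul_right 2)
    rw [h2, eq_comm, neg_eq_iff_add_eq_zero, one_add_one_eq_two] at hfin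
    exact absurd ((Nat.prime_dvd_prime_iff_eq hs Nat.prime_two).1
      ((ZMod.natCast_eq_zero_iff 2 s).1 (by exact_mod_cast hfin))) hs2

end Suzuki

/-- The two primitive primes. -/
theorem exists_primes {m : ℕ} (hm : 1 ≤ m) : ∃ (s r : ℕ) (c : Fin 4), s.Prime ∧ r.Prime ∧
    s ∣ Cl m 1 ∧ r ∣ Cl m c ∧ c ≠ 0 ∧ c ≠ 1 ∧ s ≠ 2 ∧ r ≠ 2 ∧ 2 * m + 1 < s ∧ 2 * m + 1 < r ∧
    (∀ k, k < m → (2 : ZMod s) ^ (4 * (2 * k + 1)) ≠ 1) ∧
    (∀ k, k < m → (2 : ZMod r) ^ (4 * (2 * k + 1)) ≠ 1) := by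
  obtain ⟨s, hs, hso⟩ := NumberTheory.exists_primitive_prime (q := 2) (n := 2 * m + 1) le_rfl (by omega)
    (by omega) (by omega)
  obtain ⟨r, hr, hro⟩ := NumberTheory.exists_primitive_prime (q := 2) (n := 4 * (2 * m + 1)) le_rfl
    (by omega) (by omega) (by omega)
  have hso' : orderOf (2 : ZMod s) = 2 * m + 1 := by simpa using hso
  have hro' : orderOf (2 : ZMod r) = 4 * (2 * m + 1) := by simpa using hro
  haveI := Fact.mk hs
  haveI := Fact.mk hr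
  have hne : ∀ {p : ℕ} [Fact p.Prime], 0 < orderOf (2 : ZMod p) → (2 : ZMod p) ≠ 0 := by
    intro p _ h0 e
    rw [e, orderOf_zero] at h0
    exact absurd h0 (lt_irrefl 0)
  have hgt : ∀ {p : ℕ} [Fact p.Prime], 0 < orderOf (2 : ZMod p) → orderOf (2 : ZMod p) < p := by
    intro p hp h0
    have h1 := Nat.le_of_dvd (by have := hp.out.two_le; omega) (ZMod.orderOf_dvd_card_sub_one (hne h0))
    have := hp.out.two_le
    omega
  have hs' := hgt (p := s) (by omega)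
  have hr' := hgt (p := r) (by omega)
  have hdr : r ∣ (2 ^ (2 * m + 1)) ^ 2 + 1 := by
    rw [← pow_mul, dvd_two_pow_add_one]
    have h1 : ((2 : ZMod r) ^ ((2 * m + 1) * 2)) ^ 2 = 1 := by
      rw [← pow_mul, show (2 * m + 1) * 2 * 2 = orderOf (2 : ZMod r) by rw [hro']; ring,
        pow_orderOf_eq_one]
    refine (sq_eq_one_iff.1 h1).resolve_left fun e => ?_
    have := Nat.le_of_dvd (by omega) (orderOf_dvd_of_pow_eq_one e)
    omega
  obtain ⟨c, hc, hc23⟩ : ∃ c : Fin 4, r ∣ Cl m c ∧ (c = 2 ∨ c = 3) :=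
    ((dvd_sq_add_one hr).1 hdr).elim (fun h' => ⟨2, h', Or.inl rfl⟩) (fun h' => ⟨3, h', Or.inr rfl⟩)
  refine ⟨s, r, c, hs, hr, ?_, hc, ?_, ?_, by omega, by omega, by omega, by omega, ?_, ?_⟩
  · rw [Cl_one, dvd_two_pow_sub_one, ← hso', pow_orderOf_eq_one]
  · rcases hc23 with rfl | rfl <;> decide
  · rcases hc23 with rfl | rfl <;> decide
  · intro k hk e
    have := dvd_of_odd_of_dvd_four_mul ⟨m, rfl⟩ (hso' ▸ orderOf_dvd_of_pow_eq_one e)
    have := Nat.le_of_dvd (by omega) this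
    omega
  · intro k hk e
    have := Nat.le_of_dvd (by omega) (hro' ▸ orderOf_dvd_of_pow_eq_one e)
    omega

end Cfsg.Agent.Lib.SzSquareSpec
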