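import Cfsg.Agent.Lib.SzSquareSpec.NoRadical
import Cfsg.Agent.Lib.Thompson3Prime33.Component

/-!
# A group with trivial soluble radical and two components, one of them full, is `Sz(q) × Sz(q)`

The second component is full, no element exchanges the components (it would give an element of order
eight) and no element induces an outer automorphism (three commuting elements from three classes).
-/

set_option autoImplicit false
set_option linter.unusedSectionVars false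
set_option linter.style.haveILetI false

namespace Cfsg.Agent.Lib.SzSquareSpec

open Cfsg.Agent.Lib.LieTwisted.Suzuki Cfsg.Agent.Lib.PrimePowerClass.Radical Cfsg.Agent.Lib.Components

universe u

variable {Q : Type u} [Group Q] [Finite Q] {m : ℕ}

theorem fieldHom_injective {F : Type*} [Field F] [Fintype F] (h : IsSzField F m) (hm : 1 ≤ m) :
    Function.Injective (h.fieldHom hm) := fun ρ ρ' e => RingEquiv.ext fun a => by
  have h1 := DFunLike.congr_fun e (uS h a 0)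
  rw [h.fieldHom_uS, h.fieldHom_uS] at h1
  exact (h.uS_coords_inj h1).1

/-- The action of an element normalising `K` on the Suzuki group. -/
def act {F : Type} [Field F] [Fintype F] {K : Subgroup Q} (e : K ≃* Cfsg.Sz F m) :
    ↥(Subgroup.normalizer (K : Set Q)) →* MulAut (Cfsg.Sz F m) :=
  (MulAut.congr e).toMonoidHom.comp K.normalizerMonoidHom

theorem act_apply {F : Type} [Field F] [Fintype F] {K : Subgroup Q} (e : K ≃* Cfsg.Sz F m)
    (g : ↥(Subgroup.normalizer (K : Set Q))) (z : K) :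
    act e g (e z) = e ⟨(g : Q) * z * (g : Q)⁻¹, (Subgroup.mem_normalizer_iff.1 g.2 z).1 z.2⟩ := by
  show e (K.normalizerMonoidHom g (e.symm (e z))) = _
  rw [e.symm_apply_apply]
  rfl

theorem act_coe {F : Type} [Field F] [Fintype F] {K : Subgroup Q} (e : K ≃* Cfsg.Sz F m) (y : K) :
    act e ⟨y, Subgroup.le_normalizer y.2⟩ = MulAut.conj (e y) := by
  refine MulEquiv.ext fun x => ?_
  obtain ⟨z, rfl⟩ := e.surjective x
  rw [act_apply, MulAut.conj_apply, ← map_inv, ← map_mul, ← map_mul]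
  rfl

theorem act_of_centralizes {F : Type} [Field F] [Fintype F] {K : Subgroup Q} (e : K ≃* Cfsg.Sz F m)
    {g : ↥(Subgroup.normalizer (K : Set Q))} (hg : (g : Q) ∈ Subgroup.centralizer (K : Set Q)) :
    act e g = 1 := by
  refine MulEquiv.ext fun x => ?_
  obtain ⟨z, rfl⟩ := e.surjective x
  rw [act_apply, MulAut.one_apply]
  refine congrArg e (Subtype.ext ?_)
  show (g : Q) * z * (g : Q)⁻¹ = z
  rw [← Subgroup.mem_centralizer_iff.1 hg z z.2, mul_inv_cancel_right]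

theorem commute_of_act_fix {F : Type} [Field F] [Fintype F] {K : Subgroup Q} (e : K ≃* Cfsg.Sz F m)
    {g : ↥(Subgroup.normalizer (K : Set Q))} {z : K} (hz : act e g (e z) = e z) :
    Commute (g : Q) z := by
  rw [act_apply] at hz
  exact mul_inv_eq_iff_eq_mul.1 (congrArg Subtype.val (e.injective hz))

theorem centralizes_of_act {F : Type} [Field F] [Fintype F] {K : Subgroup Q} (e : K ≃* Cfsg.Sz F m)
    {g : ↥(Subgroup.normalizer (K : Set Q))} (h1 : act e g = 1) :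
    (g : Q) ∈ Subgroup.centralizer (K : Set Q) :=
  Subgroup.mem_centralizer_iff.2 fun z hz =>
    (commute_of_act_fix e (z := ⟨z, hz⟩) (by rw [h1]; rfl)).symm

variable (hm : 1 ≤ m) (hQ : solRad Q = ⊥) (hB : Bound m Q) (hT : Thompson3Prime33.ThreePrimeSimple.{u})
  {K₁ K₂ : Subgroup Q} (hK₁ : Cfsg.IsComponent K₁) (hK₂ : Cfsg.IsComponent K₂) (hne : K₁ ≠ K₂)
include hm hQ hB hT hK₁ hK₂ hne

theorem commute_mem {a b : Q} (ha : a ∈ K₁) (hb : b ∈ K₂) : Commute a b :=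
  (Subgroup.mem_centralizer_iff.1 (Component.le_centralizer_of_ne hK₁ hK₂ hne ha) b hb).symm

theorem eq_one_of_two {x : Q} (h1 : x ∈ Subgroup.centralizer (K₁ : Set Q))
    (h2 : x ∈ Subgroup.centralizer (K₂ : Set Q)) : x = 1 :=
  eq_one_of_centralizes hQ fun K hK =>
    (no_three_components hQ hT hB hK₁ hK₂ hK).elim (fun e => absurd e hne)
      (fun e => e.elim (fun e => e ▸ h1) (fun e => e ▸ h2))

/-- The second component is full as well. -/
theorem second_full (hP : ∀ i j, i ≠ j → ∃ g : Q, orderOf g = Cl m i * Cl m j)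
    {F₁ : Type} [Field F₁] [Fintype F₁] (h₁ : IsSzField F₁ m) (e₁ : K₁ ≃* Cfsg.Sz F₁ m) :
    ∃ (F : Type) (_ : Field F) (_ : Fintype F), IsSzField F m ∧ Nonempty (K₂ ≃* Cfsg.Sz F m) := by
  obtain ⟨F, _, _, k, hk, h, hkm, ⟨e⟩⟩ := exists_model hQ hT hB hK₂
  have hkle := Nat.le_of_dvd (by omega) hkm
  by_cases hkm' : k = m
  · exact ⟨F, inferInstance, inferInstance, hkm' ▸ h, hkm' ▸ ⟨e⟩⟩
  exfalso
  obtain ⟨s, r, c, hs, hr, hsc, hrc, hc0, hc1, hs2, hr2, hsn, hrn, hsk, hrk⟩ := exists_primes hm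
  obtain ⟨g, hg⟩ := hP 1 c (Ne.symm hc1)
  set x := g ^ (orderOf g / (s * r)) with hx
  have hxo : orderOf x = s * r :=
    orderOf_pow_orderOf_div (orderOf_pos g).ne' (hg ▸ mul_dvd_mul hsc hrc)
  have key : ∀ (p : ℕ) (y : Q), p.Prime → p ≠ 2 → 2 * m + 1 < p →
      (∀ k, k < m → (2 : ZMod p) ^ (4 * (2 * k + 1)) ≠ 1) → y ^ p = 1 →
      y ∈ Subgroup.centralizer (K₂ : Set Q) := by
    intro p y hp hp2 hpn hpk hyp
    refine mem_centralizer_of_prime h hk e (mem_normalizer_of_odd hQ hT hB hK₂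
        ((hp.odd_of_ne_two hp2).of_dvd_nat (orderOf_dvd_of_pow_eq_one hyp))) hp hyp
      (fun hd => (card_primes h hk hp hd).elim hp2 (hpk k (by omega))) fun hd => ?_
    have := Nat.le_of_dvd (by omega) hd
    omega
  have hsr : s ≠ r := fun e => hc1 (class_unique hr hrc (e ▸ hsc))
  have hxC : x ∈ Subgroup.centralizer (K₂ : Set Q) := by
    have h1 := key s (x ^ r) hs hs2 hsn hsk (by rw [← pow_mul, mul_comm, ← hxo, pow_orderOf_eq_one])
    have h2 := key r (x ^ s) hr hr2 hrn hrk (by rw [← pow_mul, ← hxo, pow_orderOf_eq_one])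
    have h3 := Nat.gcd_eq_gcd_ab r s
    rw [((Nat.coprime_primes hr hs).2 (Ne.symm hsr)).gcd_eq_one, Nat.cast_one] at h3
    rw [← zpow_one x, h3, zpow_add, zpow_mul, zpow_mul, zpow_natCast, zpow_natCast]
    exact Subgroup.mul_mem _ (Subgroup.zpow_mem _ h1 _) (Subgroup.zpow_mem _ h2 _)
  have hxN := mem_normalizer_of_odd hQ hT hB hK₁ (y := x)
    (by rw [hxo]; exact (hs.odd_of_ne_two hs2).mul (hr.odd_of_ne_two hr2))
  obtain ⟨y, hy, hc⟩ := exists_mul_centralizer h₁ hm e₁ hxN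
  have h4 : y⁻¹ * x ^ (2 * m + 1) = 1 := eq_one_of_two hm hQ hB hT hK₁ hK₂ hne hc
    (Subgroup.mul_mem _ (Subgroup.inv_mem _ (Component.le_centralizer_of_ne hK₁ hK₂ hne hy))
      (Subgroup.pow_mem _ hxC _))
  rw [inv_mul_eq_one] at h4
  have hyo : orderOf y = s * r := by
    rw [h4, Nat.Coprime.orderOf_pow, hxo]
    rw [hxo]
    refine Nat.Coprime.mul_left ?_ ?_
    · exact hs.coprime_iff_not_dvd.2 fun hd => by have := Nat.le_of_dvd (by omega) hd; omega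
    · exact hr.coprime_iff_not_dvd.2 fun hd => by have := Nat.le_of_dvd (by omega) hd; omega
  obtain ⟨a, ha⟩ := exists_dvd_Cl h₁ hm (e₁ ⟨y, hy⟩)
  rw [e₁.orderOf_eq, ← Subgroup.orderOf_coe, show ((⟨y, hy⟩ : K₁) : Q) = y from rfl, hyo] at ha
  exact hc1 ((class_unique hr hrc ((dvd_mul_left r s).trans ha)).trans
    (class_unique hs hsc ((dvd_mul_right s r).trans ha)).symm)

variable {F₁ F₂ : Type} [Field F₁] [Fintype F₁] [Field F₂] [Fintype F₂] (h₁ : IsSzField F₁ m)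
  (h₂ : IsSzField F₂ m) (e₁ : K₁ ≃* Cfsg.Sz F₁ m) (e₂ : K₂ ≃* Cfsg.Sz F₂ m)
include h₁ h₂ e₁ e₂

theorem exists_pow_eq_mul {x : Q} (hx₁ : x ∈ Subgroup.normalizer (K₁ : Set Q))
    (hx₂ : x ∈ Subgroup.normalizer (K₂ : Set Q)) :
    ∃ a ∈ K₁, ∃ b ∈ K₂, x ^ (2 * m + 1) = a * b := by
  obtain ⟨a, ha, hca⟩ := exists_mul_centralizer h₁ hm e₁ hx₁
  obtain ⟨b, hb, hcb⟩ := exists_mul_centralizer h₂ hm e₂ hx₂
  refine ⟨a, ha, b, hb, ?_⟩
  have hab := commute_mem hm hQ hB hT hK₁ hK₂ hne ha hb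
  have h1 : b⁻¹ * (a⁻¹ * x ^ (2 * m + 1)) = 1 := by
    refine eq_one_of_two hm hQ hB hT hK₁ hK₂ hne (Subgroup.mul_mem _ (Subgroup.inv_mem _
      (Component.le_centralizer_of_ne hK₂ hK₁ hne.symm hb)) hca) ?_
    rw [← mul_assoc, hab.inv_inv.symm.eq, mul_assoc]
    exact Subgroup.mul_mem _ (Subgroup.inv_mem _ (Component.le_centralizer_of_ne hK₁ hK₂ hne ha)) hcb
  rw [inv_mul_eq_one, eq_inv_mul_iff_mul_eq] at h1
  exact h1.symm

/-- No element exchanges the components. -/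
theorem mem_normalizer (g : Q) : g ∈ Subgroup.normalizer (K₁ : Set Q) := by
  by_contra hg
  set N := Subgroup.normalizer (K₁ : Set Q)
  have hsq : ∀ y : Q, y * y ∈ N := two_components_sq_mem hQ hT hB hK₁
  have hodd : ∀ (y : Q) (b : ℕ), Odd b → y ^ b ∈ N → y ∈ N := by
    rintro y b ⟨d, rfl⟩ hy
    rw [pow_succ, pow_mul] at hy
    have h1 : (y ^ 2) ^ d ∈ N := Subgroup.pow_mem _ (by rw [sq]; exact hsq y) _
    exact (Subgroup.mul_mem_cancel_left _ h1).1 hy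
  set h := g ^ (2 * m + 1) with hh
  have hhN : h ∉ N := fun e => hg (hodd g _ ⟨m, rfl⟩ e)
  have hmap : ∀ x ∈ K₁, h * x * h⁻¹ ∈ K₂ := by
    intro x hx
    have hc := Component.conj hK₁ h
    rcases no_three_components hQ hT hB hK₁ hK₂ hc with e | e | e
    · exact absurd e hne
    · exact absurd (Subgroup.mem_normalizer_iff_map_conj_eq.2 e.symm) hhN
    · rw [e]; exact ⟨x, hx, rfl⟩
  obtain ⟨a, ha, b, hb, hab⟩ := exists_pow_eq_mul hm hQ hB hT hK₁ hK₂ hne h₁ h₂ e₁ e₂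
    (two_components_sq_mem hQ hT hB hK₁ g) (two_components_sq_mem hQ hT hB hK₂ g)
  have hh2 : h * h = a * b := by
    rw [← hab, hh, ← sq, ← sq, ← pow_mul, ← pow_mul, mul_comm]
  set y : K₁ := e₁.symm (uS h₁ 1 0)
  have hyo : orderOf (y : Q) = 4 := by
    rw [Subgroup.orderOf_coe, e₁.symm.orderOf_eq, uS_one_zero_order h₁ hm]
  set x := (y : Q) * a⁻¹ with hx
  have hxK : x ∈ K₁ := K₁.mul_mem y.2 (K₁.inv_mem ha)
  set t := x * h with ht
  have htN : t ∉ N := fun e => hhN ((Subgroup.mul_mem_cancel_left _ (Subgroup.le_normalizer hxK)).1 e)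
  set w := h * x * h⁻¹ * b with hw
  have hwK : w ∈ K₂ := K₂.mul_mem (hmap x hxK) hb
  have ht2 : t * t = (y : Q) * w := by
    rw [ht, hw]
    calc x * h * (x * h) = x * (h * x * h⁻¹) * (h * h) := by group
      _ = x * ((h * x * h⁻¹) * a) * b := by rw [hh2]; group
      _ = x * (a * (h * x * h⁻¹)) * b := by
          rw [(commute_mem hm hQ hB hT hK₁ hK₂ hne ha (hmap x hxK)).eq]
      _ = _ := by rw [hx]; group
  have h4 : 4 ∣ orderOf (t * t) := by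
    have hcomm := commute_mem hm hQ hB hT hK₁ hK₂ hne y.2 hwK
    have h5 : ((y : Q) * w) ^ orderOf (t * t) = 1 := by rw [← ht2, pow_orderOf_eq_one]
    rw [hcomm.mul_pow] at h5
    have h6 : (y : Q) ^ orderOf (t * t) ∈ K₁ ⊓ Subgroup.centralizer (K₁ : Set Q) :=
      ⟨K₁.pow_mem y.2 _, by
        rw [mul_eq_one_iff_eq_inv.1 h5]
        exact Subgroup.inv_mem _ (Component.le_centralizer_of_ne hK₂ hK₁ hne.symm (K₂.pow_mem hwK _))⟩
    rw [inf_centralizer_eq_bot h₁ hm e₁, Subgroup.mem_bot] at h6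
    exact hyo ▸ orderOf_dvd_of_pow_eq_one h6
  refine hB.no_eight t ?_
  rw [← sq, orderOf_pow' t two_ne_zero] at h4
  rcases Nat.even_or_odd (orderOf t) with he | ho
  · obtain ⟨d, hd⟩ := he
    have hd' : orderOf t = 2 * d := by omega
    rw [hd', Nat.gcd_mul_right_left, Nat.mul_div_cancel_left _ two_pos] at h4
    rw [hd']
    exact Nat.mul_dvd_mul_left 2 h4
  · exact absurd (hodd t _ ho (by rw [pow_orderOf_eq_one]; exact one_mem _)) htN

theorem mem_normalizer_right (g : Q) : g ∈ Subgroup.normalizer (K₂ : Set Q) :=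
  mem_normalizer hm hQ hB hT hK₂ hK₁ hne.symm h₂ h₁ e₂ e₁ g

/-- Every element lies in the product of the components. -/
theorem exists_mul (hm2 : m ≠ 2) (g : Q) : ∃ a ∈ K₁, ∃ b ∈ K₂, g = a * b := by
  have hN₁ := mem_normalizer hm hQ hB hT hK₁ hK₂ hne h₁ h₂ e₁ e₂
  have hN₂ := mem_normalizer_right hm hQ hB hT hK₁ hK₂ hne h₁ h₂ e₁ e₂
  obtain ⟨a₁, ρ₁, hd₁⟩ := Thompson3Prime33.Component.exists_decomp h₁ hm (act e₁ ⟨g, hN₁ g⟩)
  obtain ⟨a₂, ρ₂, hd₂⟩ := Thompson3Prime33.Component.exists_decomp h₂ hm (act e₂ ⟨g, hN₂ g⟩)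
  refine ⟨_, (e₁.symm a₁).2, _, (e₂.symm a₂).2, ?_⟩
  set y₁ : Q := (e₁.symm a₁ : K₁).1
  set y₂ : Q := (e₂.symm a₂ : K₂).1
  set g' := (y₁ * y₂)⁻¹ * g with hg'
  suffices hg1 : g' = 1 by rwa [hg', inv_mul_eq_one, eq_comm] at hg1
  have hy12 := commute_mem hm hQ hB hT hK₁ hK₂ hne (e₁.symm a₁).2 (e₂.symm a₂).2
  have ha₁ : act e₁ ⟨g', hN₁ g'⟩ = h₁.fieldHom hm ρ₁ := by
    have hs : (⟨g', hN₁ g'⟩ : ↥(Subgroup.normalizer (K₁ : Set Q))) =
        ⟨y₂, hN₁ y₂⟩⁻¹ * ⟨y₁, Subgroup.le_normalizer (e₁.symm a₁).2⟩⁻¹ * ⟨g, hN₁ g⟩ :=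
      Subtype.ext (show g' = y₂⁻¹ * y₁⁻¹ * g by rw [hg', mul_inv_rev])
    have hc₁ : act e₁ ⟨y₁, Subgroup.le_normalizer (e₁.symm a₁).2⟩ = MulAut.conj a₁ := by
      rw [act_coe e₁ (e₁.symm a₁), e₁.apply_symm_apply]
    rw [hs, map_mul, map_mul, map_inv, map_inv, hc₁,
      act_of_centralizes e₁ (g := ⟨y₂, hN₁ y₂⟩) (Component.le_centralizer_of_ne hK₂ hK₁ hne.symm (e₂.symm a₂).2),
      inv_one, one_mul, hd₁, inv_mul_cancel_left]
  have ha₂ : act e₂ ⟨g', hN₂ g'⟩ = h₂.fieldHom hm ρ₂ := by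
    have hs : (⟨g', hN₂ g'⟩ : ↥(Subgroup.normalizer (K₂ : Set Q))) =
        ⟨y₁, hN₂ y₁⟩⁻¹ * ⟨y₂, Subgroup.le_normalizer (e₂.symm a₂).2⟩⁻¹ * ⟨g, hN₂ g⟩ :=
      Subtype.ext (show g' = y₁⁻¹ * y₂⁻¹ * g by rw [hg', hy12.eq, mul_inv_rev])
    have hc₂ : act e₂ ⟨y₂, Subgroup.le_normalizer (e₂.symm a₂).2⟩ = MulAut.conj a₂ := by
      rw [act_coe e₂ (e₂.symm a₂), e₂.apply_symm_apply]
    rw [hs, map_mul, map_mul, map_inv, map_inv, hc₂,
      act_of_centralizes e₂ (g := ⟨y₁, hN₂ y₁⟩) (Component.le_centralizer_of_ne hK₁ hK₂ hne (e₁.symm a₁).2),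
      inv_one, one_mul, hd₂, inv_mul_cancel_left]
  have hp₁ : ∀ j : ℕ, act e₁ ⟨g' ^ j, hN₁ _⟩ = h₁.fieldHom hm (ρ₁ ^ j) := fun j => by
    rw [map_pow, ← ha₁, ← map_pow]
    rfl
  have hp₂ : ∀ j : ℕ, act e₂ ⟨g' ^ j, hN₂ _⟩ = h₂.fieldHom hm (ρ₂ ^ j) := fun j => by
    rw [map_pow, ← ha₂, ← map_pow]
    rfl
  haveI : Fact (Nat.Prime 2) := ⟨Nat.prime_two⟩
  have hpow : g' ^ (2 * m + 1) = 1 := by
    refine eq_one_of_two hm hQ hB hT hK₁ hK₂ hne (centralizes_of_act e₁ (g := ⟨_, hN₁ _⟩) ?_)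
      (centralizes_of_act e₂ (g := ⟨_, hN₂ _⟩) ?_)
    · rw [hp₁, ← AutPSL.card_fieldAuts (F := F₁) h₁.card, pow_card_eq_one', map_one]
    · rw [hp₂, ← AutPSL.card_fieldAuts (F := F₂) h₂.card, pow_card_eq_one', map_one]
  by_contra hg1
  obtain ⟨e, he, hed⟩ := Nat.exists_prime_and_dvd fun e1 => hg1 (orderOf_eq_one_iff.1 e1)
  haveI := Fact.mk he
  have he2 : e ≠ 2 := fun e1 => by
    have h2 : e ∣ 2 * m + 1 := hed.trans (orderOf_dvd_of_pow_eq_one hpow)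
    rw [e1] at h2
    omega
  set d := orderOf g' / e
  set z := g' ^ d with hz
  have hzo : orderOf z = e := orderOf_pow_orderOf_div (orderOf_pos g').ne' hed
  obtain ⟨j, hj⟩ := hB.exists_class_dvd he (hzo ▸ dvd_rfl : e ∣ orderOf z)
  have hj0 : j ≠ 0 := fun e1 => he2 ((class_zero_iff he hj).1 e1)
  have hz1 : z ≠ 1 := fun e1 => he.ne_one (by rw [← hzo, e1, orderOf_one])
  have hord : ∀ {F : Type} [Field F] [Fintype F] (h : IsSzField F m) (ρ : F ≃+* F),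
      h.fieldHom hm (ρ ^ e) = 1 → ρ ≠ 1 → orderOf ρ = e := fun h ρ h1 h2 =>
    orderOf_eq_prime (fieldHom_injective h hm (h1.trans (map_one _).symm)) h2
  have hze₁ : h₁.fieldHom hm ((ρ₁ ^ d) ^ e) = 1 := by
    rw [map_pow, ← hp₁, ← map_pow, show (⟨g' ^ d, hN₁ _⟩ : ↥(Subgroup.normalizer (K₁ : Set Q))) ^ e = 1 from
      Subtype.ext (show z ^ e = 1 by rw [← hzo, pow_orderOf_eq_one]), map_one]
  have hze₂ : h₂.fieldHom hm ((ρ₂ ^ d) ^ e) = 1 := by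
    rw [map_pow, ← hp₂, ← map_pow, show (⟨g' ^ d, hN₂ _⟩ : ↥(Subgroup.normalizer (K₂ : Set Q))) ^ e = 1 from
      Subtype.ext (show z ^ e = 1 by rw [← hzo, pow_orderOf_eq_one]), map_one]
  -- a triple of commuting elements
  have triple : ∀ (x y : Q) (l : ℕ) (i : Fin 4), Commute z x → Commute z y → Commute x y →
      orderOf x = 2 → l.Prime → orderOf y = l → l ∣ Cl m i → i ≠ 0 → i ≠ j → False := by
    intro x y l i hzx hzy hxy hx hl hy hi hi0 hij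
    exact hB.no_three (i := 0) Nat.prime_two he hl hx hzo hy hzx.symm hxy hzy
      (by rw [Cl_zero]; norm_num) hj hi hj0.symm hi0.symm hij.symm
  obtain ⟨c, hc5, hc0, hc1⟩ : ∃ c : Fin 4, 5 ∣ Cl m c ∧ c ≠ 0 ∧ c ≠ 1 :=
    (five_dvd m).elim (fun e => ⟨2, e, by decide, by decide⟩) (fun e => ⟨3, e, by decide, by decide⟩)
  -- elements fixed by a field automorphism
  have fix₁ : ∀ {w : Cfsg.Sz F₁ m}, h₁.fieldHom hm (ρ₁ ^ d) w = w → Commute z (e₁.symm w : Q) :=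
    fun {w} hw => commute_of_act_fix e₁ (g := ⟨g' ^ d, hN₁ _⟩)
      (by rw [hp₁, e₁.apply_symm_apply]; exact hw)
  have fix₂ : ∀ {w : Cfsg.Sz F₂ m}, h₂.fieldHom hm (ρ₂ ^ d) w = w → Commute z (e₂.symm w : Q) :=
    fun {w} hw => commute_of_act_fix e₂ (g := ⟨g' ^ d, hN₂ _⟩)
      (by rw [hp₂, e₂.apply_symm_apply]; exact hw)
  have o₁ : ∀ w : Cfsg.Sz F₁ m, orderOf (e₁.symm w : Q) = orderOf w := fun w => by
    rw [Subgroup.orderOf_coe, e₁.symm.orderOf_eq]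
  have o₂ : ∀ w : Cfsg.Sz F₂ m, orderOf (e₂.symm w : Q) = orderOf w := fun w => by
    rw [Subgroup.orderOf_coe, e₂.symm.orderOf_eq]
  have hC : ∀ (w : Cfsg.Sz F₁ m) (w' : Cfsg.Sz F₂ m), Commute (e₁.symm w : Q) (e₂.symm w' : Q) :=
    fun w w' => commute_mem hm hQ hB hT hK₁ hK₂ hne (e₁.symm w).2 (e₂.symm w').2
  -- any element of a given class in a centralised component
  have hpick : ∀ {F : Type} [Field F] [Fintype F] (h : IsSzField F m),
      ∃ (w : Cfsg.Sz F m) (l : ℕ) (i : Fin 4), l.Prime ∧ orderOf w = l ∧ l ∣ Cl m i ∧ i ≠ 0 ∧ i ≠ j := by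
    intro F _ _ h
    by_cases hj1 : j = 1
    · exact ⟨_, 5, c, by norm_num, (five_four h hm).1, hc5, hc0, hj1 ▸ hc1⟩
    · obtain ⟨l, hl, hld⟩ := Nat.exists_prime_and_dvd
        (show Cl m 1 ≠ 1 from fun e => by have := lt_Cl (m := m) hm 1 (by decide); omega)
      obtain ⟨w, hw⟩ := exists_prime_element h hm hl hld
      exact ⟨w, l, 1, hl, hw, hld, by decide, Ne.symm hj1⟩
  by_cases hr₁ : ρ₁ ^ d = 1
  · have hzc : ∀ w, Commute z (e₁.symm w : Q) := fun w => fix₁ (by rw [hr₁, map_one]; rfl)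
    obtain ⟨w', hw', hwo'⟩ := exists_field_fix_two h₂ hm (ρ₂ ^ d)
    obtain ⟨w, l, i, hl, hwo, hi, hi0, hij⟩ := hpick h₁
    exact triple _ _ l i (fix₂ hw') (hzc w) (hC w w').symm ((o₂ w').trans hwo') hl ((o₁ w).trans hwo) hi hi0 hij
  obtain ⟨w, hw, hwo⟩ := exists_field_fix_two h₁ hm (ρ₁ ^ d)
  by_cases hr₂ : ρ₂ ^ d = 1
  · obtain ⟨w', l, i, hl, hwo', hi, hi0, hij⟩ := hpick h₂
    exact triple _ _ l i (fix₁ hw) (fix₂ (by rw [hr₂, map_one]; rfl)) (hC w w') ((o₁ w).trans hwo) hl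
      ((o₂ w').trans hwo') hi hi0 hij
  by_cases hjc : c = j
  · obtain ⟨w', l, hw', hl, hld, hwo'⟩ := exists_field_fix_class_one h₂ hm hm2 he
      (hord h₂ _ hze₂ hr₂) hj0 (hjc ▸ hc1) hj
    exact triple _ _ l 1 (fix₁ hw) (fix₂ hw') (hC w w') ((o₁ w).trans hwo) hl ((o₂ w').trans hwo') hld
      (by decide) (fun e1 => hc1 (hjc.trans e1.symm))
  · obtain ⟨w', hw', hwo'⟩ := exists_field_fix_five h₂ hm (ρ₂ ^ d)
    exact triple _ _ 5 c (fix₁ hw) (fix₂ hw') (hC w w') ((o₁ w).trans hwo) (by norm_num)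
      ((o₂ w').trans hwo') hc5 hc0 hjc

/-- The group is the product of the two Suzuki groups. -/
theorem exists_iso (hm2 : m ≠ 2) : Nonempty (Cfsg.Sz F₁ m × Cfsg.Sz F₂ m ≃* Q) := by
  let f : Cfsg.Sz F₁ m × Cfsg.Sz F₂ m →* Q :=
    MonoidHom.noncommCoprod (K₁.subtype.comp e₁.symm.toMonoidHom) (K₂.subtype.comp e₂.symm.toMonoidHom)
      fun a b => commute_mem hm hQ hB hT hK₁ hK₂ hne (e₁.symm a).2 (e₂.symm b).2
  refine ⟨MulEquiv.ofBijective f ⟨(injective_iff_map_eq_one f).2 ?_, fun g => ?_⟩⟩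
  · rintro ⟨a, b⟩ hab
    have hab' : (e₁.symm a : Q) * (e₂.symm b : Q) = 1 := hab
    have h1 : (e₁.symm a : Q) ∈ K₁ ⊓ Subgroup.centralizer (K₁ : Set Q) :=
      ⟨(e₁.symm a).2, by
        rw [mul_eq_one_iff_eq_inv.1 hab']
        exact Subgroup.inv_mem _ (Component.le_centralizer_of_ne hK₂ hK₁ hne.symm (e₂.symm b).2)⟩
    rw [inf_centralizer_eq_bot h₁ hm e₁, Subgroup.mem_bot] at h1
    rw [h1, one_mul] at hab'
    exact Prod.ext (e₁.symm.map_eq_one_iff.1 (Subtype.ext h1)) (e₂.symm.map_eq_one_iff.1 (Subtype.ext hab'))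
  · obtain ⟨a, ha, b, hb, rfl⟩ := exists_mul hm hQ hB hT hK₁ hK₂ hne h₁ h₂ e₁ e₂ hm2 g
    refine ⟨(e₁ ⟨a, ha⟩, e₂ ⟨b, hb⟩), ?_⟩
    show (e₁.symm (e₁ ⟨a, ha⟩) : Q) * (e₂.symm (e₂ ⟨b, hb⟩) : Q) = a * b
    rw [e₁.symm_apply_apply, e₂.symm_apply_apply]

end Cfsg.Agent.Lib.SzSquareSpec
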