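import Cfsg.Agent.Lib.SzSquareSpec.Module
import Cfsg.Agent.Lib.Hall.Basic
import Cfsg.Agent.Lib.Coprime.Glauberman
import Cfsg.Agent.Lib.PGroups.Frattini

/-!
# Covering subgroups inside normalisers

Auxiliary facts for the soluble radical: Frattini arguments giving covers inside normalisers.
-/

set_option autoImplicit false
set_option linter.unusedSectionVars false
set_option linter.style.haveILetI false

namespace Cfsg.Agent.Lib.SzSquareSpec

variable {X : Type*} [Group X] [Finite X]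

theorem mem_normalizer_of_map_le {H : Subgroup X} {g : X} (h : H.map (MulAut.conj g).toMonoidHom ≤ H) :
    g ∈ Subgroup.normalizer (H : Set X) := by
  rw [Subgroup.mem_normalizer_iff_map_conj_eq]
  exact Subgroup.eq_of_le_of_card_ge h
    (Subgroup.card_map_of_injective (MulAut.conj g).injective).ge

theorem mem_normalizer_of_forall {H : Subgroup X} {g : X} (h : ∀ x ∈ H, g * x * g⁻¹ ∈ H) :
    g ∈ Subgroup.normalizer (H : Set X) :=
  mem_normalizer_of_map_le (by rintro _ ⟨x, hx, rfl⟩; exact h x hx)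

/-- Normalisers normalise the images of characteristic subgroups. -/
theorem normalizer_le_map_char (H : Subgroup X) (C : Subgroup H) [hC : C.Characteristic] :
    Subgroup.normalizer (H : Set X) ≤ Subgroup.normalizer (C.map H.subtype : Set X) := by
  intro g hg
  refine mem_normalizer_of_forall ?_
  rintro _ ⟨c, hc, rfl⟩
  refine ⟨H.normalizerMonoidHom ⟨g, hg⟩ c, ?_, rfl⟩
  have h1 := Subgroup.characteristic_iff_map_eq.1 hC (H.normalizerMonoidHom ⟨g, hg⟩)
  rw [← h1]
  exact ⟨c, hc, rfl⟩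

variable {S : Type*} [Group S] (φ : X →* S)

/-- The Frattini argument for a conjugacy class of subgroups of the kernel. -/
theorem covers_normalizer {Y : Subgroup X} (hY : Y.map φ = ⊤) (H : Subgroup X)
    (hconj : ∀ y ∈ Y, ∃ r ∈ Y, φ r = 1 ∧ H.map (MulAut.conj (r * y)).toMonoidHom ≤ H) :
    (Y ⊓ Subgroup.normalizer (H : Set X)).map φ = ⊤ := by
  rw [eq_top_iff, ← hY]
  rintro _ ⟨y, hy, rfl⟩
  obtain ⟨r, hr, hr1, hle⟩ := hconj y hy
  exact ⟨r * y, ⟨mul_mem hr hy, mem_normalizer_of_map_le hle⟩, by rw [map_mul, hr1, one_mul]⟩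

/-- A Sylow subgroup of a normal subgroup in the kernel has a covering normaliser. -/
theorem exists_sylow_normalizer {Y : Subgroup X} (hY : Y.map φ = ⊤) {N : Subgroup X} (hNY : N ≤ Y)
    (hNk : N ≤ φ.ker) (hYN : Y ≤ Subgroup.normalizer (N : Set X)) (p : ℕ) [Fact p.Prime] :
    ∃ Q : Subgroup X, Q ≤ N ∧ IsPGroup p Q ∧ Nat.card Q = p ^ (Nat.card N).factorization p ∧
      (∀ U : Subgroup X, U ≤ N → IsPGroup p U → ∃ n ∈ N, U.map (MulAut.conj n).toMonoidHom ≤ Q) ∧
      (Y ⊓ Subgroup.normalizer (Q : Set X)).map φ = ⊤ := by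
  obtain ⟨P⟩ : Nonempty (Sylow p N) := inferInstance
  have hconj : ∀ U : Subgroup X, U ≤ N → IsPGroup p U →
      ∃ n ∈ N, U.map (MulAut.conj n).toMonoidHom ≤ (P : Subgroup N).map N.subtype := by
    intro U hUN hU
    obtain ⟨R, hR⟩ := (hU.comap_of_injective N.subtype N.subtype_injective).exists_le_sylow
    obtain ⟨n, hn⟩ := MulAction.exists_smul_eq N R P
    refine ⟨n, n.2, ?_⟩
    rintro _ ⟨x, hx, rfl⟩
    refine ⟨n * ⟨x, hUN hx⟩ * n⁻¹, ?_, rfl⟩
    rw [← hn]
    exact Subgroup.smul_mem_pointwise_smul _ _ _ (hR (show (⟨x, hUN hx⟩ : N) ∈ U.comap _ from hx))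
  refine ⟨(P : Subgroup N).map N.subtype, Subgroup.map_subtype_le _, P.2.map _, ?_, hconj,
    covers_normalizer φ hY _ fun y hy => ?_⟩
  · rw [Subgroup.card_map_of_injective N.subtype_injective, P.card_eq_multiplicity]
  · obtain ⟨n, hn, hle⟩ := hconj (((P : Subgroup N).map N.subtype).map (MulAut.conj y).toMonoidHom) (by
      rintro _ ⟨x, hx, rfl⟩
      exact (Subgroup.mem_normalizer_iff.1 (hYN hy) x).1 (Subgroup.map_subtype_le _ hx))
      ((P.2.map _).map _)
    refine ⟨n, hNY hn, MonoidHom.mem_ker.1 (hNk hn), le_trans ?_ hle⟩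
    rintro _ ⟨x, hx, rfl⟩
    exact ⟨y * x * y⁻¹, ⟨x, hx, rfl⟩, by simp [mul_assoc]⟩

/-- A covering subgroup yields a cover with an elementary abelian group that it normalises. -/
theorem exists_cover_elementary {Y : Subgroup X} (hY : Y.map φ = ⊤) {N : Subgroup X} (hNY : N ≤ Y)
    (hNk : N ≤ φ.ker) (hYN : Y ≤ Subgroup.normalizer (N : Set X)) {p : ℕ} [Fact p.Prime]
    (hp : p ∣ Nat.card N) :
    ∃ (D W : Subgroup X), D ≤ Y ∧ IsCover (φ.comp D.subtype) ∧ W ≤ N ∧ W ≠ ⊥ ∧
      Cfsg.IsElementaryAbelian p W ∧ ∀ d : D, (d : X) ∈ Subgroup.normalizer (W : Set X) := by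
  obtain ⟨Q, hQN, hQ, hcard, -, hcov⟩ := exists_sylow_normalizer φ hY hNY hNk hYN p
  have hQ1 : Q ≠ ⊥ := by
    rintro rfl
    rw [Subgroup.card_bot] at hcard
    have h1 := Nat.Prime.factorization_pos_of_dvd (Fact.out : p.Prime) Nat.card_pos.ne' hp
    have h2 := Nat.one_lt_pow h1.ne' (Nat.Prime.one_lt (Fact.out : p.Prime))
    omega
  obtain ⟨W, hW1, hWQ, hWe, -, hWn⟩ := exists_omega hQ hQ1
  obtain ⟨D, hDY, hD⟩ := exists_cover φ _ hcov
  exact ⟨D, W, hDY.trans inf_le_left, hD, hWQ.trans hQN, hW1, hWe, fun d => hWn (hDY d.2).2⟩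

/-- The centraliser of an element centralised by a covering subgroup covers. -/
theorem centralizer_covers {D : Subgroup X} (hD : IsCover (φ.comp D.subtype)) {a : X}
    (ha : ∀ d : D, Commute (d : X) a) : (Subgroup.centralizer ({a} : Set X)).map φ = ⊤ := by
  rw [eq_top_iff]
  intro s _
  obtain ⟨d, hd⟩ := hD.surj s
  exact ⟨d, Subgroup.mem_centralizer_singleton_iff.2 (ha d).eq, hd⟩

end Cfsg.Agent.Lib.SzSquareSpec
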