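import Cfsg.Agent.Lib.HallHigmanB.Main
import Cfsg.Agent.Lib.Coprime.Conjugacy
import Cfsg.Agent.Lib.PSolvable.Basic
import Cfsg.Agent.Lib.Cores.Basic

/-!
# Raising element orders

If a `p`-element `g` normalises an elementary abelian `p`-group `W` and an abelian `p'`-group `A`, and
`g ^ (p ^ n)` does not centralise `A` modulo `C(W)`, then some `w * g`, `w ∈ W`, has order `p ^ (n + 2)`
(the theorem B of Hall and Higman).
-/

set_option autoImplicit false
set_option linter.unusedSectionVars false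

namespace Cfsg.Agent.Lib.SzSquareSpec

open Polynomial in
theorem sub_one_pow_eq_geom {p : ℕ} [Fact p.Prime] {E : Type*} [Ring E] [Algebra (ZMod p) E] (e : E)
    (N : ℕ) : (e - 1) ^ (p ^ N - 1) = ∑ i ∈ Finset.range (p ^ N), e ^ i := by
  have hpoly : ((X : (ZMod p)[X]) - 1) ^ (p ^ N - 1) = ∑ i ∈ Finset.range (p ^ N), X ^ i := by
    have hX : (X : (ZMod p)[X]) - 1 ≠ 0 := by
      have := X_sub_C_ne_zero (R := ZMod p) 1
      rwa [map_one] at this
    refine mul_right_cancel₀ hX ?_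
    rw [geom_sum_mul, ← pow_succ, Nat.sub_add_cancel (Nat.one_le_pow _ _ (Nat.Prime.pos Fact.out)),
      sub_pow_char_pow, one_pow]
  simpa using congrArg (aeval e) hpoly

/-- The product formula `(w g) ^ N`. -/
theorem mul_pow_conj {X : Type*} [Group X] {V : Type*} [CommGroup V] (ι : V →* X) (g : X)
    (f : MulAut V) (hf : ∀ v, ι (f v) = g * ι v * g⁻¹) (v : V) (N : ℕ) :
    (ι v * g) ^ N = ι (∏ i ∈ Finset.range N, (f ^ i) v) * g ^ N := by
  induction N with
  | zero => simp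
  | succ N ih =>
    rw [pow_succ', ih, Finset.prod_range_succ']
    simp only [pow_succ' f, MulAut.mul_apply, pow_zero, MulAut.one_apply]
    rw [← map_prod f, map_mul, hf, pow_succ' g]
    have hc : ι (∏ i ∈ Finset.range N, (f ^ i) v) = g⁻¹ * ι (f (∏ i ∈ Finset.range N, (f ^ i) v)) * g := by
      rw [hf]; group
    have hcomm : g * ι (∏ i ∈ Finset.range N, (f ^ i) v) * g⁻¹ * ι v =
        ι v * (g * ι (∏ i ∈ Finset.range N, (f ^ i) v) * g⁻¹) := by
      rw [← hf, ← map_mul, ← map_mul, mul_comm]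
    rw [hcomm]
    group

/-- An automorphism of an elementary abelian group as a linear map. -/
def autToEnd (p : ℕ) [Fact p.Prime] {W : Type*} [CommGroup W] [Module (ZMod p) (Additive W)] :
    MulAut W →* Module.End (ZMod p) (Additive W) where
  toFun e := (MonoidHom.toAdditive e.toMonoidHom).toZModLinearMap p
  map_one' := by apply LinearMap.ext; intro v; rfl
  map_mul' := by intros; apply LinearMap.ext; intro v; rfl

/-- Theorem B of Hall and Higman for a group of automorphisms of an elementary abelian group. -/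
theorem exists_prod_ne_one {p : ℕ} [Fact p.Prime] {W : Type*} [CommGroup W] [Finite W]
    (hp : ∀ w : W, w ^ p = 1) (B : Subgroup (MulAut W)) [Group.IsSolvable B]
    (hO : Cfsg.pCore p B = ⊥) (gB : B) {n : ℕ} (hgB : orderOf gB = p ^ (n + 1))
    (hsyl : ∀ n₀ q d, 1 ≤ n₀ → n₀ ≤ n + 1 → q.Prime → 1 ≤ d → p ^ n₀ - 1 = q ^ d →
      ∀ _ : Fact q.Prime, ∃ Q : Sylow q B, IsMulCommutative Q) :
    ∃ v : W, ∏ i ∈ Finset.range (p ^ (n + 1)), ((gB : MulAut W) ^ i) v ≠ 1 := by
  classical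
  let _ : Module (ZMod p) (Additive W) :=
    AddCommGroup.zmodModule (n := p) (G := Additive W) fun x => congrArg Additive.ofMul (hp x.toMul)
  haveI : Finite (Additive W) := inferInstanceAs (Finite W)
  have hf : Function.Injective ((autToEnd p (W := W)).comp B.subtype) := by
    intro a b hab
    refine Subtype.ext (MulEquiv.ext fun w => ?_)
    exact congrArg Additive.toMul (LinearMap.congr_fun hab (Additive.ofMul w))
  rcases HallHigmanB.theoremB (PSolvable.isPSolvable_of_isSolvable (p := p)) hO _ hf gB n hgB with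
    hne | ⟨n₀, q, d, h1, h2, hq, hd, heq, hQ, -⟩
  swap
  · obtain ⟨Q, hc⟩ := hsyl n₀ q d h1 h2 hq hd heq ⟨hq⟩
    exact absurd hc (hQ Q)
  rw [sub_one_pow_eq_geom] at hne
  by_contra hcon
  push Not at hcon
  refine hne (LinearMap.ext fun v => ?_)
  rw [LinearMap.sum_apply, LinearMap.zero_apply]
  have key := congrArg Additive.ofMul (hcon v.toMul)
  rw [ofMul_prod, ofMul_one] at key
  refine Eq.trans (Finset.sum_congr rfl fun i hi => ?_) key
  clear hi
  rw [← map_pow, MonoidHom.comp_apply, map_pow]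
  induction i with
  | zero => rfl
  | succ i ih => rw [pow_succ', map_mul, pow_succ', MulAut.mul_apply, Module.End.mul_apply, ih]; rfl

variable {X : Type*} [Group X] [Finite X] {p r : ℕ} [Fact p.Prime]

theorem exists_pow_ne_one (hr : r.Prime) (hrp : r ≠ p) (W : Subgroup X)
    (hW : Cfsg.IsElementaryAbelian p W) {n : ℕ} (g : X) (hgW : g ∈ Subgroup.normalizer (W : Set X))
    (hg : g ^ p ^ (n + 1) = 1) (A : Subgroup X) (hA : IsPGroup r A)
    (hAW : A ≤ Subgroup.normalizer (W : Set X)) (hgA : g ∈ Subgroup.normalizer (A : Set X))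
    (hexc : IsMulCommutative A ∨ ∀ n₀ d, 1 ≤ n₀ → n₀ ≤ n + 1 → 1 ≤ d → p ^ n₀ - 1 ≠ r ^ d)
    (hfaith : ∃ a ∈ A, ∃ w ∈ W, ¬ Commute (g ^ p ^ n * a * (g ^ p ^ n)⁻¹ * a⁻¹) w) :
    ∃ w ∈ W, (w * g) ^ p ^ (n + 1) ≠ 1 ∧ (w * g) ^ p ^ (n + 2) = 1 := by
  classical
  haveI : Fact r.Prime := ⟨hr⟩
  letI : CommGroup W := { W.toGroup with mul_comm := hW.1.is_comm.comm }
  let L : Subgroup X := Subgroup.zpowers g ⊔ A
  have hLW : L ≤ Subgroup.normalizer (W : Set X) := sup_le (Subgroup.zpowers_le.2 hgW) hAW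
  have hLA : L ≤ Subgroup.normalizer (A : Set X) := sup_le (Subgroup.zpowers_le.2 hgA) Subgroup.le_normalizer
  let f0 : L →* MulAut W := W.normalizerMonoidHom.comp (Subgroup.inclusion hLW)
  have hf0 : ∀ (x : L) (w : W), ((f0 x w : W) : X) = (x : X) * w * (x : X)⁻¹ := fun x w => rfl
  let B := f0.range
  let gL : L := ⟨g, Subgroup.mem_sup_left (Subgroup.mem_zpowers g)⟩
  let gB : B := f0.rangeRestrict gL
  let Ā : Subgroup B := (A.subgroupOf L).map f0.rangeRestrict
  haveI hAL : (A.subgroupOf L).Normal :=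
    (Subgroup.normal_subgroupOf_iff_le_normalizer le_sup_right).2 hLA
  haveI hĀn : Ā.Normal := hAL.map _ f0.rangeRestrict_surjective
  have hĀp : IsPGroup r Ā := (hA.comap_of_injective L.subtype L.subtype_injective).map _
  -- every element is `ā ḡ ^ i`
  have hdec : ∀ z : B, ∃ a ∈ Ā, ∃ i : ℤ, z = gB ^ i * a := by
    rintro ⟨_, ⟨⟨x, hx⟩, rfl⟩⟩
    obtain ⟨y, hy, a, ha, rfl⟩ :=
      Coprime.exists_mul_of_mem_sup (Subgroup.zpowers_le.2 hgA) hx
    obtain ⟨i, rfl⟩ := Subgroup.mem_zpowers_iff.1 hy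
    refine ⟨f0.rangeRestrict ⟨a, Subgroup.mem_sup_right ha⟩,
      Subgroup.mem_map_of_mem _ (show (⟨a, _⟩ : L) ∈ A.subgroupOf L from ha), i, ?_⟩
    rw [← map_zpow, ← map_mul]
    rfl
  have hgB : orderOf gB = p ^ (n + 1) := by
    refine orderOf_eq_prime_pow (fun e => ?_) ?_
    · obtain ⟨a, ha, w, hw, hne⟩ := hfaith
      refine hne ?_
      have e' : ∀ v : W, g ^ p ^ n * (v : X) * (g ^ p ^ n)⁻¹ = v := fun v => by
        have := congrArg Subtype.val (DFunLike.congr_fun (congrArg Subtype.val e) v)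
        rw [← map_pow] at this
        exact this
      have haW : a ∈ Subgroup.normalizer (W : Set X) := hAW ha
      have h1 := e' ⟨a⁻¹ * w * a, by
        simpa [mul_assoc] using (Subgroup.mem_normalizer_iff.1 (inv_mem haW) w).1 hw⟩
      have h2 := e' ⟨w, hw⟩
      rw [mul_inv_eq_iff_eq_mul] at h1 h2
      refine mul_inv_eq_iff_eq_mul.1 ?_
      calc g ^ p ^ n * a * (g ^ p ^ n)⁻¹ * a⁻¹ * w * (g ^ p ^ n * a * (g ^ p ^ n)⁻¹ * a⁻¹)⁻¹
          = g ^ p ^ n * a * ((g ^ p ^ n)⁻¹ * ((a⁻¹ * w * a) * g ^ p ^ n)) * a⁻¹ * (g ^ p ^ n)⁻¹ := by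
            group
        _ = g ^ p ^ n * w * (g ^ p ^ n)⁻¹ := by rw [← h1]; group
        _ = w := by rw [h2]; group
    · rw [← map_pow, show gL ^ p ^ (n + 1) = 1 from Subtype.ext hg, map_one]
  -- `B` is soluble
  have hquot : IsPGroup p (B ⧸ Ā) := by
    intro z
    obtain ⟨z, rfl⟩ := QuotientGroup.mk'_surjective Ā z
    obtain ⟨a, ha, i, rfl⟩ := hdec z
    refine ⟨n + 1, ?_⟩
    rw [map_mul, (QuotientGroup.eq_one_iff a).2 ha |> fun e => (show (QuotientGroup.mk' Ā) a = 1 from e),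
      mul_one, map_zpow, ← zpow_natCast, ← zpow_mul, mul_comm, zpow_mul, zpow_natCast, ← map_pow,
      show gB ^ p ^ (n + 1) = 1 from hgB ▸ pow_orderOf_eq_one gB, map_one, one_zpow]
  haveI := hquot.isNilpotent
  haveI := hĀp.isNilpotent
  haveI : Group.IsSolvable B := Group.isSolvable_of_ker_le_range Ā.subtype (QuotientGroup.mk' Ā)
    (by rw [QuotientGroup.ker_mk', Subgroup.range_subtype])
  -- `O_p(B) = 1`
  have hdisj : ∀ (P : Subgroup B), IsPGroup p P → P ⊓ Ā = ⊥ := fun P hP =>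
    disjoint_iff.1 (IsPGroup.disjoint_of_ne p r hrp.symm P Ā hP hĀp)
  have hO : Cfsg.pCore p B = ⊥ := by
    rw [Subgroup.eq_bot_iff_forall]
    intro z hz
    by_contra hz1
    have hP : IsPGroup p (Cfsg.pCore p B) := Cores.pCore_isPGroup p
    have hgP : IsPGroup p (Subgroup.zpowers gB) :=
      IsPGroup.of_card (n := n + 1) (by rw [Nat.card_zpowers, hgB])
    obtain ⟨a, ha, i, rfl⟩ := hdec z
    have ha1 : a = 1 := by
      refine Subgroup.mem_bot.1 (hdisj _ (hP.to_sup_of_normal_left hgP) ▸ ⟨?_, ha⟩)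
      have : a = (gB ^ i)⁻¹ * (gB ^ i * a) := (inv_mul_cancel_left _ _).symm
      rw [this]
      exact mul_mem (Subgroup.mem_sup_right (inv_mem (Subgroup.zpow_mem _ (Subgroup.mem_zpowers _) i)))
        (Subgroup.mem_sup_left hz)
    subst ha1
    rw [mul_one] at hz hz1
    obtain ⟨c, hc⟩ : ∃ c : ℕ, gB ^ c = gB ^ i :=
      mem_powers_iff_mem_zpowers.2 (Subgroup.zpow_mem _ (Subgroup.mem_zpowers _) i)
    rw [← hc] at hz hz1
    have hc0 : c ≠ 0 := by rintro rfl; simp at hz1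
    obtain ⟨e, c', hc', rfl⟩ := Nat.exists_eq_pow_mul_and_not_dvd hc0 p (Nat.Prime.ne_one Fact.out)
    have hen : e ≤ n := by
      by_contra hlt
      refine hz1 (orderOf_dvd_iff_pow_eq_one.1 ?_)
      rw [hgB]
      exact (pow_dvd_pow p (by omega)).trans (dvd_mul_right _ _)
    have hzn : (gB ^ p ^ n) ^ c' ∈ Cfsg.pCore p B := by
      have : (gB ^ (p ^ e * c')) ^ p ^ (n - e) = (gB ^ p ^ n) ^ c' := by
        rw [← pow_mul, ← pow_mul, mul_right_comm, ← pow_add, Nat.add_sub_cancel' hen]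
      exact this ▸ Subgroup.pow_mem _ hz _
    have hzn' : gB ^ p ^ n ∈ Cfsg.pCore p B := by
      obtain ⟨l, hl⟩ := exists_pow_eq_self_of_coprime (x := gB ^ p ^ n) (n := c') (by
        rw [orderOf_pow_of_dvd (pow_ne_zero _ (Nat.Prime.ne_zero Fact.out)) (hgB ▸ pow_dvd_pow p n.le_succ),
          hgB, Nat.pow_div n.le_succ (Nat.Prime.pos Fact.out), show n + 1 - n = 1 by omega, pow_one]
        exact ((Nat.Prime.coprime_iff_not_dvd Fact.out).2 hc').symm)
      exact hl ▸ Subgroup.pow_mem _ hzn l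
    obtain ⟨a, ha, w, hw, hne⟩ := hfaith
    have haB : f0.rangeRestrict ⟨a, Subgroup.mem_sup_right ha⟩ ∈ Ā :=
      Subgroup.mem_map_of_mem _ (show (⟨a, _⟩ : L) ∈ A.subgroupOf L from ha)
    have hcomm := Subgroup.commute_of_normal_of_disjoint _ _ inferInstance hĀn
      (disjoint_iff.2 (hdisj _ hP)) _ _ hzn' haB
    refine hne ?_
    have key : f0.rangeRestrict (gL ^ p ^ n * ⟨a, Subgroup.mem_sup_right ha⟩ * (gL ^ p ^ n)⁻¹ *
        (⟨a, Subgroup.mem_sup_right ha⟩ : L)⁻¹) = 1 := by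
      rw [map_mul, map_mul, map_mul, map_inv, map_inv, map_pow, mul_inv_eq_one, mul_inv_eq_iff_eq_mul]
      exact hcomm
    have key' : (g ^ p ^ n * a * (g ^ p ^ n)⁻¹ * a⁻¹) * w *
        (g ^ p ^ n * a * (g ^ p ^ n)⁻¹ * a⁻¹)⁻¹ = w :=
      congrArg Subtype.val (DFunLike.congr_fun (congrArg Subtype.val key) (⟨w, hw⟩ : W))
    exact mul_inv_eq_iff_eq_mul.1 key'
  obtain ⟨v, hv⟩ := exists_prod_ne_one (fun w : W => Subtype.ext (hW.2 _ w.2)) B hO gB hgB (by
    intro n₀ q d h1 h2 hq hd heq _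
    have hqp : q ≠ p := by
      rintro rfl
      have h' : q ∣ q ^ n₀ - 1 := heq ▸ dvd_pow_self q (by omega : d ≠ 0)
      have := Nat.dvd_sub (dvd_pow_self q (by omega : n₀ ≠ 0)) h'
      rw [Nat.sub_sub_self (Nat.one_le_pow _ _ hq.pos)] at this
      exact hq.not_dvd_one this
    obtain ⟨Q⟩ : Nonempty (Sylow q B) := inferInstance
    have hQĀ : (Q : Subgroup B) ≤ Ā := by
      intro z hz
      obtain ⟨j, hj⟩ := IsPGroup.iff_orderOf.1 Q.2 ⟨z, hz⟩
      obtain ⟨l, hl⟩ := IsPGroup.iff_orderOf.1 hquot (QuotientGroup.mk' Ā z)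
      have hd' := orderOf_map_dvd (QuotientGroup.mk' Ā) z
      rw [hl, ← Subgroup.orderOf_mk z hz, hj] at hd'
      have h0 : p ^ l = 1 := Nat.eq_one_of_dvd_coprimes
        (((Nat.coprime_primes Fact.out hq).2 hqp.symm).pow l j) dvd_rfl hd'
      exact (QuotientGroup.eq_one_iff z).1 (orderOf_eq_one_iff.1 (hl.trans h0))
    refine ⟨Q, ?_⟩
    by_cases hqr : q = r
    · rcases hexc with hab | hexc
      · refine ⟨⟨fun x y => Subtype.ext ?_⟩⟩
        obtain ⟨x', hx', hxe⟩ := hQĀ x.2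
        obtain ⟨y', hy', hye⟩ := hQĀ y.2
        show (x : B) * y = y * x
        rw [← hxe, ← hye, ← map_mul, ← map_mul]
        exact congrArg _ (Subtype.ext
          (congrArg Subtype.val (hab.is_comm.comm ⟨_, hx'⟩ ⟨_, hy'⟩) : _))
      · exact absurd (hqr ▸ heq) (hexc n₀ d h1 h2 hd)
    · have hbot : (Q : Subgroup B) = ⊥ := by
        have hd2 := disjoint_iff.1 (IsPGroup.disjoint_of_ne q r hqr (Q : Subgroup B) Ā Q.2 hĀp)
        rwa [inf_eq_left.2 hQĀ] at hd2
      rw [hbot]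
      exact ⟨⟨fun x y => Subsingleton.elim _ _⟩⟩)
  have hformula := mul_pow_conj W.subtype g (gB : MulAut W) (fun w => hf0 gL w) v
  refine ⟨v, v.2, fun e => hv ?_, ?_⟩
  · have := hformula (p ^ (n + 1))
    rw [hg, mul_one] at this
    exact Subtype.ext (this.symm.trans e)
  · rw [pow_succ p, pow_mul]
    have := hformula (p ^ (n + 1))
    rw [hg, mul_one] at this
    rw [show ((v : X) * g) ^ p ^ (n + 1) = _ from this]
    exact hW.2 _ (Subtype.coe_prop _)

end Cfsg.Agent.Lib.SzSquareSpec
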