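import Cfsg.Agent.Lib.SzSquareSpec.Cover
import Cfsg.Agent.Lib.SzSquareSpec.Raise
import Cfsg.Agent.Lib.SzModule.Group

/-!
# Two-groups normalised by a cover of a Suzuki group

In a group satisfying `Bound m` a minimal cover of `Sz(q₀)` centralises every `2`-group that it normalises.
-/

set_option autoImplicit false
set_option linter.unusedSectionVars false
set_option linter.style.haveILetI false

namespace Cfsg.Agent.Lib.SzSquareSpec

open Cfsg.Agent.Lib.LieTwisted.Suzuki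

universe u

/-- A nontrivial `p`-group has a nontrivial elementary abelian subgroup in its centre invariant under
its normaliser. -/
theorem exists_omega {X : Type*} [Group X] [Finite X] {p : ℕ} [Fact p.Prime] {P : Subgroup X}
    (hP : IsPGroup p P) (hP1 : P ≠ ⊥) :
    ∃ W : Subgroup X, W ≠ ⊥ ∧ W ≤ P ∧ Cfsg.IsElementaryAbelian p W ∧
      (∀ w ∈ W, ∀ x ∈ P, Commute x w) ∧
      Subgroup.normalizer (P : Set X) ≤ Subgroup.normalizer (W : Set X) := by
  let W : Subgroup X :=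
    { carrier := {x | x ∈ P ∧ (∀ y ∈ P, Commute y x) ∧ x ^ p = 1}
      one_mem' := ⟨one_mem P, fun y _ => Commute.one_right y, one_pow p⟩
      mul_mem' := fun {a b} ha hb => ⟨mul_mem ha.1 hb.1, fun y hy => (ha.2.1 y hy).mul_right (hb.2.1 y hy),
        by rw [(hb.2.1 a ha.1).mul_pow, ha.2.2, hb.2.2, mul_one]⟩
      inv_mem' := fun {a} ha => ⟨inv_mem ha.1, fun y hy => (ha.2.1 y hy).inv_right,
        by rw [inv_pow, ha.2.2, inv_one]⟩ }
  refine ⟨W, ?_, fun x hx => hx.1, ⟨⟨⟨fun a b => Subtype.ext (b.2.2.1 a a.2.1).eq⟩⟩, fun x hx => hx.2.2⟩,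
    fun w hw x hx => hw.2.1 x hx, fun g hg => ?_⟩
  · haveI := (Subgroup.nontrivial_iff_ne_bot P).2 hP1
    haveI := hP.center_nontrivial
    obtain ⟨n, hn, hcard⟩ := (hP.to_subgroup (Subgroup.center P)).nontrivial_iff_card.1 inferInstance
    obtain ⟨z, hz⟩ := exists_prime_orderOf_dvd_card' (G := Subgroup.center P) p
      (hcard ▸ dvd_pow_self p hn.ne')
    rw [← Subgroup.orderOf_coe, ← Subgroup.orderOf_coe] at hz
    refine fun hbot => ?_
    have hzW : ((z : P) : X) ∈ W := ⟨(z : P).2, fun y hy =>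
      congrArg Subtype.val (Subgroup.mem_center_iff.1 z.2 ⟨y, hy⟩), hz ▸ pow_orderOf_eq_one _⟩
    rw [hbot, Subgroup.mem_bot] at hzW
    rw [hzW, orderOf_one] at hz
    exact (Nat.Prime.ne_one Fact.out) hz.symm
  · have key : ∀ g ∈ Subgroup.normalizer (P : Set X), ∀ x ∈ W, g * x * g⁻¹ ∈ W := by
      rintro g hg x ⟨hxP, hxc, hxp⟩
      refine ⟨(Subgroup.mem_normalizer_iff.1 hg x).1 hxP, fun y hy => ?_, by rw [conj_pow, hxp, mul_one, mul_inv_cancel]⟩
      have hy' : g⁻¹ * y * g ∈ P := by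
        have := (Subgroup.mem_normalizer_iff.1 (inv_mem hg) y).1 hy
        simpa using this
      show y * (g * x * g⁻¹) = g * x * g⁻¹ * y
      calc y * (g * x * g⁻¹) = g * ((g⁻¹ * y * g) * x) * g⁻¹ := by group
        _ = g * (x * (g⁻¹ * y * g)) * g⁻¹ := by rw [(hxc _ hy').eq]
        _ = g * x * g⁻¹ * y := by group
    rw [Subgroup.mem_normalizer_iff]
    intro x
    refine ⟨key g hg x, fun hx => ?_⟩
    have := key g⁻¹ (inv_mem hg) _ hx
    simpa [mul_assoc] using this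

/-- A Sylow subgroup above a `p`-subgroup of the image, with the Frattini argument. -/
theorem exists_sylow_lift {D S : Type*} [Group D] [Finite D] [Group S] {φ : D →* S}
    (hφ : Function.Surjective φ) {p : ℕ} [Fact p.Prime] (T : Subgroup S) (hT : IsPGroup p T) :
    ∃ A : Subgroup D, IsPGroup p A ∧ A.map φ = T ∧
      (∀ s ∈ Subgroup.normalizer (T : Set S), ∃ d ∈ Subgroup.normalizer (A : Set D), φ d = s) ∧
      ∀ Q : Subgroup D, IsPGroup p Q → Q.map φ ≤ T → ∃ j, φ j ∈ T ∧ Q.map (MulAut.conj j).toMonoidHom ≤ A := by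
  obtain ⟨P⟩ : Nonempty (Sylow p (T.comap φ)) := inferInstance
  set A := (P : Subgroup (T.comap φ)).map (T.comap φ).subtype with hA
  have hAT : A.map φ = T := by
    let ψ : T.comap φ →* T := φ.subgroupComap T
    have hψ : Function.Surjective ψ := fun ⟨t, ht⟩ => by
      obtain ⟨d, rfl⟩ := hφ t
      exact ⟨⟨d, ht⟩, rfl⟩
    have h1 : ((P.mapSurjective hψ : Sylow p T) : Subgroup T) = ⊤ :=
      ((P.mapSurjective hψ).is_maximal' (hT.of_injective (⊤ : Subgroup T).subtype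
        (⊤ : Subgroup T).subtype_injective) le_top).symm
    rw [Sylow.coe_mapSurjective] at h1
    rw [hA, Subgroup.map_map, show φ.comp (T.comap φ).subtype = T.subtype.comp ψ from rfl,
      ← Subgroup.map_map, h1, ← MonoidHom.range_eq_map, Subgroup.range_subtype]
  have hconj : ∀ Q : Subgroup D, IsPGroup p Q → Q.map φ ≤ T →
      ∃ j, φ j ∈ T ∧ Q.map (MulAut.conj j).toMonoidHom ≤ A := by
    intro Q hQ hQT
    have hQle : Q ≤ T.comap φ := Subgroup.map_le_iff_le_comap.1 hQT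
    obtain ⟨R, hR⟩ := (hQ.comap_of_injective (T.comap φ).subtype (T.comap φ).subtype_injective).exists_le_sylow
    obtain ⟨j, hj⟩ := MulAction.exists_smul_eq (T.comap φ) R P
    refine ⟨j, j.2, ?_⟩
    rintro _ ⟨q, hq, rfl⟩
    refine ⟨j * ⟨q, hQle hq⟩ * j⁻¹, ?_, rfl⟩
    rw [← hj]
    exact Subgroup.smul_mem_pointwise_smul _ _ _ (hR (show (⟨q, hQle hq⟩ : T.comap φ) ∈ Q.comap _ from hq))
  refine ⟨A, P.2.map _, hAT, fun s hs => ?_, hconj⟩
  obtain ⟨g, rfl⟩ := hφ s
  have hT' : (A.map (MulAut.conj g).toMonoidHom).map φ ≤ T := by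
    rw [Subgroup.map_map]
    rintro _ ⟨a, ha, rfl⟩
    show φ (g * a * g⁻¹) ∈ T
    rw [map_mul, map_mul, map_inv]
    exact (Subgroup.mem_normalizer_iff.1 hs _).1 (hAT ▸ Subgroup.mem_map_of_mem φ ha)
  obtain ⟨j, hj, hle⟩ := hconj _ ((P.2.map _).map _) hT'
  obtain ⟨a, ha, hae⟩ := (hAT.symm ▸ hj : φ j ∈ A.map φ)
  have hjg : j * g ∈ Subgroup.normalizer (A : Set D) := by
    have hle' : A.map (MulAut.conj (j * g)).toMonoidHom ≤ A := by
      refine le_trans ?_ hle
      rintro _ ⟨x, hx, rfl⟩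
      exact ⟨g * x * g⁻¹, ⟨x, hx, rfl⟩, by simp [mul_assoc]⟩
    have heq : A.map (MulAut.conj (j * g)).toMonoidHom = A :=
      Subgroup.eq_of_le_of_card_ge hle' (le_of_eq (Subgroup.card_map_of_injective (MulAut.conj (j * g)).injective).symm)
    rw [Subgroup.mem_normalizer_iff]
    intro x
    constructor
    · intro hx; exact hle' ⟨x, hx, rfl⟩
    · intro hx
      rw [← heq] at hx
      obtain ⟨y, hy, hye⟩ := hx
      rwa [← (MulAut.conj (j * g)).injective hye]
  refine ⟨a⁻¹ * (j * g), mul_mem (inv_mem (Subgroup.le_normalizer ha)) hjg, ?_⟩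
  rw [map_mul, map_inv, map_mul, hae, inv_mul_cancel_left]

variable {F : Type*} [Field F] [Fintype F] {k : ℕ} (h : IsSzField F k) (hk : 1 ≤ k)
variable {D : Type*} [Group D] [Finite D] {φ : D →* Cfsg.Sz F k} (hφ : IsCover φ) {m : ℕ}
  (hD : Bound m D)

section Main

include h hk hφ hD

/-- A Sylow `5`-subgroup over an element of order five, with an element of order four acting on it. -/
theorem exists_five_lift : ∃ (A : Subgroup D) (g : D), IsPGroup 5 A ∧
    g ∈ Subgroup.normalizer (A : Set D) ∧ g ^ 4 = 1 ∧ φ g = uS h 1 0 ∧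
    ∃ a ∈ A, φ a = wS h * uS h 0 1 := by
  obtain ⟨h5, hconj⟩ := five_four h hk
  haveI : Fact (Nat.Prime 5) := ⟨by norm_num⟩
  obtain ⟨A, hA, hAT, hN, -⟩ := exists_sylow_lift hφ.surj (Subgroup.zpowers (wS h * uS h 0 1))
    (IsPGroup.of_card (n := 1) (by rw [Nat.card_zpowers, h5, pow_one]))
  have hf : uS h 1 0 ∈ Subgroup.normalizer (Subgroup.zpowers (wS h * uS h 0 1) : Set (Cfsg.Sz F k)) := by
    have hle : (Subgroup.zpowers (wS h * uS h 0 1)).map (MulAut.conj (uS h 1 0)).toMonoidHom ≤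
        Subgroup.zpowers (wS h * uS h 0 1) := by
      rw [MonoidHom.map_zpowers, Subgroup.zpowers_le]
      show uS h 1 0 * (wS h * uS h 0 1) * (uS h 1 0)⁻¹ ∈ _
      rw [hconj]
      exact Subgroup.pow_mem _ (Subgroup.mem_zpowers _) 2
    have heq := Subgroup.eq_of_le_of_card_ge hle
      (le_of_eq (Subgroup.card_map_of_injective (MulAut.conj (uS h 1 0)).injective).symm)
    rw [Subgroup.mem_normalizer_iff]
    intro x
    refine ⟨fun hx => hle ⟨x, hx, rfl⟩, fun hx => ?_⟩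
    rw [← heq] at hx
    obtain ⟨y, hy, hye⟩ := hx
    rwa [← (MulAut.conj (uS h 1 0)).injective hye]
  obtain ⟨d, hd, hde⟩ := hN _ hf
  have h4 : uS h 1 0 ^ 2 ^ 2 = 1 := orderOf_dvd_iff_pow_eq_one.1 (by rw [uS_one_zero_order h hk]; norm_num)
  obtain ⟨g, hg, hge, b, hb⟩ := exists_pPower_lift φ
    (Y := Subgroup.normalizer (A : Set D)) ⟨d, hd, hde⟩ Nat.prime_two h4
  refine ⟨A, g, hA, hg, ?_, hge, ?_⟩
  · have hb2 : b ≤ 2 := by
      by_contra hlt
      exact hD.no_eight g (hb ▸ pow_dvd_pow 2 (by omega : 3 ≤ b))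
    exact orderOf_dvd_iff_pow_eq_one.1 (hb ▸ pow_dvd_pow 2 hb2)
  · exact (hAT.symm ▸ Subgroup.mem_zpowers _ : wS h * uS h 0 1 ∈ A.map φ)

theorem two_elementary {X : Type*} [Group X] [Finite X] (hX : Bound m X) (ι : D →* X) (W : Subgroup X)
    (hW : Cfsg.IsElementaryAbelian 2 W) (hn : ∀ d, ι d ∈ Subgroup.normalizer (W : Set X)) (d : D) :
    ∀ w ∈ W, Commute (ι d) w := by
  obtain ⟨A, g, hA, hgA, hg4, hge, a, ha, hae⟩ := exists_five_lift h hk hφ hD
  by_cases hfaith : ∀ w ∈ W, Commute (ι (g ^ 2 * a * (g ^ 2)⁻¹ * a⁻¹)) w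
  · refine hφ.centralises_of h hk ι W hn (fun e => ?_) hfaith d
    obtain ⟨h5, hconj⟩ := five_four h hk
    rw [map_mul, map_mul, map_mul, map_inv, map_inv, map_pow, hge, hae, pow_two (uS h 1 0), mul_inv_rev,
      show uS h 1 0 * uS h 1 0 * (wS h * uS h 0 1) * ((uS h 1 0)⁻¹ * (uS h 1 0)⁻¹) =
        uS h 1 0 * (uS h 1 0 * (wS h * uS h 0 1) * (uS h 1 0)⁻¹) * (uS h 1 0)⁻¹ by group,
      hconj, ← conj_pow, hconj, ← pow_mul, mul_inv_eq_one] at e
    have h3 : (wS h * uS h 0 1) ^ 3 = 1 := by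
      have : (wS h * uS h 0 1) ^ 3 * (wS h * uS h 0 1) = wS h * uS h 0 1 := by rw [← pow_succ]; exact e
      exact mul_eq_right.1 this
    have := orderOf_dvd_of_pow_eq_one h3
    rw [h5] at this
    norm_num at this
  · exfalso
    push Not at hfaith
    obtain ⟨w₀, hw₀, hne⟩ := hfaith
    haveI : Fact (Nat.Prime 2) := ⟨Nat.prime_two⟩
    obtain ⟨w, hw, h1, h2⟩ := exists_pow_ne_one (p := 2) (r := 5) (by norm_num) (by norm_num) W hW (n := 1)
      (ι g) (hn g) (by rw [← map_pow]; simp [hg4]) (A.map ι) (hA.map ι)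
      (by rintro _ ⟨x, -, rfl⟩; exact hn x) (Subgroup.le_normalizer_map ι ⟨g, hgA, rfl⟩)
      (Or.inr fun n₀ e h1 h2 he heq => by
        interval_cases n₀
        · exact (Nat.one_lt_pow (by omega : e ≠ 0) (by norm_num : 1 < 5)).ne (by simpa using heq)
        · have : 5 ≤ 5 ^ e := Nat.le_self_pow (by omega) 5
          omega)
      ⟨ι a, Subgroup.mem_map_of_mem ι ha, w₀, hw₀, by simpa using hne⟩
    have h8 : orderOf (w * ι g) = 2 ^ (2 + 1) := orderOf_eq_prime_pow h1 h2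
    exact hX.no_eight (w * ι g) (by rw [h8]; norm_num)

/-- A cover centralises every `2`-group it normalises. -/
theorem two_group : ∀ (n : ℕ) (X : Type u) [Group X] [Finite X], Bound m X → ∀ (ι : D →* X)
    (K : Subgroup X), Nat.card K = n → IsPGroup 2 K → (∀ d, ι d ∈ Subgroup.normalizer (K : Set X)) →
    ∀ d, ∀ x ∈ K, Commute (ι d) x := by
  intro n
  induction n using Nat.strong_induction_on with
  | _ n ih =>
    intro X _ _ hX ι K hn hK hnorm d
    by_cases hK1 : K = ⊥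
    · intro x hx
      rw [hK1, Subgroup.mem_bot] at hx
      rw [hx]
      exact Commute.one_right _
    haveI : Fact (Nat.Prime 2) := ⟨Nat.prime_two⟩
    obtain ⟨W, hW1, hWK, hWe, hWc, hWn⟩ := exists_omega hK hK1
    have hWcen := two_elementary h hk hφ hD hX ι W hWe (fun d => hWn (hnorm d))
    set Y := Subgroup.normalizer (W : Set X)
    have hKY : K ≤ Y := fun x hx => hWn (Subgroup.le_normalizer hx)
    haveI : (W.subgroupOf Y).Normal := Subgroup.normal_in_normalizer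
    let ι₀ : D →* Y := ι.codRestrict Y fun d => hWn (hnorm d)
    let q := QuotientGroup.mk' (W.subgroupOf Y)
    let K' := (K.subgroupOf Y).map q
    have hlt : Nat.card K' < n := by
      have h1 := Subgroup.card_mul_index ((q.comp (K.subgroupOf Y).subtype).ker)
      rw [Subgroup.index_ker, MonoidHom.range_comp, Subgroup.range_subtype] at h1
      have h2 : Nat.card (K.subgroupOf Y) = n :=
        (Nat.card_congr (Subgroup.subgroupOfEquivOfLe hKY).toEquiv).trans hn
      rw [h2] at h1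
      have h3 : 1 < Nat.card (q.comp (K.subgroupOf Y).subtype).ker := by
        rw [Subgroup.one_lt_card_iff_ne_bot]
        obtain ⟨w, hw, hw1⟩ := W.bot_or_exists_ne_one.resolve_left hW1
        intro e
        refine hw1 ?_
        have : (⟨⟨w, hKY (hWK hw)⟩, hWK hw⟩ : K.subgroupOf Y) ∈ (q.comp (K.subgroupOf Y).subtype).ker :=
          (QuotientGroup.eq_one_iff _).2 hw
        rw [e, Subgroup.mem_bot] at this
        exact congrArg (fun x : K.subgroupOf Y => ((x : Y) : X)) this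
      rw [← h1]
      exact lt_mul_of_one_lt_left Nat.card_pos h3
    have hmod := ih _ hlt (Y ⧸ W.subgroupOf Y) ((hX.subgroup Y).quotient _) (q.comp ι₀) K' rfl
      ((hK.comap_of_injective Y.subtype Y.subtype_injective).map q)
      (fun e => Subgroup.le_normalizer_map q ⟨ι₀ e, by
        rw [SetLike.mem_coe, Subgroup.mem_normalizer_iff]
        intro y
        exact Subgroup.mem_normalizer_iff.1 (hnorm e) (y : X), rfl⟩)
    intro x hx
    have hc : ∀ e, ι e * x * (ι e)⁻¹ * x⁻¹ ∈ W := fun e => by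
      have hcomm : q (ι₀ e * ⟨x, hKY hx⟩ * (ι₀ e)⁻¹ * (⟨x, hKY hx⟩ : Y)⁻¹) = 1 := by
        rw [map_mul, map_mul, map_mul, map_inv, map_inv,
          show q (ι₀ e) * q ⟨x, hKY hx⟩ = q ⟨x, hKY hx⟩ * q (ι₀ e) from
            (hmod e _ (Subgroup.mem_map_of_mem q (show (⟨x, hKY hx⟩ : Y) ∈ K.subgroupOf Y from hx))).eq]
        group
      exact (QuotientGroup.eq_one_iff (N := W.subgroupOf Y) _).1 hcomm
    letI : CommGroup W := { W.toGroup with mul_comm := hWe.1.is_comm.comm }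
    let c : D →* W :=
      { toFun := fun e => ⟨_, hc e⟩
        map_one' := Subtype.ext (by simp)
        map_mul' := fun a b => Subtype.ext (by
          show ι (a * b) * x * (ι (a * b))⁻¹ * x⁻¹ = ι a * x * (ι a)⁻¹ * x⁻¹ * (ι b * x * (ι b)⁻¹ * x⁻¹)
          have h1 : ι a * (ι b * x * (ι b)⁻¹ * x⁻¹) = (ι b * x * (ι b)⁻¹ * x⁻¹) * ι a := (hWcen a _ (hc b)).eq
          have h2 := congrArg Subtype.val (hWe.1.is_comm.comm ⟨_, hc b⟩ ⟨_, hc a⟩)
          simp only [Subgroup.coe_mul] at h2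
          rw [← h2, map_mul]
          calc ι a * ι b * x * (ι a * ι b)⁻¹ * x⁻¹
              = ι a * (ι b * x * (ι b)⁻¹ * x⁻¹) * (x * (ι a)⁻¹ * x⁻¹) := by group
            _ = (ι b * x * (ι b)⁻¹ * x⁻¹) * (ι a * x * (ι a)⁻¹ * x⁻¹) := by rw [h1]; group) }
    have h1 := congrArg Subtype.val (hφ.hom_comm h hk c (fun a b => Commute.all _ _) d)
    exact mul_inv_eq_iff_eq_mul.1 (mul_inv_eq_one.1 h1)

/-- A `2`-element of the kernel is central. -/
theorem ker_two_central {x : D} (hx : φ x = 1) {a : ℕ} (ha : x ^ 2 ^ a = 1) (d : D) : Commute d x := by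
  haveI : Fact (Nat.Prime 2) := ⟨Nat.prime_two⟩
  obtain ⟨P, hPn, hP, -, hmem⟩ := hφ.exists_ker_sylow h hk 2
  exact two_group h hk hφ hD _ D hD (MonoidHom.id D) P rfl hP
    (fun e => by rw [Subgroup.normalizer_eq_top]; trivial) d x (hmem x hx ⟨a, ha⟩)

end Main

end Cfsg.Agent.Lib.SzSquareSpec
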